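import Mathlib

/-!
# Ring-level lemmas for the quadratic case of Hall–Higman's Theorem B, `p ≥ 5` (helper32)

* `quad_sum_conj_eq_zero`: in a ring `E` with `(p : E) = 0`, `p ≥ 5` prime, a unit `a` with
  `(a - 1)² = 0` satisfies `∑_{i<p} aⁱ g a⁻ⁱ = 0` for every `g : E`.
* `class_sum_argument`: a finite group `R` of units of class at most two acting on a module, a relation
  `m + ∑ wᵢ m = 0` on an `R`-invariant subgroup `M₂` with `wᵢ ∈ R` such that some commutator `⁅h, wᵢ⁆`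
  acts fixed-point-freely on `M₂`: then `|R| • m = 0` on `M₂`.
-/

set_option autoImplicit false

namespace Cfsg.Agent.Lib.Helper32

open scoped BigOperators commutatorElement

theorem sum_range_succ_sq_mul_six (n : ℕ) :
    (∑ i ∈ Finset.range (n + 1), i ^ 2) * 6 = n * (n + 1) * (2 * n + 1) := by
  induction n with
  | zero => simp
  | succ n ih =>
    rw [Finset.sum_range_succ, add_mul, ih]
    ring

theorem prime_dvd_sum_range {p : ℕ} (hp : p.Prime) (hp2 : p ≠ 2) :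
    p ∣ ∑ i ∈ Finset.range p, i := by
  have h := Finset.sum_range_id_mul_two p
  have h1 : p ∣ (∑ i ∈ Finset.range p, i) * 2 := by
    rw [h]
    exact Dvd.intro _ rfl
  rcases (Nat.Prime.dvd_mul hp).mp h1 with h2 | h2
  · exact h2
  · exact absurd ((Nat.prime_dvd_prime_iff_eq hp Nat.prime_two).mp h2) hp2

theorem prime_dvd_sum_range_sq {p : ℕ} (hp : p.Prime) (h5 : 5 ≤ p) :
    p ∣ ∑ i ∈ Finset.range p, i ^ 2 := by
  obtain ⟨n, rfl⟩ : ∃ n, p = n + 1 := ⟨p - 1, by omega⟩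
  have h := sum_range_succ_sq_mul_six n
  have h1 : (n + 1) ∣ (∑ i ∈ Finset.range (n + 1), i ^ 2) * 6 := by
    rw [h]
    exact ⟨n * (2 * n + 1), by ring⟩
  rcases (Nat.Prime.dvd_mul hp).mp h1 with h2 | h2
  · exact h2
  · exfalso
    have h6 : (6 : ℕ) = 2 * 3 := by norm_num
    rw [h6] at h2
    rcases (Nat.Prime.dvd_mul hp).mp h2 with h3 | h3
    · have := (Nat.prime_dvd_prime_iff_eq hp Nat.prime_two).mp h3
      omega
    · have := (Nat.prime_dvd_prime_iff_eq hp Nat.prime_three).mp h3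
      omega

variable {E : Type*} [Ring E]

/-- **The conjugation sum of a quadratic unit vanishes** (`p ≥ 5`). -/
theorem quad_sum_conj_eq_zero (p : ℕ) [Fact p.Prime] (h5 : 5 ≤ p) (hpE : (p : E) = 0)
    (a : Eˣ) (ha : ((a : E) - 1) ^ 2 = 0) (g : E) :
    ∑ i ∈ Finset.range p, ((a ^ i : Eˣ) : E) * g * (((a ^ i)⁻¹ : Eˣ) : E) = 0 := by
  have hp : p.Prime := Fact.out
  set n : E := (a : E) - 1 with hn
  have hn2 : n * n = 0 := by rw [← sq]; exact ha
  have ha_eq : (a : E) = 1 + n := by rw [hn]; abel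
  have hpow : ∀ i : ℕ, ((a ^ i : Eˣ) : E) = 1 + (i : E) * n := by
    intro i
    induction i with
    | zero => simp
    | succ i ih =>
      rw [pow_succ, Units.val_mul, ih, ha_eq]
      have hc : n * (i : E) = (i : E) * n := (Nat.cast_commute i n).eq.symm
      push_cast
      calc (1 + (i : E) * n) * (1 + n) = 1 + n + (i : E) * n + (i : E) * (n * n) := by noncomm_ring
        _ = 1 + ((i : E) + 1) * n := by rw [hn2]; noncomm_ring
  have hinv : ∀ i : ℕ, (((a ^ i)⁻¹ : Eˣ) : E) = 1 - (i : E) * n := by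
    intro i
    apply Units.inv_eq_of_mul_eq_one_right
    rw [hpow]
    have hc : n * (i : E) = (i : E) * n := (Nat.cast_commute i n).eq.symm
    calc (1 + (i : E) * n) * (1 - (i : E) * n)
        = 1 - (i : E) * (n * (i : E)) * n := by noncomm_ring
      _ = 1 - (i : E) * (i : E) * (n * n) := by rw [hc]; noncomm_ring
      _ = 1 := by rw [hn2]; simp
  have hterm : ∀ i : ℕ, ((a ^ i : Eˣ) : E) * g * (((a ^ i)⁻¹ : Eˣ) : E) =
      g + (i : E) * (n * g - g * n) - ((i ^ 2 : ℕ) : E) * (n * g * n) := by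
    intro i
    rw [hpow, hinv]
    have hc : ∀ x : E, x * (i : E) = (i : E) * x := fun x => (Nat.cast_commute i x).eq.symm
    have e1 : (1 + (i : E) * n) * g * (1 - (i : E) * n) =
        g + (i : E) * n * g - g * (i : E) * n - (i : E) * n * g * (i : E) * n := by noncomm_ring
    rw [e1, hc g]
    have e2 : (i : E) * n * g * (i : E) * n = (i : E) * (i : E) * (n * g * n) := by
      rw [show (i : E) * n * g * (i : E) = (i : E) * (n * g * (i : E)) by noncomm_ring, hc (n * g)]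
      noncomm_ring
    rw [e2]
    push_cast
    noncomm_ring
  rw [Finset.sum_congr rfl (fun i _ => hterm i), Finset.sum_sub_distrib, Finset.sum_add_distrib,
    Finset.sum_const, Finset.card_range, ← Finset.sum_mul, ← Finset.sum_mul, nsmul_eq_mul, hpE,
    zero_mul, zero_add, ← Nat.cast_sum, ← Nat.cast_sum]
  obtain ⟨k₁, hk₁⟩ := prime_dvd_sum_range hp (by omega)
  obtain ⟨k₂, hk₂⟩ := prime_dvd_sum_range_sq hp h5
  rw [hk₁, hk₂]
  push_cast
  rw [hpE]
  simp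

/-- **Class-sum argument.** -/
theorem class_sum_argument {M : Type*} [AddCommGroup M] [Module E M] (R : Subgroup Eˣ) [Finite R]
    (hcl : ∀ g ∈ R, ∀ h ∈ R, ∀ k ∈ R, ⁅g, h⁆ * k = k * ⁅g, h⁆)
    (M₂ : AddSubgroup M) (hinv : ∀ g ∈ R, ∀ m ∈ M₂, ((g : Eˣ) : E) • m ∈ M₂)
    {ι : Type*} (s : Finset ι) (w : ι → Eˣ) (hw : ∀ i ∈ s, w i ∈ R)
    (hrel : ∀ m ∈ M₂, m + ∑ i ∈ s, ((w i : Eˣ) : E) • m = 0)
    (hreg : ∀ i ∈ s, ∃ h ∈ R, ∀ m ∈ M₂, ((⁅h, w i⁆ : Eˣ) : E) • m = m → m = 0) :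
    ∀ m ∈ M₂, (Nat.card R) • m = 0 := by
  classical
  let _ : Fintype R := Fintype.ofFinite R
  intro m hm
  -- conjugated relation
  have hconj : ∀ h : R, m + ∑ i ∈ s, (((h : Eˣ) * w i * (h : Eˣ)⁻¹ : Eˣ) : E) • m = 0 := by
    intro h
    have hm' : (((h : Eˣ)⁻¹ : Eˣ) : E) • m ∈ M₂ := hinv _ (inv_mem h.2) m hm
    have h1 := hrel _ hm'
    have h2 := congrArg (fun x => ((h : Eˣ) : E) • x) h1
    simp only [smul_add, smul_zero, Finset.smul_sum] at h2
    rw [← mul_smul, Units.mul_inv, one_smul] at h2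
    rw [← h2]
    congr 1
    refine Finset.sum_congr rfl fun i _ => ?_
    rw [← mul_smul, ← mul_smul, Units.val_mul, Units.val_mul]
  -- each inner sum vanishes
  have hT : ∀ i ∈ s, ∑ h : R, (((h : Eˣ) * w i * (h : Eˣ)⁻¹ : Eˣ) : E) • m = 0 := by
    intro i hi
    obtain ⟨h₁, hh₁, hfix⟩ := hreg i hi
    apply hfix
    · refine M₂.sum_mem fun h _ => ?_
      exact hinv _ (mul_mem (mul_mem h.2 (hw i hi)) (inv_mem h.2)) m hm
    · rw [Finset.smul_sum]
      have hre : ∀ h : R, ((⁅h₁, w i⁆ : Eˣ) : E) • ((((h : Eˣ) * w i * (h : Eˣ)⁻¹ : Eˣ) : E) • m) =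
          ((((⟨h₁, hh₁⟩ * h : R) : Eˣ) * w i * ((⟨h₁, hh₁⟩ * h : R) : Eˣ)⁻¹ : Eˣ) : E) • m := by
        intro h
        rw [← mul_smul, ← Units.val_mul]
        congr 2
        -- `⁅h₁,w⁆ * (h w h⁻¹) = (h₁ h) w (h₁ h)⁻¹`
        have hcR : ⁅(h : Eˣ), w i⁆ ∈ R :=
          mul_mem (mul_mem (mul_mem h.2 (hw i hi)) (inv_mem h.2)) (inv_mem (hw i hi))
        have hdR : ⁅h₁, w i⁆ ∈ R :=
          mul_mem (mul_mem (mul_mem hh₁ (hw i hi)) (inv_mem hh₁)) (inv_mem (hw i hi))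
        have hc1 := hcl (h : Eˣ) h.2 (w i) (hw i hi) h₁ hh₁
        have hc2 := hcl (h : Eˣ) h.2 (w i) (hw i hi) _ hdR
        have e0 : (h : Eˣ) * w i * (h : Eˣ)⁻¹ = ⁅(h : Eˣ), w i⁆ * w i := by
          rw [commutatorElement_def]; group
        have ed : h₁ * w i * h₁⁻¹ = ⁅h₁, w i⁆ * w i := by
          rw [commutatorElement_def]; group
        have e1 : ((⟨h₁, hh₁⟩ * h : R) : Eˣ) = h₁ * (h : Eˣ) := rfl
        rw [e1]
        have e2 : h₁ * (h : Eˣ) * w i * (h₁ * (h : Eˣ))⁻¹ =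
            h₁ * ((h : Eˣ) * w i * (h : Eˣ)⁻¹) * h₁⁻¹ := by group
        rw [e2, e0]
        obtain ⟨c, hcdef⟩ : ∃ c, c = ⁅(h : Eˣ), w i⁆ := ⟨_, rfl⟩
        obtain ⟨d, hddef⟩ : ∃ d, d = ⁅h₁, w i⁆ := ⟨_, rfl⟩
        rw [← hcdef] at hc1 hc2 ⊢
        rw [← hddef] at hc2 ed ⊢
        calc d * (c * w i) = (d * c) * w i := by rw [mul_assoc]
          _ = (c * d) * w i := by rw [hc2]
          _ = c * (h₁ * w i * h₁⁻¹) := by rw [mul_assoc, ed]
          _ = (c * h₁) * w i * h₁⁻¹ := by group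
          _ = (h₁ * c) * w i * h₁⁻¹ := by rw [hc1]
          _ = h₁ * (c * w i) * h₁⁻¹ := by group
      rw [Finset.sum_congr rfl (fun h _ => hre h)]
      exact Fintype.sum_equiv (Equiv.mulLeft (⟨h₁, hh₁⟩ : R)) _ _ (fun h => rfl)
  have hsum : ∑ h : R, (m + ∑ i ∈ s, (((h : Eˣ) * w i * (h : Eˣ)⁻¹ : Eˣ) : E) • m) = 0 :=
    Finset.sum_eq_zero fun h _ => hconj h
  rw [Finset.sum_add_distrib, Finset.sum_const, Finset.card_univ, Finset.sum_comm,
    Finset.sum_eq_zero hT, add_zero, ← Nat.card_eq_fintype_card] at hsum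
  exact hsum

end Cfsg.Agent.Lib.Helper32
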