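import Mathlib
import Cfsg.Agent.Lib.Helper32.HHQRing
import Cfsg.Agent.Lib.Helper97.PStable
import Cfsg.Agent.Lib.Helper48.Generation
import Cfsg.Agent.S3736

/-!
# Hall–Higman Theorem B, quadratic case, for `p ≥ 5` (helper32)

`quad_mulAut_commute_of_five_le`: let `V` be a finite commutative group of prime exponent `p ≥ 5`,
`α` an automorphism of `V` with `(α - 1)² = 0` (multiplicatively `α (α v) * v = α v * α v`), and `R`
ANY group of automorphisms of `V` of order prime to `p` normalized by `α`. Then `α` centralizes `R`.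

(The abelian case is `Helper97.quad_mulAut_commute`, valid for all odd `p`; the reduction to a special
`r`-group is `S3736`; the special case uses `∑_{i<p} αⁱ g α⁻ⁱ = 0` in `End V` and a class-sum argument.)
-/

set_option autoImplicit false
open scoped BigOperators commutatorElement

namespace Cfsg.Agent.Lib.Helper32

open Cfsg.Agent.Lib.Helper97

variable {V : Type*} [CommGroup V]

/-- fixed points of an automorphism -/
def fixSub (z : MulAut V) : Subgroup V where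
  carrier := {v | z v = v}
  mul_mem' := by
    intro a b ha hb
    change z a = a at ha
    change z b = b at hb
    change z (a * b) = a * b
    rw [map_mul, ha, hb]
  one_mem' := map_one z
  inv_mem' := by
    intro a ha
    change z a = a at ha
    change z a⁻¹ = a⁻¹
    rw [map_inv, ha]

theorem mem_fixSub (z : MulAut V) (v : V) : v ∈ fixSub z ↔ z v = v := Iff.rfl

/-- coprime action on an abelian group: `C_V(Z) ∩ [V,Z] = 1`. -/
theorem eq_one_of_fixed_of_mem_commutator [Finite V] (p : ℕ) (hV : ∀ v : V, v ^ p = 1)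
    (Z : Subgroup (MulAut V)) (hZ : (Nat.card Z).Coprime p) (v : V)
    (hv : v ∈ Subgroup.closure {x : V | ∃ z ∈ Z, ∃ u : V, x = z u * u⁻¹})
    (hfix : ∀ z ∈ Z, z v = v) : v = 1 := by
  classical
  let _ : Fintype Z := Fintype.ofFinite Z
  -- the norm map
  let N : V →* V :=
    { toFun := fun u => ∏ z : Z, (z : MulAut V) u
      map_one' := by simp
      map_mul' := by
        intro a b
        simp only [map_mul]
        exact Finset.prod_mul_distrib }
  have hNgen : ∀ x ∈ {x : V | ∃ z ∈ Z, ∃ u : V, x = z u * u⁻¹}, N x = 1 := by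
    rintro x ⟨z₀, hz₀, u, rfl⟩
    rw [map_mul, map_inv, mul_inv_eq_one]
    show ∏ z : Z, (z : MulAut V) (z₀ u) = ∏ z : Z, (z : MulAut V) u
    exact Fintype.prod_equiv (Equiv.mulRight (⟨z₀, hz₀⟩ : Z)) _ _ (fun z => rfl)
  have hN1 : N v = 1 := by
    have hle : Subgroup.closure {x : V | ∃ z ∈ Z, ∃ u : V, x = z u * u⁻¹} ≤ N.ker := by
      rw [Subgroup.closure_le]
      intro x hx
      exact hNgen x hx
    exact hle hv
  have hN2 : N v = v ^ Nat.card Z := by
    show ∏ z : Z, (z : MulAut V) v = v ^ Nat.card Z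
    rw [Finset.prod_congr rfl (fun (z : Z) _ => hfix z.1 z.2), Finset.prod_const, Finset.card_univ,
      Nat.card_eq_fintype_card]
  rw [hN2] at hN1
  have h1 : orderOf v ∣ Nat.gcd (Nat.card Z) p :=
    Nat.dvd_gcd (orderOf_dvd_of_pow_eq_one hN1) (orderOf_dvd_of_pow_eq_one (hV v))
  rw [hZ.gcd_eq_one, Nat.dvd_one] at h1
  exact orderOf_eq_one_iff.mp h1

section groupids
variable {G : Type*} [Group G]

theorem comm_mul_right (h w w' : G) : ⁅h, w * w'⁆ = ⁅h, w⁆ * (w * ⁅h, w'⁆ * w⁻¹) := by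
  simp only [commutatorElement_def]; group

theorem comm_inv_right (h w : G) : ⁅h, w⁻¹⁆ = w⁻¹ * ⁅h, w⁆⁻¹ * w := by
  simp only [commutatorElement_def]; group

theorem comm_conj_right (h a w : G) : ⁅h, a * w * a⁻¹⁆ = a * ⁅a⁻¹ * h * a, w⁆ * a⁻¹ := by
  simp only [commutatorElement_def]; group

theorem comm_mul_left (a b g : G) : ⁅a * b, g⁆ = a * ⁅b, g⁆ * a⁻¹ * ⁅a, g⁆ := by
  simp only [commutatorElement_def]; group

theorem comm_conj_both (a g : G) : ⁅a, a * g * a⁻¹⁆ = a * ⁅a, g⁆ * a⁻¹ := by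
  simp only [commutatorElement_def]; group

theorem inv_eq_pow_pred {x : G} {n : ℕ} (hn : 0 < n) (h : x ^ n = 1) : x⁻¹ = x ^ (n - 1) := by
  apply inv_eq_of_mul_eq_one_left
  rw [← pow_succ, Nat.sub_add_cancel hn, h]

theorem exists_pow_eq_of_mem_zpowers {x : G} {n : ℕ} (hn : 0 < n) (h : x ^ n = 1) (y : G)
    (hy : y ∈ Subgroup.zpowers x) : ∃ k : ℕ, y = x ^ k := by
  obtain ⟨k, rfl⟩ := Subgroup.mem_zpowers_iff.mp hy
  cases k with
  | ofNat k => exact ⟨k, by simp⟩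
  | negSucc k =>
    refine ⟨(n - 1) * (k + 1), ?_⟩
    rw [zpow_negSucc, pow_mul, ← inv_eq_pow_pred hn h, inv_pow]

end groupids


/-- The special (class two) case: contradiction. -/
theorem hhq_core [Finite V] (p : ℕ) [Fact p.Prime] (h5 : 5 ≤ p)
    (hV : ∀ v : V, v ^ p = 1) (α : MulAut V) (hα : ∀ v : V, α (α v) * v = α v * α v)
    (R Zc : Subgroup (MulAut V)) (hRp : (Nat.card R).Coprime p)
    (hRα : ∀ r ∈ R, α * r * α⁻¹ ∈ R) (hZR : Zc ≤ R)
    (c1 : ∀ z ∈ Zc, ∀ g ∈ R, g * z = z * g)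
    (c2 : ∀ g ∈ R, ∀ h ∈ R, ⁅g, h⁆ ∈ Zc)
    (c3 : ∀ Y : Subgroup (MulAut V), (∀ g ∈ R, ∀ h ∈ R, ⁅g, h⁆ ∈ Y) → Zc ≤ Y)
    (c4 : ∃ g ∈ R, g ∉ Zc)
    (c5 : ∀ z ∈ Zc, α * z = z * α)
    (c6 : ∀ U : Subgroup (MulAut V), Zc ≤ U → U ≤ R → (∀ u ∈ U, α * u * α⁻¹ ∈ U) →
      U = Zc ∨ U = R)
    (c7 : R ≤ ⁅R, Subgroup.zpowers α⁆)
    (c8 : ∃ g ∈ R, ∃ h ∈ R, g * h ≠ h * g) : False := by
  classical
  have hp : p.Prime := Fact.out
  have hp0 : 0 < p := hp.pos
  have hαp : α ^ p = 1 := mulAut_pow_eq_one_of_quad hV α hα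
  have hpowR : ∀ k : ℕ, ∀ r ∈ R, α ^ k * r * (α ^ k)⁻¹ ∈ R := by
    intro k
    induction k with
    | zero => intro r hr; simpa using hr
    | succ k ih =>
      intro r hr
      have := hRα _ (ih r hr)
      have e : α ^ (k + 1) * r * (α ^ (k + 1))⁻¹ = α * (α ^ k * r * (α ^ k)⁻¹) * α⁻¹ := by
        rw [pow_succ']; group
      rw [e]; exact this
  have hRα' : ∀ r ∈ R, α⁻¹ * r * α ∈ R := by
    intro r hr
    have := hpowR (p - 1) r hr
    rw [← inv_eq_pow_pred hp0 hαp, inv_inv] at this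
    exact this
  have hpowZ : ∀ k : ℕ, ∀ z ∈ Zc, α ^ k * z = z * α ^ k := fun k z hz =>
    ((show Commute α z from c5 z hz).pow_left k).eq
  have hconjZ : ∀ z ∈ Zc, α * z * α⁻¹ = z := by
    intro z hz
    rw [c5 z hz]; group
  -- the commutator `[V, Zc]`
  set VZ : Subgroup V := Subgroup.closure {x : V | ∃ z ∈ Zc, ∃ u : V, x = z u * u⁻¹} with hVZ
  have hZcp : (Nat.card Zc).Coprime p :=
    Nat.Coprime.coprime_dvd_left (Subgroup.card_dvd_of_le hZR) hRp
  have hA : ∀ v ∈ VZ, (∀ z ∈ Zc, z v = v) → v = 1 := fun v hv hfix =>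
    eq_one_of_fixed_of_mem_commutator p hV Zc hZcp v hv hfix
  have hVZinv : ∀ φ : MulAut V, (∀ z ∈ Zc, φ * z = z * φ) → ∀ v ∈ VZ, φ v ∈ VZ := by
    intro φ hφ
    have hle : VZ ≤ VZ.comap φ.toMonoidHom := by
      rw [hVZ, Subgroup.closure_le]
      rintro x ⟨z, hz, u, rfl⟩
      change φ (z u * u⁻¹) ∈ Subgroup.closure {x : V | ∃ z ∈ Zc, ∃ u : V, x = z u * u⁻¹}
      rw [map_mul, map_inv]
      apply Subgroup.subset_closure
      refine ⟨z, hz, φ u, ?_⟩
      have := DFunLike.congr_fun (hφ z hz) u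
      simp only [MulAut.mul_apply] at this
      rw [this]
    exact fun v hv => hle hv
  -- a nontrivial element of `Zc`
  obtain ⟨g₀, hg₀, h₀, hh₀, hne₀⟩ := c8
  have hz₀ : ⁅g₀, h₀⁆ ∈ Zc := c2 g₀ hg₀ h₀ hh₀
  have hz₀ne : ⁅g₀, h₀⁆ ≠ 1 := by
    intro h
    rw [commutatorElement_eq_one_iff_mul_comm] at h
    exact hne₀ h
  have hVZne : VZ ≠ ⊥ := by
    obtain ⟨u, hu⟩ : ∃ u : V, ⁅g₀, h₀⁆ u ≠ u := by
      by_contra hcon
      push Not at hcon
      apply hz₀ne
      ext u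
      rw [hcon u]; rfl
    intro hbot
    have hmem : ⁅g₀, h₀⁆ u * u⁻¹ ∈ VZ := Subgroup.subset_closure ⟨_, hz₀, u, rfl⟩
    rw [hbot, Subgroup.mem_bot, mul_inv_eq_one] at hmem
    exact hu hmem
  -- the family of invariant subgroups
  let 𝒲 : Set (Subgroup V) := {W | W ≠ ⊥ ∧ W ≤ VZ ∧ (∀ g ∈ R, ∀ w ∈ W, g w ∈ W) ∧ ∀ w ∈ W, α w ∈ W}
  have hVZmem : VZ ∈ 𝒲 := by
    refine ⟨hVZne, le_rfl, ?_, ?_⟩
    · intro g hg v hv
      exact hVZinv g (fun z hz => c1 z hz g hg) v hv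
    · intro v hv
      exact hVZinv α c5 v hv
  obtain ⟨V₂, hV₂mem, hV₂min⟩ := wellFounded_lt.has_min 𝒲 ⟨VZ, hVZmem⟩
  obtain ⟨hV₂ne, hV₂le, hV₂R, hV₂α⟩ := hV₂mem
  have hdich : ∀ z ∈ Zc, (∀ v ∈ V₂, z v = v) ∨ (∀ v ∈ V₂, z v = v → v = 1) := by
    intro z hz
    by_cases hb : V₂ ⊓ fixSub z = ⊥
    · right
      intro v hv hzv
      have : v ∈ V₂ ⊓ fixSub z := ⟨hv, hzv⟩
      rw [hb, Subgroup.mem_bot] at this
      exact this
    · left
      have hW : V₂ ⊓ fixSub z ∈ 𝒲 := by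
        refine ⟨hb, inf_le_left.trans hV₂le, ?_, ?_⟩
        · rintro g hg w ⟨hw1, hw2⟩
          refine ⟨hV₂R g hg w hw1, ?_⟩
          change z (g w) = g w
          have h1 := DFunLike.congr_fun (c1 z hz g hg) w
          simp only [MulAut.mul_apply] at h1
          rw [← h1]
          congr 1
        · rintro w ⟨hw1, hw2⟩
          refine ⟨hV₂α w hw1, ?_⟩
          change z (α w) = α w
          have h1 := DFunLike.congr_fun (c5 z hz) w
          simp only [MulAut.mul_apply] at h1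
          rw [← h1]
          congr 1
      have hnlt := hV₂min _ hW
      have heq : V₂ ⊓ fixSub z = V₂ := eq_of_le_of_not_lt inf_le_left hnlt
      intro v hv
      have : v ∈ V₂ ⊓ fixSub z := by rw [heq]; exact hv
      exact this.2
  have hnotall : ∃ z₁ ∈ Zc, ¬ ∀ v ∈ V₂, z₁ v = v := by
    by_contra hcon
    push Not at hcon
    apply hV₂ne
    rw [eq_bot_iff]
    intro v hv
    rw [Subgroup.mem_bot]
    exact hA v (hV₂le hv) (fun z hz => hcon z hz v hv)
  -- the kernel `Z₀` of `Zc` on `V₂`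
  let Z₀ : Subgroup (MulAut V) :=
    { carrier := {z | z ∈ Zc ∧ ∀ v ∈ V₂, z v = v}
      mul_mem' := by
        rintro a b ⟨ha1, ha2⟩ ⟨hb1, hb2⟩
        refine ⟨mul_mem ha1 hb1, fun v hv => ?_⟩
        rw [MulAut.mul_apply, hb2 v hv, ha2 v hv]
      one_mem' := ⟨one_mem _, fun v _ => rfl⟩
      inv_mem' := by
        rintro a ⟨ha1, ha2⟩
        refine ⟨inv_mem ha1, fun v hv => ?_⟩
        conv_lhs => rw [← ha2 v hv]
        exact MulAut.inv_apply_self _ _ _ }
  have hZ₀mem : ∀ z, z ∈ Z₀ ↔ z ∈ Zc ∧ ∀ v ∈ V₂, z v = v := fun z => Iff.rfl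
  have hZ₀Zc : Z₀ ≤ Zc := fun z hz => hz.1
  have hZ₀ne : ¬ Zc ≤ Z₀ := by
    intro hle
    obtain ⟨z₁, hz₁, hz₁n⟩ := hnotall
    exact hz₁n (hle hz₁).2
  have hfpf : ∀ z ∈ Zc, z ∉ Z₀ → ∀ v ∈ V₂, z v = v → v = 1 := by
    intro z hz hzn
    rcases hdich z hz with h | h
    · exact absurd ⟨hz, h⟩ hzn
    · exact h
  -- `U₀`
  let U₀ : Subgroup (MulAut V) :=
    { carrier := {w | w ∈ R ∧ ∀ h ∈ R, ⁅h, w⁆ ∈ Z₀}
      mul_mem' := by
        rintro a b ⟨ha1, ha2⟩ ⟨hb1, hb2⟩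
        refine ⟨mul_mem ha1 hb1, fun h hh => ?_⟩
        rw [comm_mul_right]
        have hc : a * ⁅h, b⁆ * a⁻¹ = ⁅h, b⁆ := by
          rw [c1 _ (hZ₀Zc (hb2 h hh)) a ha1]; group
        rw [hc]
        exact mul_mem (ha2 h hh) (hb2 h hh)
      one_mem' := ⟨one_mem _, fun h _ => by
        rw [commutatorElement_one_right]; exact one_mem _⟩
      inv_mem' := by
        rintro a ⟨ha1, ha2⟩
        refine ⟨inv_mem ha1, fun h hh => ?_⟩
        rw [comm_inv_right]
        have hc : a⁻¹ * ⁅h, a⁆⁻¹ * a = ⁅h, a⁆⁻¹ := by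
          have := c1 _ (inv_mem (hZ₀Zc (ha2 h hh))) a ha1
          calc a⁻¹ * ⁅h, a⁆⁻¹ * a = a⁻¹ * (⁅h, a⁆⁻¹ * a) := by group
            _ = a⁻¹ * (a * ⁅h, a⁆⁻¹) := by rw [this]
            _ = ⁅h, a⁆⁻¹ := by group
        rw [hc]
        exact inv_mem (ha2 h hh) }
  have hU₀mem : ∀ w, w ∈ U₀ ↔ w ∈ R ∧ ∀ h ∈ R, ⁅h, w⁆ ∈ Z₀ := fun w => Iff.rfl
  have hZcU₀ : Zc ≤ U₀ := by
    intro z hz
    refine ⟨hZR hz, fun h hh => ?_⟩
    have : ⁅h, z⁆ = 1 := by
      rw [commutatorElement_eq_one_iff_mul_comm]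
      exact c1 z hz h hh
    rw [this]; exact one_mem _
  have hU₀R : U₀ ≤ R := fun w hw => hw.1
  have hU₀α : ∀ u ∈ U₀, α * u * α⁻¹ ∈ U₀ := by
    rintro u ⟨hu1, hu2⟩
    refine ⟨hRα u hu1, fun h hh => ?_⟩
    rw [comm_conj_right]
    have h1 : ⁅α⁻¹ * h * α, u⁆ ∈ Z₀ := hu2 _ (hRα' h hh)
    rw [hconjZ _ (hZ₀Zc h1)]
    exact h1
  have hU₀eq : U₀ = Zc := by
    rcases c6 U₀ hZcU₀ hU₀R hU₀α with h | h
    · exact h
    · exfalso
      apply hZ₀ne
      apply c3
      intro g hg h' hh'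
      have : h' ∈ U₀ := by rw [h]; exact hh'
      exact this.2 g hg
  have hK1 : ∀ w ∈ R, w ∉ Zc → ∃ h ∈ R, ⁅h, w⁆ ∉ Z₀ := by
    intro w hw hwn
    by_contra hcon
    push Not at hcon
    apply hwn
    rw [← hU₀eq]
    exact ⟨hw, hcon⟩
  -- `U₁`
  let U₁ : Subgroup (MulAut V) :=
    { carrier := {g | g ∈ R ∧ ⁅α, g⁆ ∈ Zc}
      mul_mem' := by
        rintro a b ⟨ha1, ha2⟩ ⟨hb1, hb2⟩
        refine ⟨mul_mem ha1 hb1, ?_⟩
        rw [comm_mul_right]
        have hc : a * ⁅α, b⁆ * a⁻¹ = ⁅α, b⁆ := by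
          rw [c1 _ hb2 a ha1]; group
        rw [hc]
        exact mul_mem ha2 hb2
      one_mem' := ⟨one_mem _, by rw [commutatorElement_one_right]; exact one_mem _⟩
      inv_mem' := by
        rintro a ⟨ha1, ha2⟩
        refine ⟨inv_mem ha1, ?_⟩
        rw [comm_inv_right]
        have hc : a⁻¹ * ⁅α, a⁆⁻¹ * a = ⁅α, a⁆⁻¹ := by
          have := c1 _ (inv_mem ha2) a ha1
          calc a⁻¹ * ⁅α, a⁆⁻¹ * a = a⁻¹ * (⁅α, a⁆⁻¹ * a) := by group
            _ = a⁻¹ * (a * ⁅α, a⁆⁻¹) := by rw [this]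
            _ = ⁅α, a⁆⁻¹ := by group
        rw [hc]
        exact inv_mem ha2 }
  have hZcU₁ : Zc ≤ U₁ := by
    intro z hz
    refine ⟨hZR hz, ?_⟩
    have : ⁅α, z⁆ = 1 := by
      rw [commutatorElement_eq_one_iff_mul_comm]
      exact c5 z hz
    rw [this]; exact one_mem _
  have hU₁R : U₁ ≤ R := fun w hw => hw.1
  have hU₁α : ∀ u ∈ U₁, α * u * α⁻¹ ∈ U₁ := by
    rintro u ⟨hu1, hu2⟩
    refine ⟨hRα u hu1, ?_⟩
    rw [comm_conj_both, hconjZ _ hu2]
    exact hu2
  -- powers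
  have hcommpow : ∀ (β : MulAut V), (∀ z ∈ Zc, β * z = z * β) → ∀ g : MulAut V, ⁅β, g⁆ ∈ Zc →
      ∀ j : ℕ, ⁅β ^ j, g⁆ ∈ Zc := by
    intro β hβ g hg j
    induction j with
    | zero => rw [pow_zero, commutatorElement_one_left]; exact one_mem _
    | succ j ih =>
      rw [pow_succ', comm_mul_left]
      have : β * ⁅β ^ j, g⁆ * β⁻¹ = ⁅β ^ j, g⁆ := by rw [hβ _ ih]; group
      rw [this]
      exact mul_mem ih hg
  have hU₁eq : U₁ = Zc := by
    rcases c6 U₁ hZcU₁ hU₁R hU₁α with h | h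
    · exact h
    · exfalso
      have hall : ∀ g ∈ R, ⁅α, g⁆ ∈ Zc := by
        intro g hg
        have : g ∈ U₁ := by rw [h]; exact hg
        exact this.2
      have hle : ⁅R, Subgroup.zpowers α⁆ ≤ Zc := by
        rw [Subgroup.commutator_le]
        intro g hg a' ha'
        obtain ⟨k, rfl⟩ := exists_pow_eq_of_mem_zpowers hp0 hαp a' ha'
        have h1 := hcommpow α c5 g (hall g hg) k
        have h2 : ⁅g, α ^ k⁆ = ⁅α ^ k, g⁆⁻¹ := (commutatorElement_inv _ _).symm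
        rw [h2]
        exact inv_mem h1
      obtain ⟨g, hg, hgn⟩ := c4
      exact hgn (hle (c7 hg))
  have hK2 : ∀ g ∈ R, g ∉ Zc → ∀ i : ℕ, 0 < i → i < p → ⁅α ^ i, g⁆ ∉ Zc := by
    intro g hg hgn i hi0 hip hmem
    apply hgn
    rw [← hU₁eq]
    refine ⟨hg, ?_⟩
    have hcop : Nat.Coprime i p := by
      rw [Nat.coprime_comm, Nat.Prime.coprime_iff_not_dvd hp]
      intro hd
      exact absurd (Nat.le_of_dvd hi0 hd) (by omega)
    obtain ⟨m, -, hm⟩ := Nat.exists_mul_mod_eq_one_of_coprime hcop hp.one_lt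
    have h1 := hcommpow (α ^ i) (hpowZ i) g hmem m
    rw [← pow_mul, pow_eq_pow_mod (i * m) hαp, hm, pow_one] at h1
    exact h1
  -- the ring computation
  obtain ⟨g, hg, hgn⟩ := c4
  have hpE : ((p : ℕ) : AddMonoid.End (Additive V)) = 0 := by
    ext x
    rw [AddMonoid.End.natCast_apply]
    change Additive.ofMul (x.toMul ^ p) = 0
    rw [hV]
    rfl
  have hquad : (((autToUnits V α : (AddMonoid.End (Additive V))ˣ) :
      AddMonoid.End (Additive V)) - 1) ^ 2 = 0 := by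
    ext x
    rw [sq, autToUnits_val]
    change autToEnd V α (autToEnd V α x - x) - (autToEnd V α x - x) = 0
    rw [map_sub]
    have h1 := hα x.toMul
    have h2 : autToEnd V α (autToEnd V α x) + x = autToEnd V α x + autToEnd V α x := by
      exact congrArg Additive.ofMul h1
    have : autToEnd V α (autToEnd V α x) = autToEnd V α x + autToEnd V α x - x :=
      eq_sub_of_add_eq h2
    rw [this]
    abel
  have hsum := quad_sum_conj_eq_zero p h5 hpE (autToUnits V α) hquad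
    ((autToUnits V g : (AddMonoid.End (Additive V))ˣ) : AddMonoid.End (Additive V))
  let w : ℕ → MulAut V := fun j => ⁅α ^ j, g⁆
  have hwR : ∀ j, w j ∈ R := fun j => mul_mem (hpowR j g hg) (inv_mem hg)
  have hsum2 : ∑ i ∈ Finset.range p, ((autToUnits V (w i) : (AddMonoid.End (Additive V))ˣ) :
      AddMonoid.End (Additive V)) = 0 := by
    have hterm : ∀ i : ℕ, (((autToUnits V α) ^ i : (AddMonoid.End (Additive V))ˣ) :
        AddMonoid.End (Additive V)) * ((autToUnits V g : (AddMonoid.End (Additive V))ˣ) :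
          AddMonoid.End (Additive V)) *
        ((((autToUnits V α) ^ i)⁻¹ : (AddMonoid.End (Additive V))ˣ) : AddMonoid.End (Additive V)) =
        ((autToUnits V (w i) : (AddMonoid.End (Additive V))ˣ) : AddMonoid.End (Additive V)) *
          ((autToUnits V g : (AddMonoid.End (Additive V))ˣ) : AddMonoid.End (Additive V)) := by
      intro i
      rw [← Units.val_mul, ← Units.val_mul, ← Units.val_mul, ← map_pow, ← map_inv, ← map_mul,
        ← map_mul, ← map_mul]
      congr 2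
      change α ^ i * g * (α ^ i)⁻¹ = ⁅α ^ i, g⁆ * g
      rw [commutatorElement_def]; group
    rw [Finset.sum_congr rfl (fun i _ => hterm i), ← Finset.sum_mul] at hsum
    have := congrArg (fun x => x * (((autToUnits V g)⁻¹ : (AddMonoid.End (Additive V))ˣ) :
      AddMonoid.End (Additive V))) hsum
    simp only [zero_mul, mul_assoc, Units.mul_inv, mul_one] at this
    exact this
  obtain ⟨q, hq⟩ : ∃ q, p = q + 1 := ⟨p - 1, by omega⟩
  have hrel0 : (1 : AddMonoid.End (Additive V)) + ∑ i ∈ Finset.range q,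
      ((autToUnits V (w (i + 1)) : (AddMonoid.End (Additive V))ˣ) :
        AddMonoid.End (Additive V)) = 0 := by
    rw [hq, Finset.sum_range_succ'] at hsum2
    have h0 : w 0 = 1 := by
      change ⁅α ^ 0, g⁆ = 1
      rw [pow_zero, commutatorElement_one_left]
    rw [h0, map_one, Units.val_one, add_comm] at hsum2
    exact hsum2
  -- apply the class-sum argument
  have hfinR : Finite (R.map (autToUnits V)) :=
    Finite.of_equiv R (R.equivMapOfInjective _ autToUnits_injective).toEquiv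
  have hcardR : Nat.card (R.map (autToUnits V)) = Nat.card R :=
    Nat.card_congr (R.equivMapOfInjective _ autToUnits_injective).toEquiv.symm
  have hsmul : ∀ (φ : MulAut V) (m : Additive V),
      ((autToUnits V φ : (AddMonoid.End (Additive V))ˣ) : AddMonoid.End (Additive V)) • m =
        Additive.ofMul (φ m.toMul) := fun φ m => rfl
  have hfin := class_sum_argument (E := AddMonoid.End (Additive V)) (M := Additive V)
    (R.map (autToUnits V))
    (by
      rintro _ ⟨g', hg', rfl⟩ _ ⟨h', hh', rfl⟩ _ ⟨k', hk', rfl⟩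
      rw [← map_commutatorElement, ← map_mul, ← map_mul]
      congr 1
      exact (c1 _ (c2 g' hg' h' hh') k' hk').symm)
    (Subgroup.toAddSubgroup V₂)
    (by
      rintro _ ⟨g', hg', rfl⟩ m hm
      rw [hsmul]
      exact hV₂R g' hg' _ hm)
    (Finset.range q) (fun i => autToUnits V (w (i + 1)))
    (fun i _ => ⟨w (i + 1), hwR _, rfl⟩)
    (by
      intro m hm
      have := congrArg (fun x : AddMonoid.End (Additive V) => x • m) hrel0
      simp only [add_smul, one_smul, Finset.sum_smul] at this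
      exact this)
    (by
      intro i hi
      have hi' : i < q := Finset.mem_range.mp hi
      have hwn : w (i + 1) ∉ Zc := hK2 g hg hgn (i + 1) (by omega) (by omega)
      obtain ⟨h, hh, hy⟩ := hK1 (w (i + 1)) (hwR _) hwn
      refine ⟨autToUnits V h, ⟨h, hh, rfl⟩, ?_⟩
      intro m hm hfix
      rw [← map_commutatorElement, hsmul] at hfix
      have h1 : (⁅h, w (i + 1)⁆ : MulAut V) m.toMul = m.toMul := congrArg Additive.toMul hfix
      have h2 := hfpf _ (c2 h hh _ (hwR _)) hy m.toMul hm h1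
      exact congrArg Additive.ofMul h2)
  apply hV₂ne
  rw [eq_bot_iff]
  intro v hv
  rw [Subgroup.mem_bot]
  have h1 := hfin (Additive.ofMul v) hv
  rw [hcardR] at h1
  have h2 : v ^ Nat.card R = 1 := congrArg Additive.toMul h1
  have h3 : orderOf v ∣ Nat.gcd (Nat.card R) p :=
    Nat.dvd_gcd (orderOf_dvd_of_pow_eq_one h2) (orderOf_dvd_of_pow_eq_one (hV v))
  rw [hRp.gcd_eq_one, Nat.dvd_one] at h3
  exact orderOf_eq_one_iff.mp h3

/-- **Hall–Higman Theorem B, quadratic case, `p ≥ 5`**: a quadratic automorphism `α` of an elementary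
abelian `p`-group centralizes every `p'`-group of automorphisms that it normalizes. -/
theorem quad_mulAut_commute_of_five_le_aux [Finite V] (p : ℕ) [Fact p.Prime] (h5 : 5 ≤ p)
    (hV : ∀ v : V, v ^ p = 1) (α : MulAut V) (hα : ∀ v : V, α (α v) * v = α v * α v) :
    ∀ (n : ℕ) (R : Subgroup (MulAut V)), Nat.card R = n → (Nat.card R).Coprime p →
      (∀ r ∈ R, α * r * α⁻¹ ∈ R) → ∀ r ∈ R, α * r = r * α := by
  intro n
  induction n using Nat.strong_induction_on with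
  | _ n ih =>
  intro R hn hRp hRα
  by_contra hcon
  push Not at hcon
  obtain ⟨x₀, hx₀, hx₀n⟩ := hcon
  have hp : p.Prime := Fact.out
  have hp0 : 0 < p := hp.pos
  have hαp : α ^ p = 1 := mulAut_pow_eq_one_of_quad hV α hα
  have hAnorm : ∀ U : Subgroup (MulAut V), (∀ u ∈ U, α * u * α⁻¹ ∈ U) →
      Subgroup.zpowers α ≤ Subgroup.normalizer (U : Set (MulAut V)) := by
    intro U hU
    rw [Subgroup.zpowers_le]
    exact Subgroup.mem_normalizer_fintype hU
  have hIH : ∀ U : Subgroup (MulAut V), U < R → (∀ u ∈ U, α * u * α⁻¹ ∈ U) →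
      ∀ u ∈ U, α * u = u * α := by
    intro U hlt hU
    have hle : Nat.card U ≤ Nat.card R := Subgroup.card_le_of_le hlt.le
    have hlt' : Nat.card U < n := by
      rw [← hn]
      rcases hle.lt_or_eq with h | h
      · exact h
      · exact absurd (Subgroup.eq_of_le_of_card_ge hlt.le h.ge) hlt.ne
    exact ih _ hlt' U rfl (Nat.Coprime.coprime_dvd_left (Subgroup.card_dvd_of_le hlt.le) hRp) hU
  have hzpP : IsPGroup p (Subgroup.zpowers α) := by
    rintro ⟨y, hy⟩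
    obtain ⟨k, rfl⟩ := exists_pow_eq_of_mem_zpowers hp0 hαp y hy
    refine ⟨1, Subtype.ext ?_⟩
    rw [Subgroup.coe_pow, Subgroup.coe_one, pow_one, ← pow_mul, mul_comm, pow_mul, hαp, one_pow]
  have hpR : ¬ p ∣ Nat.card R := by
    rw [← Nat.Prime.coprime_iff_not_dvd hp]
    exact hRp.symm
  -- reduction to an `r`-group
  have hr : ∃ r : ℕ, r.Prime ∧ IsPGroup r R := by
    by_contra hno
    push Not at hno
    have hall : ∀ q : ℕ, q.Prime → q ^ (Nat.card R).factorization q ∣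
        Nat.card (R ⊓ Subgroup.centralizer {α} : Subgroup (MulAut V)) := by
      intro q hq
      have : Fact q.Prime := ⟨hq⟩
      obtain ⟨Q, hQR, hQq, hQcard, hQn⟩ :=
        Cfsg.Agent.Lib.Helper48.exists_invariant_sylow (Subgroup.zpowers α) R hzpP
          (hAnorm R hRα) hpR q
      have hQlt : Q < R := by
        refine lt_of_le_of_ne hQR ?_
        rintro rfl
        exact hno q hq hQq
      have hQα : ∀ u ∈ Q, α * u * α⁻¹ ∈ Q := fun u hu =>
        (Subgroup.mem_normalizer_iff.mp (hQn (Subgroup.mem_zpowers α)) u).mp hu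
      have hQc := hIH Q hQlt hQα
      have hQle : Q ≤ R ⊓ Subgroup.centralizer {α} := by
        intro u hu
        refine ⟨hQR hu, ?_⟩
        show u ∈ Subgroup.centralizer {α}
        rw [Subgroup.mem_centralizer_singleton_iff]
        exact (hQc u hu).symm
      rw [← hQcard]
      exact Subgroup.card_dvd_of_le hQle
    have hdvd : Nat.card R ∣ Nat.card (R ⊓ Subgroup.centralizer {α} : Subgroup (MulAut V)) := by
      rw [← Nat.factorization_le_iff_dvd Nat.card_pos.ne' Nat.card_pos.ne']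
      intro q
      by_cases hq : q.Prime
      · exact (hq.pow_dvd_iff_le_factorization Nat.card_pos.ne').mp (hall q hq)
      · rw [Nat.factorization_eq_zero_of_not_prime _ hq]
        exact Nat.zero_le _
    have heq : R ⊓ Subgroup.centralizer {α} = R :=
      Subgroup.eq_of_le_of_card_ge inf_le_left (Nat.le_of_dvd Nat.card_pos hdvd)
    have : x₀ ∈ R ⊓ Subgroup.centralizer {α} := by rw [heq]; exact hx₀
    have h2 : x₀ ∈ Subgroup.centralizer {α} := this.2
    rw [Subgroup.mem_centralizer_singleton_iff] at h2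
    exact hx₀n h2.symm
  obtain ⟨r, hrp, hRr⟩ := hr
  have : Fact r.Prime := ⟨hrp⟩
  have hRne : R ≠ ⊥ := by
    rintro rfl
    rw [Subgroup.mem_bot] at hx₀
    apply hx₀n
    rw [hx₀, mul_one, one_mul]
  have hrne : r ≠ p := by
    rintro rfl
    obtain ⟨k, hk⟩ := IsPGroup.iff_card.mp hRr
    have hk0 : k ≠ 0 := by
      rintro rfl
      rw [pow_zero] at hk
      exact hRne ((Subgroup.card_eq_one).mp hk)
    apply hpR
    rw [hk]
    exact dvd_pow_self _ hk0
  by_cases hab : ∀ x ∈ R, ∀ y ∈ R, x * y = y * x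
  · exact hx₀n (quad_mulAut_commute p (by omega) hV α hα R hab hRp hRα x₀ hx₀)
  push Not at hab
  obtain ⟨x₁, hx₁, y₁, hy₁, hxy₁⟩ := hab
  have hAp : (Nat.card (Subgroup.zpowers α)).Coprime r := by
    obtain ⟨k, hk⟩ := IsPGroup.iff_card.mp hzpP
    rw [hk]
    exact Nat.Coprime.pow_left _ ((Nat.coprime_primes hp hrp).mpr hrne.symm)
  have hnt : ⁅R, Subgroup.zpowers α⁆ ≠ ⊥ := by
    intro h
    rw [Subgroup.commutator_eq_bot_iff_le_centralizer] at h
    have := h hx₀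
    rw [Subgroup.mem_centralizer_iff] at this
    exact hx₀n (this α (Subgroup.mem_zpowers α))
  have hmin : ∀ U : Subgroup (MulAut V), U < R →
      Subgroup.zpowers α ≤ Subgroup.normalizer (U : Set (MulAut V)) →
      ⁅U, Subgroup.zpowers α⁆ = ⊥ := by
    intro U hlt hUn
    have hUα : ∀ u ∈ U, α * u * α⁻¹ ∈ U := fun u hu =>
      (Subgroup.mem_normalizer_iff.mp (hUn (Subgroup.mem_zpowers α)) u).mp hu
    have hc := hIH U hlt hUα
    rw [Subgroup.commutator_eq_bot_iff_le_centralizer]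
    intro u hu
    rw [Subgroup.mem_centralizer_iff]
    intro a' ha'
    obtain ⟨k, rfl⟩ := Subgroup.mem_zpowers_iff.mp ha'
    exact ((show Commute α u from hc u hu).zpow_left k).eq
  obtain ⟨h1, h2, h3, -⟩ := Cfsg.Agent.S3736.result (Subgroup.zpowers α) (Subgroup.zpowers α) R hRr
    (hAnorm R hRα) le_rfl Subgroup.le_normalizer hAp hnt hmin
  rcases h2 with hel | ⟨-, hΦ, hcomm⟩
  · have := hel.1.is_comm.comm ⟨x₁, hx₁⟩ ⟨y₁, hy₁⟩
    exact hxy₁ (congrArg Subtype.val this)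
  set Zc : Subgroup (MulAut V) := (Subgroup.center ↥R).map R.subtype with hZc
  have hZR : Zc ≤ R := Subgroup.map_subtype_le _
  have c1 : ∀ z ∈ Zc, ∀ g ∈ R, g * z = z * g := by
    rintro _ ⟨z', hz', rfl⟩ g hg
    have := Subgroup.mem_center_iff.mp hz' ⟨g, hg⟩
    exact congrArg Subtype.val this
  have c2 : ∀ g ∈ R, ∀ h ∈ R, ⁅g, h⁆ ∈ Zc := by
    intro g hg h hh
    have hm : ⁅(⟨g, hg⟩ : ↥R), ⟨h, hh⟩⁆ ∈ commutator ↥R :=
      Subgroup.commutator_mem_commutator (Subgroup.mem_top _) (Subgroup.mem_top _)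
    rw [hcomm] at hm
    refine ⟨_, hm, ?_⟩
    simp [commutatorElement_def]
  have c3 : ∀ Y : Subgroup (MulAut V), (∀ g ∈ R, ∀ h ∈ R, ⁅g, h⁆ ∈ Y) → Zc ≤ Y := by
    intro Y hY
    rw [hZc, ← hcomm, commutator_eq_closure, Subgroup.map_le_iff_le_comap, Subgroup.closure_le]
    rintro _ ⟨a, b, rfl⟩
    have := hY a a.2 b b.2
    rw [SetLike.mem_coe, Subgroup.mem_comap]
    simpa [commutatorElement_def] using this
  have c4 : ∃ g ∈ R, g ∉ Zc := ⟨x₁, hx₁, fun h => hxy₁ (c1 x₁ h y₁ hy₁).symm⟩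
  have hZlt : Zc < R := by
    refine lt_of_le_of_ne hZR ?_
    intro h
    obtain ⟨g, hg, hgn⟩ := c4
    exact hgn (by rw [h]; exact hg)
  have hZα : ∀ z ∈ Zc, α * z * α⁻¹ ∈ Zc := by
    have := Cfsg.Agent.S3736.le_normalizer_map_of_characteristic (hAnorm R hRα)
      (Subgroup.center ↥R) inferInstance
    intro z hz
    exact (Subgroup.mem_normalizer_iff.mp (this (Subgroup.mem_zpowers α)) z).mp hz
  have c5 : ∀ z ∈ Zc, α * z = z * α := hIH Zc hZlt hZα
  have c6 : ∀ U : Subgroup (MulAut V), Zc ≤ U → U ≤ R → (∀ u ∈ U, α * u * α⁻¹ ∈ U) →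
      U = Zc ∨ U = R := by
    intro U hZU hUR hUα
    have := h3 U (by rw [hΦ]; exact hZU) hUR (hAnorm U hUα)
    rw [hΦ] at this
    exact this
  exact hhq_core p h5 hV α hα R Zc hRp hRα hZR c1 c2 c3 c4 c5 c6 h1.ge ⟨x₁, hx₁, y₁, hy₁, hxy₁⟩

theorem quad_mulAut_commute_of_five_le [Finite V] (p : ℕ) [Fact p.Prime] (h5 : 5 ≤ p)
    (hV : ∀ v : V, v ^ p = 1) (α : MulAut V) (hα : ∀ v : V, α (α v) * v = α v * α v)
    (R : Subgroup (MulAut V)) (hRp : (Nat.card R).Coprime p)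
    (hRα : ∀ r ∈ R, α * r * α⁻¹ ∈ R) : ∀ r ∈ R, α * r = r * α :=
  quad_mulAut_commute_of_five_le_aux p h5 hV α hα _ R rfl hRp hRα

end Cfsg.Agent.Lib.Helper32
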