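import Mathlib
import Cfsg.Prelude.Def_PLocal
import Cfsg.Prelude.Def_LocalEven
import Cfsg.Agent.Lib.Helper32.HHQAut
import Cfsg.Agent.Lib.Helper76.PCore
import Cfsg.Agent.Lib.Helper97.PStable
import Cfsg.Agent.Lib.Helper97.PStable2
import Cfsg.Agent.Lib.Helper97.PStable3
import Cfsg.Agent.Lib.Helper97.Cores
import Cfsg.Agent.Lib.Helper70.FrattiniFaithful

/-!
# `p`-stability of finite `p`-solvable groups, `p ≥ 5` (helper32)

Consequences of the quadratic case of Hall–Higman's Theorem B (`Helper32.quad_mulAut_commute_of_five_le`):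

* `isPSolvable_subgroup`: subgroups of `p`-solvable groups are `p`-solvable;
* `centralizer_pPrimeCore_le`: dual Hall–Higman 1.2.3 (`O_p(G) = 1 ⇒ C_G(O_{p'}(G)) ≤ O_{p'}(G)`);
* `mulAut_eq_one_of_quadratic`: a quadratic automorphism in a `p`-solvable group of automorphisms
  with trivial `O_p` is trivial;
* `exists_normal_of_quadratic_psolv`, `exists_normal_of_quadratic_mod_psolv`,
  `exists_normal_of_quadratic_pgroup_psolv`: a quadratic element lies in a normal subgroup acting as a
  `p`-group (same shape as `Helper97.exists_normal_of_quadratic` etc.);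
* `isPStableOn_of_isPSolvable`, `isPStableOnSection_of_isPSolvable`,
  `isNormalizerPStable_of_isPSolvable`: the frozen predicates.

The derivations from `exists_normal_of_quadratic_psolv` on are adapted from helper97's
`Lib/Helper97/PStable*.lean` (which treat `p` odd and groups with abelian `p'`-part).
-/

set_option autoImplicit false
open scoped commutatorElement
open Cfsg

namespace Cfsg.Agent.Lib.Helper32

open Cfsg.Agent.Lib.Helper97 Cfsg.Agent.Lib.Helper76

universe u

section psolv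
variable {G : Type*} [Group G]

/-- subgroups of `p`-solvable groups are `p`-solvable. -/
theorem isPSolvable_subgroup (p : ℕ) [Fact p.Prime] (h : IsPSolvable p G) (K : Subgroup G) :
    IsPSolvable p ↥K := by
  obtain ⟨n, H, h0, hlast, hmono, hnorm, hstep⟩ := h
  refine ⟨n, fun i => (H i).subgroupOf K, ?_, ?_, ?_, ?_, ?_⟩
  · simp only [h0]
    exact Subgroup.bot_subgroupOf K
  · simp only [hlast]
    exact Subgroup.top_subgroupOf K
  · intro i j hij
    exact Subgroup.comap_mono (hmono hij)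
  · intro i
    exact (hnorm i).subgroupOf K
  · intro i
    have hle : H i.castSucc ≤ H i.succ := hmono (Fin.castSucc_lt_succ (i := i)).le
    have hdvd : ((H i.castSucc).subgroupOf K).relIndex ((H i.succ).subgroupOf K)
        ∣ (H i.castSucc).relIndex (H i.succ) := by
      have := hnorm i.castSucc
      have e1 : ((H i.castSucc).subgroupOf K).relIndex ((H i.succ).subgroupOf K) =
          (H i.castSucc).relIndex (H i.succ ⊓ K) := by
        rw [Subgroup.subgroupOf, Subgroup.relIndex_comap, Subgroup.subgroupOf_map_subtype]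
      rw [e1]
      have h2 : (H i.castSucc).relIndex (H i.succ ⊓ K) =
          (H i.castSucc).relIndex (H i.castSucc ⊔ (H i.succ ⊓ K)) := by
        rw [Subgroup.relIndex_sup_left]
      rw [h2]
      have h3 : H i.castSucc ⊔ (H i.succ ⊓ K) ≤ H i.succ := sup_le hle inf_le_left
      have h4 := Subgroup.relIndex_mul_relIndex (H i.castSucc) (H i.castSucc ⊔ (H i.succ ⊓ K))
        (H i.succ) le_sup_left h3
      exact Dvd.intro _ h4
    rcases hstep i with ⟨m, hm⟩ | hc
    · left
      rw [hm] at hdvd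
      obtain ⟨j, _, hj⟩ := (Nat.dvd_prime_pow Fact.out).mp hdvd
      exact ⟨j, hj⟩
    · right
      exact Nat.Coprime.coprime_dvd_left hdvd hc


/-- Dual key step of Hall–Higman 1.2.3: a normal subgroup `A` with a `G`-normal central `p'`-subgroup
`B` of `p`-power index equals `B`, if `G` has no nontrivial normal `p`-subgroups. -/
theorem le_of_central_pPrime_relIndex [Finite G] (p : ℕ) [Fact p.Prime]
    (hcore : ∀ N : Subgroup G, N.Normal → IsPGroup p N → N = ⊥)
    (A B : Subgroup G) (hA : A.Normal) (hBA : B ≤ A) (hB : B.Normal)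
    (hBp : (Nat.card B).Coprime p)
    (hcomm : ∀ b ∈ B, ∀ a ∈ A, a * b = b * a)
    (hidx : ∃ j : ℕ, B.relIndex A = p ^ j) : A ≤ B := by
  have hp : p.Prime := Fact.out
  obtain ⟨j, hj⟩ := hidx
  have hB'n : (B.subgroupOf A).Normal := inferInstance
  have hB'card : Nat.card (B.subgroupOf A) = Nat.card B :=
    Nat.card_congr (Subgroup.subgroupOfEquivOfLe hBA).toEquiv
  have hcop : Nat.Coprime (Nat.card (B.subgroupOf A)) (B.subgroupOf A).index := by
    rw [hB'card]
    change Nat.Coprime (Nat.card B) (B.relIndex A)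
    rw [hj]
    exact Nat.Coprime.pow_right j hBp
  obtain ⟨M', hM'⟩ := Subgroup.exists_right_complement'_of_coprime hcop
  set M : Subgroup G := M'.map A.subtype with hM
  have hMA : M ≤ A := Subgroup.map_subtype_le M'
  have hMcard : Nat.card M = B.relIndex A := by
    rw [hM, Subgroup.card_subtype]
    exact hM'.symm.index_eq_card.symm
  have hMp : IsPGroup p M := IsPGroup.of_card (hMcard.trans hj)
  -- every element of `A` of `p`-power order lies in `M`
  have hmem : ∀ y ∈ A, (∃ k : ℕ, orderOf y = p ^ k) → y ∈ M := by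
    intro y hy hyo
    obtain ⟨k, hk⟩ := hyo
    obtain ⟨⟨⟨b, hb⟩, ⟨m, hm⟩⟩, hbm, -⟩ := hM'.existsUnique ⟨y, hy⟩
    simp only at hbm
    have hbB : (b : G) ∈ B := by simpa [Subgroup.mem_subgroupOf] using hb
    have hmA : (m : G) ∈ A := m.2
    have hyeq : y = (b : G) * (m : G) := by
      have := congrArg Subtype.val hbm
      simpa using this.symm
    have hc : Commute (b : G) (m : G) := (hcomm _ hbB _ hmA).symm
    have h1 : (b : G) ^ orderOf y * (m : G) ^ orderOf y = 1 := by
      rw [← hc.mul_pow, ← hyeq, pow_orderOf_eq_one]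
    have hbn : (b ^ orderOf y : A) ∈ B.subgroupOf A := Subgroup.pow_mem _ hb _
    have hbn' : (b ^ orderOf y : A) ∈ M' := by
      have : (b ^ orderOf y : A) = (m ^ orderOf y)⁻¹ := by
        apply Subtype.ext
        have := eq_inv_of_mul_eq_one_left h1
        simpa using this
      rw [this]
      exact M'.inv_mem (M'.pow_mem hm _)
    have hb1 : (b ^ orderOf y : A) = 1 := by
      have := hM'.disjoint.le_bot ⟨hbn, hbn'⟩
      simpa using this
    have hb1' : (b : G) ^ orderOf y = 1 := by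
      have := congrArg Subtype.val hb1
      simpa using this
    have hb2 : (b : G) ^ Nat.card B = 1 := by
      have h := pow_card_eq_one' (G := B) (x := ⟨(b : G), hbB⟩)
      have h' := congrArg Subtype.val h
      rw [Subgroup.coe_pow, Subgroup.coe_one] at h'
      exact h'
    have hbone : (b : G) = 1 := by
      have h3 : orderOf (b : G) ∣ Nat.gcd (Nat.card B) (orderOf y) :=
        Nat.dvd_gcd (orderOf_dvd_of_pow_eq_one hb2) (orderOf_dvd_of_pow_eq_one hb1')
      rw [hk, (Nat.Coprime.pow_right k hBp).gcd_eq_one, Nat.dvd_one] at h3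
      exact orderOf_eq_one_iff.mp h3
    rw [hyeq, hbone, one_mul]
    exact ⟨m, hm, rfl⟩
  have hMn : M.Normal := by
    constructor
    intro x hx g
    apply hmem
    · exact hA.conj_mem x (hMA hx) g
    · have : orderOf (g * x * g⁻¹) = orderOf x := by
        simpa using orderOf_injective (MulAut.conj g).toMonoidHom (MulAut.conj g).injective x
      rw [this]
      obtain ⟨k, hk⟩ := (IsPGroup.iff_orderOf.mp hMp) ⟨x, hx⟩
      exact ⟨k, by rw [← hk, Subgroup.orderOf_mk]⟩
  have hMbot : M = ⊥ := hcore M hMn hMp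
  have hidx1 : B.relIndex A = 1 := by
    rw [← hMcard, hMbot]; simp
  exact Subgroup.relIndex_eq_one.mp hidx1

/-- **Dual Hall–Higman Lemma 1.2.3**: in a finite `p`-solvable group with `O_p(G) = 1`, the
centralizer of `O_{p'}(G)` is contained in `O_{p'}(G)`. -/
theorem centralizer_pPrimeCore_le [Finite G] (p : ℕ) [Fact p.Prime] (hsolv : IsPSolvable p G)
    (hcore : ∀ N : Subgroup G, N.Normal → IsPGroup p N → N = ⊥) :
    Subgroup.centralizer (pPrimeCore p G : Set G) ≤ pPrimeCore p G := by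
  have hRn : (pPrimeCore p G).Normal := inferInstance
  have hCn : (Subgroup.centralizer (pPrimeCore p G : Set G)).Normal := Subgroup.normal_centralizer
  have hRcop : (Nat.card (pPrimeCore p G)).Coprime p := pPrimeCore_coprime p
  set R := pPrimeCore p G with hR
  set C := Subgroup.centralizer (R : Set G) with hC
  obtain ⟨n, H, h0, hlast, hmono, hnorm, hstep⟩ := hsolv
  have key : ∀ i : Fin (n + 1), C ⊓ H i ≤ R := by
    intro i
    induction i using Fin.induction with
    | zero => rw [h0]; simp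
    | succ i ih =>
      have hle : H i.castSucc ≤ H i.succ := hmono (Fin.castSucc_lt_succ (i := i)).le
      set A := C ⊓ H i.succ with hAdef
      set B := C ⊓ H i.castSucc with hBdef
      have hAn : A.Normal := by
        have := hnorm i.succ
        exact inferInstance
      have hBn : B.Normal := by
        have := hnorm i.castSucc
        exact inferInstance
      have hBA : B ≤ A := inf_le_inf_left C hle
      have hBcop : (Nat.card B).Coprime p :=
        Nat.Coprime.coprime_dvd_left (Subgroup.card_dvd_of_le ih) hRcop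
      have hdvd : B.relIndex A ∣ (H i.castSucc).relIndex (H i.succ) := by
        have h1 : B = A ⊓ H i.castSucc := by
          rw [hBdef, hAdef, inf_assoc, inf_eq_right.mpr hle]
        rw [h1, Subgroup.inf_relIndex_left]
        have := hnorm i.castSucc
        have h2 : (H i.castSucc).relIndex A = (H i.castSucc).relIndex (H i.castSucc ⊔ A) := by
          rw [Subgroup.relIndex_sup_left]
        rw [h2]
        have h3 : H i.castSucc ⊔ A ≤ H i.succ := sup_le hle inf_le_right
        have h4 := Subgroup.relIndex_mul_relIndex (H i.castSucc) (H i.castSucc ⊔ A) (H i.succ)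
          le_sup_left h3
        exact Dvd.intro _ h4
      rcases hstep i with ⟨m, hm⟩ | hc
      · -- `p`-power case
        rw [hm] at hdvd
        obtain ⟨j, _, hj⟩ := (Nat.dvd_prime_pow Fact.out).mp hdvd
        have hcomm : ∀ b ∈ B, ∀ a ∈ A, a * b = b * a := by
          intro b hb a ha
          have haC : a ∈ C := ha.1
          have hbR : b ∈ R := ih hb
          exact (Subgroup.mem_centralizer_iff.mp haC b hbR).symm
        exact (le_of_central_pPrime_relIndex p hcore A B hAn hBA hBn hBcop hcomm ⟨j, hj⟩).trans ih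
      · -- `p'` case: `A` is a normal `p'`-subgroup
        have hcop : (B.relIndex A).Coprime p := Nat.Coprime.coprime_dvd_left hdvd hc
        have h1 : Nat.card (B.subgroupOf A) * B.relIndex A = Nat.card A :=
          Subgroup.card_mul_index _
        have h2 : Nat.card (B.subgroupOf A) = Nat.card B :=
          Nat.card_congr (Subgroup.subgroupOfEquivOfLe hBA).toEquiv
        rw [h2] at h1
        have hAcop : (Nat.card A).Coprime p := by
          rw [← h1]
          exact Nat.Coprime.mul_left hBcop hcop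
        exact le_pPrimeCore p A hAn hAcop
  have := key (Fin.last n)
  rw [hlast, inf_top_eq] at this
  exact this


end psolv

/-- A quadratic automorphism in a `p`-solvable group of automorphisms with `O_p = 1` is trivial
(`p ≥ 5`). -/
theorem mulAut_eq_one_of_quadratic {V : Type*} [CommGroup V] [Finite V] (p : ℕ) [Fact p.Prime]
    (h5 : 5 ≤ p) (hV : ∀ v : V, v ^ p = 1) (Γ : Subgroup (MulAut V)) (hΓ : IsPSolvable p ↥Γ)
    (hcore : ∀ N : Subgroup ↥Γ, N.Normal → IsPGroup p N → N = ⊥)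
    (α : MulAut V) (hαΓ : α ∈ Γ) (hα : ∀ v : V, α (α v) * v = α v * α v) : α = 1 := by
  have hp : p.Prime := Fact.out
  have hNn : (pPrimeCore p ↥Γ).Normal := inferInstance
  have hNcop : (Nat.card (pPrimeCore p ↥Γ)).Coprime p := pPrimeCore_coprime p
  obtain ⟨N, hN⟩ : ∃ N : Subgroup ↥Γ, N = pPrimeCore p ↥Γ := ⟨_, rfl⟩
  rw [← hN] at hNn hNcop
  obtain ⟨N', hN'⟩ : ∃ N' : Subgroup (MulAut V), N' = N.map Γ.subtype := ⟨_, rfl⟩
  have hcard : Nat.card N' = Nat.card N := by
    rw [hN']
    exact Subgroup.card_map_of_injective Γ.subtype_injective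
  have hN'α : ∀ r ∈ N', α * r * α⁻¹ ∈ N' := by
    intro r hr
    rw [hN'] at hr ⊢
    obtain ⟨n, hn, rfl⟩ := hr
    exact ⟨⟨α, hαΓ⟩ * n * ⟨α, hαΓ⟩⁻¹, hNn.conj_mem n hn _, rfl⟩
  have hcomm := quad_mulAut_commute_of_five_le p h5 hV α hα N' (by rw [hcard]; exact hNcop) hN'α
  have hcent : (⟨α, hαΓ⟩ : ↥Γ) ∈ Subgroup.centralizer (N : Set ↥Γ) := by
    rw [Subgroup.mem_centralizer_iff]
    intro n hn
    apply Subtype.ext
    exact (hcomm _ (by rw [hN']; exact ⟨n, hn, rfl⟩)).symm
  have hmem : (⟨α, hαΓ⟩ : ↥Γ) ∈ N := by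
    rw [hN] at hcent ⊢
    exact centralizer_pPrimeCore_le p hΓ hcore hcent
  have ho1 : orderOf α ∣ Nat.card N := by
    have := orderOf_dvd_natCard (⟨⟨α, hαΓ⟩, hmem⟩ : ↥N)
    rwa [Subgroup.orderOf_mk, Subgroup.orderOf_mk] at this
  have ho2 : orderOf α ∣ p := orderOf_dvd_of_pow_eq_one (mulAut_pow_eq_one_of_quad hV α hα)
  have h3 : orderOf α ∣ Nat.gcd (Nat.card N) p := Nat.dvd_gcd ho1 ho2
  rw [hNcop.gcd_eq_one, Nat.dvd_one] at h3
  exact orderOf_eq_one_iff.mp h3

theorem mulAut_eq_one_of_quadratic' {V : Type*} [Group V] [Finite V] (hc : ∀ x y : V, x * y = y * x)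
    (p : ℕ) [Fact p.Prime]
    (h5 : 5 ≤ p) (hV : ∀ v : V, v ^ p = 1) (Γ : Subgroup (MulAut V)) (hΓ : IsPSolvable p ↥Γ)
    (hcore : ∀ N : Subgroup ↥Γ, N.Normal → IsPGroup p N → N = ⊥)
    (α : MulAut V) (hαΓ : α ∈ Γ) (hα : ∀ v : V, α (α v) * v = α v * α v) : α = 1 := by
  let _ : CommGroup V := { (inferInstance : Group V) with mul_comm := hc }
  exact mulAut_eq_one_of_quadratic p h5 hV Γ hΓ hcore α hαΓ hα

/-- The case of a minimal normal subgroup `V`: a quadratic element centralizes `V`. -/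
theorem mem_centralizer_of_quadratic_of_minimal {G : Type u} [Group G] [Finite G] {p : ℕ}
    [Fact p.Prime] (h5 : 5 ≤ p) (hG : IsPSolvable p G) (V : Subgroup G) [hVn : V.Normal]
    (hV : IsElementaryAbelian p V)
    (hmin : ∀ V₁ : Subgroup G, V₁.Normal → V₁ < V → V₁ = ⊥)
    (a : G) (ha : ⁅⁅V, Subgroup.zpowers a⁆, Subgroup.zpowers a⁆ = ⊥) :
    a ∈ Subgroup.centralizer (V : Set G) := by
  classical
  have hp : p.Prime := Fact.out
  by_cases hVbot : V = ⊥
  · rw [hVbot, Subgroup.mem_centralizer_iff]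
    intro y hy
    rw [Subgroup.coe_bot, Set.mem_singleton_iff] at hy
    rw [hy, one_mul, mul_one]
  have hVp : IsPGroup p V := by
    intro v
    refine ⟨1, Subtype.ext ?_⟩
    simpa using hV.2 _ v.2
  have hcV : ∀ x y : ↥V, x * y = y * x := fun x y => hV.1.is_comm.comm x y
  have hVexp : ∀ v : ↥V, v ^ p = 1 := fun v => Subtype.ext (by simpa using hV.2 _ v.2)
  set ρ : G →* MulAut ↥V := MulAut.conjNormal with hρ
  have hρa : ∀ (g : G) (v : ↥V), ((ρ g v : ↥V) : G) = g * v * g⁻¹ := MulAut.conjNormal_apply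
  have hker : ∀ g : G, ρ g = 1 ↔ g ∈ Subgroup.centralizer (V : Set G) := by
    intro g
    rw [Subgroup.mem_centralizer_iff]
    constructor
    · intro h v hv
      have h1 : ((ρ g ⟨v, hv⟩ : ↥V) : G) = v := by rw [h]; rfl
      rw [hρa] at h1
      have h2 : g * v = v * g := by
        have := congrArg (· * g) h1
        simpa [mul_assoc] using this
      exact h2.symm
    · intro h
      ext v
      rw [hρa, MulAut.one_apply]
      have := h v v.2
      calc g * (v : G) * g⁻¹ = (v : G) * g * g⁻¹ := by rw [this]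
        _ = (v : G) := by group
  -- `ρ a` is quadratic
  have hα : ∀ v : ↥V, ρ a (ρ a v) * v = ρ a v * ρ a v := by
    intro v
    have hq1 := (quad_iff V a).mp ha v v.2 a (Subgroup.mem_zpowers a) a (Subgroup.mem_zpowers a)
    have e1 : ⁅⁅(v : G), a⁆, a⁆ =
        (v : G) * (a * v * a⁻¹)⁻¹ * ((a * (a * v * a⁻¹) * a⁻¹) * (a * v * a⁻¹)⁻¹) := by
      rw [commutatorElement_def, commutatorElement_def]
      group
    rw [e1] at hq1
    have hq2 : v * (ρ a v)⁻¹ * (ρ a (ρ a v) * (ρ a v)⁻¹) = 1 := by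
      apply Subtype.ext
      simp only [Subgroup.coe_mul, Subgroup.coe_inv, hρa, Subgroup.coe_one]
      exact hq1
    exact comm_rearr hcV _ _ _ hq2
  -- the image group
  have hΓ : IsPSolvable p ↥ρ.range :=
    IsPSolvable_of_surjective p ρ.rangeRestrict ρ.rangeRestrict_surjective hG
  have hcore : ∀ N : Subgroup ↥ρ.range, N.Normal → IsPGroup p N → N = ⊥ := by
    intro N hNn hNp
    -- the preimage `M` of `N` in `G`
    set M : Subgroup G := (N.map ρ.range.subtype).comap ρ with hM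
    have hMmem : ∀ m : G, m ∈ M ↔ ∃ n ∈ N, (n : MulAut ↥V) = ρ m := by
      intro m
      rw [hM, Subgroup.mem_comap, Subgroup.mem_map]
      rfl
    have hMn : M.Normal := by
      constructor
      intro m hm g
      rw [hMmem] at hm ⊢
      obtain ⟨n, hn, hnm⟩ := hm
      refine ⟨⟨ρ g, g, rfl⟩ * n * ⟨ρ g, g, rfl⟩⁻¹, hNn.conj_mem n hn _, ?_⟩
      simp only [Subgroup.coe_mul, Subgroup.coe_inv, hnm, map_mul, map_inv]
    have hMp : ∀ m ∈ M, ∃ k : ℕ, m ^ (p ^ k) ∈ Subgroup.centralizer (V : Set G) := by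
      intro m hm
      obtain ⟨n, hn, hnm⟩ := (hMmem m).mp hm
      obtain ⟨k, hk⟩ := hNp ⟨n, hn⟩
      refine ⟨k, ?_⟩
      rw [← hker, map_pow, ← hnm]
      have h1 := congrArg Subtype.val hk
      rw [Subgroup.coe_pow, Subgroup.coe_one] at h1
      have h2 := congrArg Subtype.val h1
      rw [Subgroup.coe_pow, Subgroup.coe_one] at h2
      exact h2
    have hle : ⁅V, M⁆ ≤ V := Subgroup.commutator_le_left V M
    have hn : (⁅V, M⁆ : Subgroup G).Normal := Subgroup.commutator_normal V M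
    have hMC : M ≤ Subgroup.centralizer (V : Set G) := by
      rcases hle.lt_or_eq with hlt | heq
      · have h1 := hmin _ hn hlt
        rw [Subgroup.commutator_eq_bot_iff_le_centralizer] at h1
        exact Subgroup.le_centralizer_iff.mp h1
      · exfalso
        apply hVbot
        apply eq_bot_of_le_commutator_of_pGroup_action hVp (A := M) (W := V)
        · rw [Subgroup.normalizer_eq_top_iff.mpr hVn]
          exact le_top
        · exact hMp
        · exact le_rfl
        · exact heq.ge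
    rw [eq_bot_iff]
    intro n hn
    rw [Subgroup.mem_bot]
    obtain ⟨g, hg⟩ := n.2
    have hgM : g ∈ M := (hMmem g).mpr ⟨n, hn, hg.symm⟩
    have h1 : ρ g = 1 := (hker g).mpr (hMC hgM)
    apply Subtype.ext
    rw [← hg, h1]
    rfl
  have h1 : ρ a = 1 := mulAut_eq_one_of_quadratic' hcV p h5 hVexp ρ.range hΓ hcore (ρ a) ⟨a, rfl⟩ hα
  exact (hker a).mp h1

/-- **Quadratic elements act as `p`-elements** (`p ≥ 5`, `G` finite `p`-solvable). -/
theorem exists_normal_of_quadratic_psolv {p : ℕ} [Fact p.Prime] (h5 : 5 ≤ p) :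
    ∀ (n : ℕ) (G : Type u) [Group G] [Finite G] (_ : IsPSolvable p G) (V : Subgroup G)
      [V.Normal] (_ : IsElementaryAbelian p V) (_ : Nat.card V = n) (a : G)
      (_ : ⁅⁅V, Subgroup.zpowers a⁆, Subgroup.zpowers a⁆ = ⊥),
      ∃ D : Subgroup G, D.Normal ∧ a ∈ D ∧
        ∀ d ∈ D, ∃ k : ℕ, d ^ (p ^ k) ∈ Subgroup.centralizer (V : Set G) := by
  intro n
  induction n using Nat.strong_induction_on with
  | _ n ih =>
    intro G _ _ hG V hVn hV hn a ha
    by_cases hmin : ∀ V₁ : Subgroup G, V₁.Normal → V₁ < V → V₁ = ⊥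
    · refine ⟨Subgroup.centralizer (V : Set G), Subgroup.normal_centralizer,
        mem_centralizer_of_quadratic_of_minimal h5 hG V hV hmin a ha, fun d hd => ⟨0, ?_⟩⟩
      simpa using hd
    · push Not at hmin
      obtain ⟨V₁, hV₁n, hV₁lt, hV₁ne⟩ := hmin
      have hV₁le : V₁ ≤ V := hV₁lt.le
      -- induction on `V₁`
      have hc1 : Nat.card V₁ < n := by
        rw [← hn]
        have h1 : Nat.card V₁ ≤ Nat.card V := Subgroup.card_le_of_le hV₁le
        rcases h1.lt_or_eq with h | h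
        · exact h
        · exact absurd (Subgroup.eq_of_le_of_card_ge hV₁le h.ge) hV₁lt.ne
      obtain ⟨D₁, hD₁n, haD₁, hD₁⟩ := ih _ hc1 G hG V₁ (isElementaryAbelian_mono hV₁le hV) rfl a
        (quad_of_subgroup_le hV₁le ha)
      -- induction on `V / V₁`
      have hsurj := QuotientGroup.mk'_surjective V₁
      have hVbn : (V.map (QuotientGroup.mk' V₁)).Normal := hVn.map _ hsurj
      have hc2 : Nat.card (V.map (QuotientGroup.mk' V₁)) < n := by
        rw [← hn]
        have h1 : Nat.card (V.map (QuotientGroup.mk' V₁)) * Nat.card (V₁.subgroupOf V) =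
            Nat.card V := by
          have := Subgroup.card_eq_card_quotient_mul_card_subgroup (V₁.subgroupOf V)
          rw [this]
          congr 1
          have e : (V.map (QuotientGroup.mk' V₁)) ≃* ↥V ⧸ V₁.subgroupOf V := by
            have e1 := QuotientGroup.quotientKerEquivRange
              ((QuotientGroup.mk' V₁).comp V.subtype)
            have hk : ((QuotientGroup.mk' V₁).comp V.subtype).ker = V₁.subgroupOf V := by
              ext x
              rw [MonoidHom.mem_ker, Subgroup.mem_subgroupOf, MonoidHom.comp_apply,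
                QuotientGroup.mk'_apply, QuotientGroup.eq_one_iff]
              rfl
            have hr : ((QuotientGroup.mk' V₁).comp V.subtype).range =
                V.map (QuotientGroup.mk' V₁) := by
              rw [MonoidHom.range_comp, Subgroup.range_subtype]
            exact ((QuotientGroup.quotientMulEquivOfEq hk).symm.trans e1).trans
              (MulEquiv.subgroupCongr hr) |>.symm
          exact Nat.card_congr e.toEquiv
        have h2 : 1 < Nat.card (V₁.subgroupOf V) := by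
          rw [Nat.card_congr (Subgroup.subgroupOfEquivOfLe hV₁le).toEquiv]
          exact (Subgroup.one_lt_card_iff_ne_bot V₁).mpr hV₁ne
        have h3 : 0 < Nat.card (V.map (QuotientGroup.mk' V₁)) := Nat.card_pos
        nlinarith
      obtain ⟨D₂, hD₂n, haD₂, hD₂⟩ := ih _ hc2 (G ⧸ V₁) (IsPSolvable_of_surjective p (QuotientGroup.mk' V₁) hsurj hG)
        (V.map (QuotientGroup.mk' V₁)) (isElementaryAbelian_map _ hV) rfl
        (QuotientGroup.mk' V₁ a) (quad_map _ ha)
      refine ⟨D₁ ⊓ D₂.comap (QuotientGroup.mk' V₁), inferInstance, ⟨haD₁, haD₂⟩, ?_⟩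
      rintro d ⟨hd1, hd2⟩
      obtain ⟨k₁, hk₁⟩ := hD₁ d hd1
      obtain ⟨k₂, hk₂⟩ := hD₂ _ hd2
      refine ⟨k₁ + k₂ + 1, ?_⟩
      have e : d ^ (p ^ (k₁ + k₂ + 1)) = (d ^ (p ^ (k₁ + k₂))) ^ p := by
        rw [← pow_mul, pow_succ]
      rw [e]
      apply pow_mem_centralizer_of_chain (V₁ := V₁) (fun w hw => hV.2 w (hV₁le hw))
      · have : d ^ (p ^ (k₁ + k₂)) = (d ^ (p ^ k₁)) ^ (p ^ k₂) := by
          rw [← pow_mul, pow_add]
        rw [this]
        exact pow_mem hk₁ _
      · intro v hv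
        have h1 : (QuotientGroup.mk' V₁ d) ^ (p ^ (k₁ + k₂)) ∈
            Subgroup.centralizer ((V.map (QuotientGroup.mk' V₁) : Subgroup (G ⧸ V₁)) : Set (G ⧸ V₁)) := by
          have : (QuotientGroup.mk' V₁ d) ^ (p ^ (k₁ + k₂)) =
              ((QuotientGroup.mk' V₁ d) ^ (p ^ k₂)) ^ (p ^ k₁) := by
            rw [← pow_mul, pow_add, mul_comm]
          rw [this]
          exact pow_mem hk₂ _
        rw [Subgroup.mem_centralizer_iff] at h1
        have h2 := h1 _ (Subgroup.mem_map_of_mem (QuotientGroup.mk' V₁) hv)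
        rw [← map_pow, ← map_mul, ← map_mul] at h2
        have h3 : (QuotientGroup.mk' V₁) (d ^ (p ^ (k₁ + k₂)) * v * (d ^ (p ^ (k₁ + k₂)))⁻¹ * v⁻¹) = 1 := by
          rw [map_mul, map_mul, ← h2, map_mul, map_inv, map_inv]
          group
        exact (QuotientGroup.eq_one_iff _).mp h3



/-- `p ≥ 5`, `G` finite `p`-solvable: `G` acts `p`-stably on every normal elementary abelian
`p`-subgroup. -/
theorem isPStableOn_of_isPSolvable {G : Type u} [Group G] [Finite G] {p : ℕ} [Fact p.Prime]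
    (h5 : 5 ≤ p) (hG : IsPSolvable p G) (V : Subgroup G) [V.Normal]
    (hV : IsElementaryAbelian p V) : IsPStableOn p V := by
  intro a ha
  obtain ⟨D, hDn, haD, hD⟩ := exists_normal_of_quadratic_psolv h5 _ G hG V hV rfl a ha
  have hsurj := QuotientGroup.mk'_surjective (Subgroup.centralizer (V : Set G))
  have h1 : (D.map (QuotientGroup.mk' (Subgroup.centralizer (V : Set G)))).Normal :=
    hDn.map _ hsurj
  have h2 : IsPGroup p (D.map (QuotientGroup.mk' (Subgroup.centralizer (V : Set G)))) := by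
    rintro ⟨_, d, hd, rfl⟩
    obtain ⟨k, hk⟩ := hD d hd
    refine ⟨k, Subtype.ext ?_⟩
    rw [Subgroup.coe_pow, Subgroup.coe_one, ← map_pow]
    exact (QuotientGroup.eq_one_iff _).mpr hk
  exact le_pCore_of_normal h1 h2 (Subgroup.mem_map_of_mem _ haD)

/-- Section version: `Q / Φ` elementary abelian. -/
theorem isPStableOnSection_of_isPSolvable {G : Type u} [Group G] [Finite G] {p : ℕ}
    [Fact p.Prime] (h5 : 5 ≤ p) (hG : IsPSolvable p G) (Q Φ : Subgroup G) [hQn : Q.Normal]
    [hΦn : Φ.Normal] (hcomm : ⁅Q, Q⁆ ≤ Φ) (hpow : ∀ x ∈ Q, x ^ p ∈ Φ) :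
    IsPStableOnSection p Q Φ := by
  intro a ha
  have hsurj := QuotientGroup.mk'_surjective Φ
  set V' : Subgroup (G ⧸ Φ) := Q.map (QuotientGroup.mk' Φ) with hV'
  have hVn : V'.Normal := hQn.map _ hsurj
  have hVel : IsElementaryAbelian p V' := by
    refine ⟨⟨⟨?_⟩⟩, ?_⟩
    · rintro ⟨_, x, hx, rfl⟩ ⟨_, y, hy, rfl⟩
      apply Subtype.ext
      show (QuotientGroup.mk' Φ) x * (QuotientGroup.mk' Φ) y =
        (QuotientGroup.mk' Φ) y * (QuotientGroup.mk' Φ) x
      have h1 : ⁅x, y⁆ ∈ Φ := hcomm (Subgroup.commutator_mem_commutator hx hy)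
      have h2 : (QuotientGroup.mk' Φ) ⁅x, y⁆ = 1 := (QuotientGroup.eq_one_iff _).mpr h1
      rw [map_commutatorElement, commutatorElement_eq_one_iff_commute] at h2
      exact h2.eq
    · rintro _ ⟨x, hx, rfl⟩
      rw [← map_pow]
      exact (QuotientGroup.eq_one_iff _).mpr (hpow x hx)
  have hquad : ⁅⁅V', Subgroup.zpowers ((QuotientGroup.mk' Φ) a)⁆,
      Subgroup.zpowers ((QuotientGroup.mk' Φ) a)⁆ = ⊥ := by
    rw [hV', ← MonoidHom.map_zpowers, ← Subgroup.map_commutator, ← Subgroup.map_commutator,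
      eq_bot_iff]
    calc _ ≤ Φ.map (QuotientGroup.mk' Φ) := Subgroup.map_mono ha
      _ = ⊥ := QuotientGroup.map_mk'_self Φ
  obtain ⟨D', hD'n, haD', hD'⟩ := exists_normal_of_quadratic_psolv h5 _ (G ⧸ Φ) (IsPSolvable_of_surjective p (QuotientGroup.mk' Φ) hsurj hG) V'
    hVel rfl _ hquad
  set C' : Subgroup (G ⧸ Φ) := Subgroup.centralizer (V' : Set (G ⧸ Φ)) with hC'
  have hC'n : C'.Normal := Subgroup.normal_centralizer
  have hker : sectionKernel Q Φ = C'.comap (QuotientGroup.mk' Φ) := rfl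
  have hsupn : (D' ⊔ C').Normal := inferInstance
  refine ⟨(D' ⊔ C').comap (QuotientGroup.mk' Φ), hsupn.comap _, ?_, ?_, ?_⟩
  · rw [hker]
    exact Subgroup.comap_mono le_sup_right
  · rw [hker, Subgroup.relIndex_comap, Subgroup.map_comap_eq_self_of_surjective hsurj,
      Subgroup.relIndex_sup_right]
    -- `D' / (C' ⊓ D')` is a `p`-group
    have hP : IsPGroup p (↥D' ⧸ C'.subgroupOf D') := by
      intro x
      obtain ⟨d, rfl⟩ := QuotientGroup.mk'_surjective (C'.subgroupOf D') x
      obtain ⟨k, hk⟩ := hD' d d.2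
      refine ⟨k, ?_⟩
      rw [← map_pow]
      refine (QuotientGroup.eq_one_iff _).mpr ?_
      rw [Subgroup.mem_subgroupOf, Subgroup.coe_pow]
      exact hk
    obtain ⟨k, hk⟩ := IsPGroup.iff_card.mp hP
    refine ⟨k, ?_⟩
    rw [Subgroup.relIndex, Subgroup.index_eq_card]
    exact hk
  · rw [Subgroup.mem_comap]
    exact Subgroup.mem_sup_left haD'


/-- Section version: `Q / Φ` elementary abelian, `a` quadratic on `Q / Φ`. -/
theorem exists_normal_of_quadratic_mod_psolv {Γ : Type u} [Group Γ] [Finite Γ] {p : ℕ} [Fact p.Prime]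
    (h5 : 5 ≤ p) (hΓ : IsPSolvable p Γ) (Q Φ : Subgroup Γ) [hQn : Q.Normal] [hΦn : Φ.Normal]
    (hcomm : ⁅Q, Q⁆ ≤ Φ) (hpow : ∀ x ∈ Q, x ^ p ∈ Φ) (a : Γ)
    (ha : ⁅⁅Q, Subgroup.zpowers a⁆, Subgroup.zpowers a⁆ ≤ Φ) :
    ∃ D : Subgroup Γ, D.Normal ∧ a ∈ D ∧
      ∀ d ∈ D, ∃ k : ℕ, ∀ r ∈ Q, d ^ (p ^ k) * r * (d ^ (p ^ k))⁻¹ * r⁻¹ ∈ Φ := by
  have hsurj := QuotientGroup.mk'_surjective Φ
  set V' : Subgroup (Γ ⧸ Φ) := Q.map (QuotientGroup.mk' Φ) with hV'
  have hVn : V'.Normal := hQn.map _ hsurj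
  have hVel : IsElementaryAbelian p V' := by
    refine ⟨⟨⟨?_⟩⟩, ?_⟩
    · rintro ⟨_, x, hx, rfl⟩ ⟨_, y, hy, rfl⟩
      apply Subtype.ext
      show (QuotientGroup.mk' Φ) x * (QuotientGroup.mk' Φ) y =
        (QuotientGroup.mk' Φ) y * (QuotientGroup.mk' Φ) x
      have h1 : ⁅x, y⁆ ∈ Φ := hcomm (Subgroup.commutator_mem_commutator hx hy)
      have h2 : (QuotientGroup.mk' Φ) ⁅x, y⁆ = 1 := (QuotientGroup.eq_one_iff _).mpr h1
      rw [map_commutatorElement, commutatorElement_eq_one_iff_commute] at h2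
      exact h2.eq
    · rintro _ ⟨x, hx, rfl⟩
      rw [← map_pow]
      exact (QuotientGroup.eq_one_iff _).mpr (hpow x hx)
  have hquad : ⁅⁅V', Subgroup.zpowers ((QuotientGroup.mk' Φ) a)⁆,
      Subgroup.zpowers ((QuotientGroup.mk' Φ) a)⁆ = ⊥ := by
    rw [hV', ← MonoidHom.map_zpowers, ← Subgroup.map_commutator, ← Subgroup.map_commutator,
      eq_bot_iff]
    calc _ ≤ Φ.map (QuotientGroup.mk' Φ) := Subgroup.map_mono ha
      _ = ⊥ := QuotientGroup.map_mk'_self Φ
  obtain ⟨D', hD'n, haD', hD'⟩ := exists_normal_of_quadratic_psolv h5 _ (Γ ⧸ Φ) (IsPSolvable_of_surjective p (QuotientGroup.mk' Φ) hsurj hΓ) V'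
    hVel rfl _ hquad
  refine ⟨D'.comap (QuotientGroup.mk' Φ), hD'n.comap _, haD', ?_⟩
  intro d hd
  obtain ⟨k, hk⟩ := hD' _ hd
  refine ⟨k, fun r hr => ?_⟩
  rw [Subgroup.mem_centralizer_iff] at hk
  have h1 := hk _ (Subgroup.mem_map_of_mem (QuotientGroup.mk' Φ) hr)
  rw [← QuotientGroup.eq_one_iff]
  have h2 : ((d ^ (p ^ k) * r * (d ^ (p ^ k))⁻¹ * r⁻¹ : Γ) : Γ ⧸ Φ) =
      (QuotientGroup.mk' Φ d) ^ (p ^ k) * (QuotientGroup.mk' Φ r) *
        ((QuotientGroup.mk' Φ d) ^ (p ^ k))⁻¹ * (QuotientGroup.mk' Φ r)⁻¹ := by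
    simp
  rw [h2, ← h1]
  group

/-- Version for an arbitrary normal `p`-subgroup. -/
theorem exists_normal_of_quadratic_pgroup_psolv {Γ : Type u} [Group Γ] [Finite Γ] {p : ℕ}
    [Fact p.Prime] (h5 : 5 ≤ p) (hΓ : IsPSolvable p Γ) (R : Subgroup Γ) [hRn : R.Normal]
    (hR : IsPGroup p R) (a : Γ)
    (ha : ⁅⁅R, Subgroup.zpowers a⁆, Subgroup.zpowers a⁆ = ⊥) :
    ∃ D : Subgroup Γ, D.Normal ∧ a ∈ D ∧
      ∀ d ∈ D, ∃ k : ℕ, d ^ (p ^ k) ∈ Subgroup.centralizer (R : Set Γ) := by
  have hp : p.Prime := Fact.out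
  have hΦn : (Cfsg.Agent.Lib.Helper70.frattiniIn R).Normal := inferInstance
  have hcomm : ⁅R, R⁆ ≤ Cfsg.Agent.Lib.Helper70.frattiniIn R := commutator_le_map_frattini hR
  have hpow : ∀ x ∈ R, x ^ p ∈ Cfsg.Agent.Lib.Helper70.frattiniIn R :=
    fun x hx => pow_prime_mem_map_frattini hR hx
  have ha' : ⁅⁅R, Subgroup.zpowers a⁆, Subgroup.zpowers a⁆ ≤
      Cfsg.Agent.Lib.Helper70.frattiniIn R := by
    rw [ha]; exact bot_le
  obtain ⟨D, hDn, haD, hD⟩ := exists_normal_of_quadratic_mod_psolv h5 hΓ R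
    (Cfsg.Agent.Lib.Helper70.frattiniIn R) hcomm hpow a ha'
  refine ⟨D, hDn, haD, ?_⟩
  intro d hd
  obtain ⟨k, hk⟩ := hD d hd
  set y := d ^ (p ^ k) with hy
  have hyT : y ∈ Cfsg.Agent.Lib.Helper70.trivOnFrattiniQuot R :=
    (Cfsg.Agent.Lib.Helper70.mem_trivOnFrattiniQuot R y).mpr hk
  have ho : orderOf y ≠ 0 := (orderOf_pos y).ne'
  obtain ⟨m, n, hn, hmn⟩ := Nat.exists_eq_pow_mul_and_not_dvd ho p hp.ne_one
  have hzT : y ^ (p ^ m) ∈ Cfsg.Agent.Lib.Helper70.trivOnFrattiniQuot R := pow_mem hyT _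
  have hzo : orderOf (y ^ (p ^ m)) ∣ n := by
    apply orderOf_dvd_of_pow_eq_one
    rw [← pow_mul, ← hmn]
    exact pow_orderOf_eq_one y
  have hcop : (orderOf (y ^ (p ^ m))).Coprime p :=
    Nat.Coprime.coprime_dvd_left hzo ((Nat.Prime.coprime_iff_not_dvd hp).mpr hn).symm
  have hzC := Cfsg.Agent.Lib.Helper70.mem_centralizer_of_coprime R hR _ hzT hcop
  refine ⟨k + m, ?_⟩
  have : d ^ (p ^ (k + m)) = y ^ (p ^ m) := by
    rw [hy, ← pow_mul, pow_add]
  rw [this]
  exact hzC

/-- `p ≥ 5`: finite `p`-solvable groups are `p`-stable in the normalizer form. -/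
theorem isNormalizerPStable_of_isPSolvable {H : Type u} [Group H] [Finite H] {p : ℕ}
    [Fact p.Prime] (h5 : 5 ≤ p) (hH : IsPSolvable p H) : IsNormalizerPStable p H := by
  intro P hP g hg hquad
  have hPN : P ≤ Subgroup.normalizer (P : Set H) := Subgroup.le_normalizer
  have hRn : (P.subgroupOf (Subgroup.normalizer (P : Set H))).Normal :=
    Subgroup.normal_in_normalizer
  have hRp : IsPGroup p ↥(P.subgroupOf (Subgroup.normalizer (P : Set H))) := hP.comap_subtype
  have hq' : ⁅⁅P.subgroupOf (Subgroup.normalizer (P : Set H)),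
      Subgroup.zpowers (⟨g, hg⟩ : ↥(Subgroup.normalizer (P : Set H)))⁆,
      Subgroup.zpowers (⟨g, hg⟩ : ↥(Subgroup.normalizer (P : Set H)))⁆ = ⊥ := by
    rw [← quad_map_iff (Subgroup.normalizer (P : Set H)).subtype
      (Subgroup.normalizer (P : Set H)).subtype_injective, Subgroup.map_subgroupOf_eq_of_le hPN]
    exact hquad
  obtain ⟨D, hDn, haD, hD⟩ := exists_normal_of_quadratic_pgroup_psolv h5
    (isPSolvable_subgroup p hH (Subgroup.normalizer (P : Set H)))
    (P.subgroupOf (Subgroup.normalizer (P : Set H))) hRp ⟨g, hg⟩ hq'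
  have hsurj := QuotientGroup.mk'_surjective
    ((Subgroup.centralizer (P : Set H)).subgroupOf (Subgroup.normalizer (P : Set H)))
  have h1 : (D.map (QuotientGroup.mk'
      ((Subgroup.centralizer (P : Set H)).subgroupOf (Subgroup.normalizer (P : Set H))))).Normal :=
    hDn.map _ hsurj
  have h2 : IsPGroup p (D.map (QuotientGroup.mk'
      ((Subgroup.centralizer (P : Set H)).subgroupOf (Subgroup.normalizer (P : Set H))))) := by
    rintro ⟨_, d, hd, rfl⟩
    obtain ⟨k, hk⟩ := hD d hd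
    refine ⟨k, Subtype.ext ?_⟩
    rw [Subgroup.coe_pow, Subgroup.coe_one, ← map_pow]
    refine (QuotientGroup.eq_one_iff _).mpr ?_
    rw [Subgroup.mem_subgroupOf, Subgroup.mem_centralizer_iff]
    intro x hx
    rw [Subgroup.mem_centralizer_iff] at hk
    have := hk ⟨x, hPN hx⟩ (by
      show (⟨x, hPN hx⟩ : ↥(Subgroup.normalizer (P : Set H))) ∈
        P.subgroupOf (Subgroup.normalizer (P : Set H))
      rw [Subgroup.mem_subgroupOf]
      exact hx)
    have h3 := congrArg Subtype.val this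
    simpa using h3
  exact le_pCore_of_normal h1 h2 (Subgroup.mem_map_of_mem _ haD)


end Cfsg.Agent.Lib.Helper32
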