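/-
helper32 shared library: tools for the L-Lemma (S2834), part A.
Conjugate subgroups `cj g A`, transport of `O_p(L)` (`pCoreOf`) along injective homomorphisms,
the predicate `Sol` ("`L` is a solution of the L-Lemma for `A` and `M`") and its transport
along injective homomorphisms.
All declarations live in `Cfsg.Agent.Lib.Helper32.LLemma`.
-/
import Mathlib
import Cfsg.Prelude.Def_LocalStructure
import Cfsg.Prelude.Def_CaseTheorems
import Cfsg.Agent.Lib.Helper47.Subnormal

set_option autoImplicit false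

namespace Cfsg.Agent.Lib.Helper32.LLemma

open Cfsg
open Cfsg.Agent.Lib.Helper47

variable {H : Type*} [Group H]

/-- the conjugate `g A g⁻¹`, in the form used by the frozen statement. -/
abbrev cj (g : H) (A : Subgroup H) : Subgroup H := A.map (MulAut.conj g).toMonoidHom

theorem mem_cj {g x : H} {A : Subgroup H} : x ∈ cj g A ↔ g⁻¹ * x * g ∈ A := by
  unfold cj
  rw [Subgroup.mem_map_equiv, MulAut.conj_symm_apply]

theorem cj_cj (g h : H) (A : Subgroup H) : cj g (cj h A) = cj (g * h) A := by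
  ext x
  rw [mem_cj, mem_cj, mem_cj]
  have : (g * h)⁻¹ * x * (g * h) = h⁻¹ * (g⁻¹ * x * g) * h := by group
  rw [this]

theorem cj_one (A : Subgroup H) : cj 1 A = A := by
  ext x
  simp

theorem cj_inv_cj (g : H) (A : Subgroup H) : cj g⁻¹ (cj g A) = A := by
  rw [cj_cj, inv_mul_cancel, cj_one]

theorem cj_cj_inv (g : H) (A : Subgroup H) : cj g (cj g⁻¹ A) = A := by
  rw [cj_cj, mul_inv_cancel, cj_one]

theorem cj_mono (g : H) {A B : Subgroup H} (h : A ≤ B) : cj g A ≤ cj g B := Subgroup.map_mono h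

theorem cj_le_iff {g : H} {A B : Subgroup H} : cj g A ≤ B ↔ A ≤ cj g⁻¹ B := by
  constructor
  · intro h
    have := cj_mono g⁻¹ h
    rwa [cj_inv_cj] at this
  · intro h
    have := cj_mono g h
    rwa [cj_cj_inv] at this

theorem cj_sup (g : H) (A B : Subgroup H) : cj g (A ⊔ B) = cj g A ⊔ cj g B := Subgroup.map_sup _ _ _

theorem isCoatom_cj {M : Subgroup H} (g : H) (hM : IsCoatom M) : IsCoatom (cj g M) := by
  have := (OrderIso.isCoatom_iff (MulAut.conj g).mapSubgroup M).mpr hM
  exact this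

theorem isPGroup_cj {p : ℕ} {A : Subgroup H} (g : H) (hA : IsPGroup p A) : IsPGroup p (cj g A) :=
  hA.map _

theorem card_cj (g : H) (A : Subgroup H) : Nat.card (cj g A) = Nat.card A :=
  Subgroup.card_map_of_injective (MulAut.conj g).injective

theorem cj_eq_of_mem_normalizer {x : H} {W : Subgroup H} (hx : x ∈ Subgroup.normalizer (W : Set H)) :
    cj x W = W := by
  ext y
  rw [mem_cj]
  rw [Subgroup.mem_normalizer_iff] at hx
  have h1 := hx (x⁻¹ * y * x)
  have h2 : x * (x⁻¹ * y * x) * x⁻¹ = y := by group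
  rw [h2] at h1
  exact h1

theorem cj_eq_of_normal {W : Subgroup H} [hW : W.Normal] (x : H) : cj x W = W :=
  cj_eq_of_mem_normalizer (by rw [Subgroup.normalizer_eq_top_iff.mpr hW]; trivial)

theorem mem_normalizer_of_cj_eq {x : H} {W : Subgroup H} (h : cj x W = W) :
    x ∈ Subgroup.normalizer (W : Set H) := by
  rw [Subgroup.mem_normalizer_iff]
  intro y
  constructor
  · intro hy
    rw [← h, mem_cj]
    have : x⁻¹ * (x * y * x⁻¹) * x = y := by group
    rwa [this]
  · intro hy
    rw [← h, mem_cj] at hy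
    have : x⁻¹ * (x * y * x⁻¹) * x = y := by group
    rwa [this] at hy

theorem mem_normalizer_of_cj_le [Finite H] {x : H} {W : Subgroup H} (h : cj x W ≤ W) :
    x ∈ Subgroup.normalizer (W : Set H) := by
  apply mem_normalizer_of_cj_eq
  exact Subgroup.eq_of_le_of_card_ge h (by rw [card_cj])

theorem map_cj {K : Type*} [Group K] (f : K →* H) (k : K) (A : Subgroup K) :
    (cj k A).map f = cj (f k) (A.map f) := by
  ext x
  constructor
  · rintro ⟨y, hy, rfl⟩
    rw [SetLike.mem_coe, mem_cj] at hy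
    rw [mem_cj]
    refine ⟨k⁻¹ * y * k, hy, ?_⟩
    simp
  · intro hx
    rw [mem_cj] at hx
    obtain ⟨a, ha, hax⟩ := hx
    refine ⟨k * a * k⁻¹, ?_, ?_⟩
    · rw [SetLike.mem_coe, mem_cj]
      have : k⁻¹ * (k * a * k⁻¹) * k = a := by group
      rwa [this]
    · rw [map_mul, map_mul, map_inv, hax]
      group

/-- In a finite `p`-group, a proper subgroup is properly contained in its normalizer. -/
theorem exists_mem_normalizer_not_mem {p : ℕ} [Fact p.Prime] [Finite H] {T T₁ : Subgroup H}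
    (hT₁ : IsPGroup p T₁) (h : T < T₁) :
    ∃ n ∈ T₁, n ∈ Subgroup.normalizer (T : Set H) ∧ n ∉ T := by
  have : Group.IsNilpotent T₁ := hT₁.isNilpotent
  have hnc := Group.normalizerCondition_of_isNilpotent (G := T₁)
  have hlt : T.subgroupOf T₁ < ⊤ := by
    rw [lt_top_iff_ne_top, Ne, Subgroup.subgroupOf_eq_top]
    exact not_le_of_gt h
  have h2 := hnc _ hlt
  obtain ⟨n, hn, hn'⟩ := SetLike.exists_of_lt h2
  refine ⟨n, n.2, ?_, ?_⟩
  · rw [← Subgroup.subgroupOf_normalizer_eq h.le] at hn
    exact hn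
  · exact hn'

/-! ### transport of `O_p(L)` along an injective homomorphism -/

theorem pCoreOf_map_inj {K : Type*} [Group K] (p : ℕ) (f : K →* H) (hf : Function.Injective f)
    (L : Subgroup K) : pCoreOf p (L.map f) = (pCoreOf p L).map f := by
  apply le_antisymm
  · -- pull back
    have hQle : pCoreOf p (L.map f) ≤ L.map f := pCoreOf_le p _
    have hrange : pCoreOf p (L.map f) ≤ f.range := hQle.trans (Subgroup.map_le_range f L)
    have h1 : (pCoreOf p (L.map f)).comap f ≤ pCoreOf p L := by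
      apply le_pCoreOf
      · intro x hx
        have := hQle hx
        obtain ⟨y, hy, hyx⟩ := this
        rwa [hf hyx] at hy
      · intro l hl
        rw [Subgroup.mem_normalizer_iff]
        have hfl : f l ∈ Subgroup.normalizer ((pCoreOf p (L.map f) : Subgroup H) : Set H) :=
          (normalizer_le_normalizer_pCoreOf p (L.map f)) (Subgroup.le_normalizer (Subgroup.mem_map_of_mem f hl))
        rw [Subgroup.mem_normalizer_iff] at hfl
        intro y
        simp only [Subgroup.mem_comap]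
        have := hfl (f y)
        simpa using this
      · exact (pCoreOf_isPGroup p (L.map f)).comap_of_injective f hf
    have := Subgroup.map_mono (f := f) h1
    rwa [Subgroup.map_comap_eq_self hrange] at this
  · apply le_pCoreOf
    · exact Subgroup.map_mono (pCoreOf_le p L)
    · rintro x ⟨l, hl, rfl⟩
      have hl' : l ∈ Subgroup.normalizer ((pCoreOf p L : Subgroup K) : Set K) :=
        (normalizer_le_normalizer_pCoreOf p L) (Subgroup.le_normalizer hl)
      apply mem_normalizer_of_cj_eq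
      rw [← map_cj, cj_eq_of_mem_normalizer hl']
    · exact (pCoreOf_isPGroup p L).map f

/-! ### solutions of the L-Lemma -/

/-- `L` is a solution of the L-Lemma for `A` (and the maximal subgroup `M`): conclusion of the
frozen statement S2834 after `∃ L, A ⊔ O_p(H) ≤ L ∧ _`. -/
def Sol (p : ℕ) (M A L : Subgroup H) : Prop :=
  ∃ L₀ : Subgroup H, A ⊔ (Cfsg.pCoreOf p L) ≤ L₀ ∧ L₀ < L ∧
    (∀ X : Subgroup H, A ⊔ (Cfsg.pCoreOf p L) ≤ X → X < L → X ≤ L₀) ∧
    (∃ g : H, L₀ = L ⊓ ((M : Subgroup H).map (MulAut.conj (g : H)).toMonoidHom)) ∧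
    ∀ x ∈ L, x ∉ L₀ →
      (A ⊔ ((A : Subgroup H).map (MulAut.conj (x : H)).toMonoidHom)) ⊔ (Cfsg.pCoreOf p L) = L

/-- Transport of solutions along an injective homomorphism `f : K →* H`, when the maximal
subgroup of `K` is the preimage of a conjugate of `M`. -/
theorem Sol.map {K : Type*} [Group K] {p : ℕ} (f : K →* H) (hf : Function.Injective f)
    {M_K A_K L_K : Subgroup K} {M : Subgroup H} (g₀ : H)
    (hM : ∀ k : K, k ∈ M_K ↔ g₀⁻¹ * f k * g₀ ∈ M)
    (h : Sol p M_K A_K L_K) : Sol p M (A_K.map f) (L_K.map f) := by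
  obtain ⟨L₀, h1, h2, h3, ⟨g, h4⟩, h5⟩ := h
  have hsup : A_K.map f ⊔ pCoreOf p (L_K.map f) = (A_K ⊔ pCoreOf p L_K).map f := by
    rw [pCoreOf_map_inj p f hf, Subgroup.map_sup]
  refine ⟨L₀.map f, ?_, ?_, ?_, ⟨f g * g₀, ?_⟩, ?_⟩
  · rw [hsup]
    exact Subgroup.map_mono h1
  · exact (Subgroup.map_lt_map_iff_of_injective hf).mpr h2
  · intro X hX hXL
    rw [hsup] at hX
    have hXr : X ≤ f.range := hXL.le.trans (Subgroup.map_le_range f L_K)
    have hXeq : (X.comap f).map f = X := Subgroup.map_comap_eq_self hXr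
    have h6 : A_K ⊔ pCoreOf p L_K ≤ X.comap f := by
      rw [← Subgroup.map_le_iff_le_comap]
      exact hX
    have h7 : X.comap f < L_K := by
      rw [← Subgroup.map_lt_map_iff_of_injective hf, hXeq]
      exact hXL
    have := Subgroup.map_mono (f := f) (h3 _ h6 h7)
    rwa [hXeq] at this
  · rw [h4]
    ext y
    simp only [Subgroup.mem_inf, Subgroup.mem_map]
    constructor
    · rintro ⟨k, ⟨hk1, hk2⟩, rfl⟩
      refine ⟨⟨k, hk1, rfl⟩, ?_⟩
      change f k ∈ cj (f g * g₀) M
      change k ∈ cj g M_K at hk2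
      rw [mem_cj] at hk2 ⊢
      rw [hM] at hk2
      have : (f g * g₀)⁻¹ * f k * (f g * g₀) = g₀⁻¹ * f (g⁻¹ * k * g) * g₀ := by
        simp only [map_mul, map_inv]
        group
      rwa [this]
    · rintro ⟨⟨k, hk1, rfl⟩, hk2⟩
      refine ⟨k, ⟨hk1, ?_⟩, rfl⟩
      change f k ∈ cj (f g * g₀) M at hk2
      change k ∈ cj g M_K
      rw [mem_cj] at hk2 ⊢
      rw [hM]
      have : (f g * g₀)⁻¹ * f k * (f g * g₀) = g₀⁻¹ * f (g⁻¹ * k * g) * g₀ := by
        simp only [map_mul, map_inv]
        group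
      rwa [this] at hk2
  · rintro x ⟨k, hk, rfl⟩ hx
    have hk0 : k ∉ L₀ := fun hk0 => hx (Subgroup.mem_map_of_mem f hk0)
    have := h5 k hk hk0
    have h8 := congrArg (Subgroup.map f) this
    rw [Subgroup.map_sup, Subgroup.map_sup, ← pCoreOf_map_inj p f hf] at h8
    have h9 : (A_K.map (MulAut.conj k).toMonoidHom).map f
        = (A_K.map f).map (MulAut.conj (f k)).toMonoidHom := map_cj f k A_K
    rw [h9] at h8
    exact h8

end Cfsg.Agent.Lib.Helper32.LLemma
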