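/-
helper32 shared library: the L-Lemma (S2834), part B: the induction.
`main`: strong induction on the order of the group. Either `A·O_p(H)` lies in a unique maximal
subgroup (then `L = H`), or we take a `p`-subgroup `T0 ≥ A·O_p(H)` of maximal order lying in two
maximal subgroups, a minimal subgroup `P ≥ T0` outside the maximal subgroup `M'` of a Sylow
subgroup over `T0`, replace `A` by a conjugate inside `T0` but outside `O_p(P)` (weak closure
argument) and apply induction inside `P`.
All declarations live in `Cfsg.Agent.Lib.Helper32.LLemma`.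
-/
import Mathlib
import Cfsg.Agent.Lib.Helper32.LLemmaA

set_option autoImplicit false

namespace Cfsg.Agent.Lib.Helper32.LLemma

open Cfsg
open Cfsg.Agent.Lib.Helper47

universe u

/-- `B` lies in two distinct maximal subgroups. -/
def Two {H : Type*} [Group H] (B : Subgroup H) : Prop :=
  ∃ K₁ K₂ : Subgroup H, IsCoatom K₁ ∧ IsCoatom K₂ ∧ K₁ ≠ K₂ ∧ B ≤ K₁ ∧ B ≤ K₂

theorem sub_eq {H : Type*} [Group H] {P : Subgroup H} (X : Subgroup ↥P) :
    (X.map P.subtype).subgroupOf P = X :=
  Subgroup.comap_map_eq_self_of_injective (Subgroup.subtype_injective P) X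

theorem eq_top_of_map_subtype_eq {H : Type*} [Group H] {P : Subgroup H} (X : Subgroup ↥P)
    (h : X.map P.subtype = P) : X = ⊤ := by
  rw [← sub_eq X, h, Subgroup.subgroupOf_self]

theorem le_subgroupOf_of_map_le {H : Type*} [Group H] {P : Subgroup H} (X : Subgroup ↥P)
    {Y : Subgroup H} (h : X.map P.subtype ≤ Y) : X ≤ Y.subgroupOf P := by
  rw [← sub_eq X]
  exact Subgroup.comap_mono h

/-- Step 1: if `A·O_p(H)` lies in a unique maximal subgroup, `L = H` is a solution. -/
theorem step_one {H : Type*} [Group H] [Finite H] {p : ℕ} [Fact p.Prime] (T : Sylow p H)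
    (M : Subgroup H) (hM : IsCoatom M) (hTM : (T : Subgroup H) ≤ M)
    (hU : ∀ M' : Subgroup H, IsCoatom M' → (T : Subgroup H) ≤ M' → M' = M)
    (A : Subgroup H) (hAT : A ≤ T) (hA : ¬ A ≤ pCore p H)
    (h1 : ∀ K : Subgroup H, IsCoatom K → A ⊔ pCore p H ≤ K → K = M) :
    Sol p M A ⊤ := by
  have hOT : pCore p H ≤ T := pCore_le_sylow T
  have hS0M : A ⊔ pCore p H ≤ M := sup_le (hAT.trans hTM) (hOT.trans hTM)
  have htop : pCoreOf p (⊤ : Subgroup H) = pCore p H := pCoreOf_top p H
  have hMnn : ¬ M.Normal := by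
    intro hn
    have := hn
    have hfr : Subgroup.normalizer ((T : Subgroup H) : Set H) ⊔ M = ⊤ :=
      Sylow.normalizer_sup_eq_top' T hTM
    by_cases hNT : Subgroup.normalizer ((T : Subgroup H) : Set H) = ⊤
    · have hTn : (T : Subgroup H).Normal := Subgroup.normalizer_eq_top_iff.mp hNT
      exact hA (hAT.trans (le_pCore hTn T.isPGroup'))
    · obtain ⟨C, hC, hNC⟩ := (eq_top_or_exists_le_coatom _).resolve_left hNT
      have hCM : C = M := hU C hC (Subgroup.le_normalizer.trans hNC)
      rw [hCM] at hNC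
      have : (⊤ : Subgroup H) ≤ M := by
        rw [← hfr]
        exact sup_le hNC le_rfl
      exact hM.1 (top_le_iff.mp this)
  refine ⟨M, ?_, hM.lt_top, ?_, ⟨1, ?_⟩, ?_⟩
  · rw [htop]; exact hS0M
  · intro X hX hXlt
    rw [htop] at hX
    obtain ⟨C, hC, hXC⟩ := (eq_top_or_exists_le_coatom X).resolve_left hXlt.ne
    rw [← h1 C hC (hX.trans hXC)]
    exact hXC
  · rw [top_inf_eq]
    exact (cj_one M).symm
  · intro x _ hxM
    rw [htop]
    by_contra hY
    obtain ⟨C, hC, hYC⟩ := (eq_top_or_exists_le_coatom _).resolve_left hY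
    have hCM : C = M := h1 C hC (le_trans (sup_le_sup_right le_sup_left _) hYC)
    have hcjA : cj x A ≤ M := by
      rw [← hCM]
      exact le_trans (le_trans le_sup_right le_sup_left) hYC
    have h2 : A ⊔ pCore p H ≤ cj x⁻¹ M := by
      apply sup_le
      · exact cj_le_iff.mp hcjA
      · have : cj x (pCore p H) = pCore p H := cj_eq_of_normal x
        rw [← cj_le_iff, this]
        exact hOT.trans hTM
    have h3 : cj x⁻¹ M = M := h1 _ (isCoatom_cj _ hM) h2
    have h4 : x⁻¹ ∈ Subgroup.normalizer (M : Set H) := mem_normalizer_of_cj_eq h3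
    have h5 : x ∈ Subgroup.normalizer (M : Set H) := by simpa using inv_mem h4
    rcases hM.le_iff.mp (Subgroup.le_normalizer : M ≤ Subgroup.normalizer (M : Set H)) with h6 | h6
    · exact hMnn (Subgroup.normalizer_eq_top_iff.mp h6)
    · rw [h6] at h5
      exact hxM h5

/-- conjugates of Sylow subgroups, in `cj` form. -/
theorem sylow_smul_eq_cj {H : Type*} [Group H] {p : ℕ} (g : H) (T : Sylow p H) :
    ((g • T : Sylow p H) : Subgroup H) = cj g T := by
  rfl

/-- The L-Lemma, by strong induction on the order of the group. -/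
theorem main : ∀ (n : ℕ) (H : Type u) [Group H] [Finite H], Nat.card H = n →
    ∀ (p : ℕ) [Fact p.Prime] (T : Sylow p H) (M : Subgroup H), IsCoatom M →
    (T : Subgroup H) ≤ M →
    (∀ M' : Subgroup H, IsCoatom M' → (T : Subgroup H) ≤ M' → M' = M) →
    ∀ A : Subgroup H, A ≤ T → ¬ A ≤ pCore p H →
      ∃ L : Subgroup H, A ⊔ pCore p H ≤ L ∧ Sol p M A L := by
  intro n
  induction n using Nat.strong_induction_on with
  | _ n ih =>
  intro H _ _ hn p _ T M hM hTM hU A hAT hA
  by_cases h1 : ∀ K : Subgroup H, IsCoatom K → A ⊔ pCore p H ≤ K → K = M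
  · exact ⟨⊤, le_top, step_one T M hM hTM hU A hAT hA h1⟩
  · have hOT : pCore p H ≤ T := pCore_le_sylow T
    have hS0T : A ⊔ pCore p H ≤ T := sup_le hAT hOT
    have hS0two : Two (A ⊔ pCore p H) := by
      push Not at h1
      obtain ⟨K, hK, hS0K, hKM⟩ := h1
      exact ⟨K, M, hK, hM, hKM, hS0K, hS0T.trans hTM⟩
    obtain ⟨T0, hT0mem, hT0max⟩ := Set.exists_max_image
      {B : Subgroup H | IsPGroup p B ∧ A ⊔ pCore p H ≤ B ∧ Two B} (fun B => Nat.card B)
      (Set.toFinite _) ⟨_, T.isPGroup'.to_le hS0T, le_rfl, hS0two⟩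
    obtain ⟨hT0p, hS0T0, hT0two⟩ := hT0mem
    have hmax : ∀ B : Subgroup H, IsPGroup p B → T0 < B → ¬ Two B := by
      intro B hB hlt htwo
      have := hT0max B ⟨hB, hS0T0.trans hlt.le, htwo⟩
      exact hlt.ne (Subgroup.eq_of_le_of_card_ge hlt.le this)
    -- a Sylow subgroup over `T0` and its maximal subgroup
    obtain ⟨T', hT0T'⟩ := hT0p.exists_le_sylow
    obtain ⟨g, hg⟩ := MulAction.exists_smul_eq H T T'
    have hT'eq : (T' : Subgroup H) = cj g T := by
      rw [← hg]
      exact sylow_smul_eq_cj g T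
    have hM' : IsCoatom (cj g M) := isCoatom_cj g hM
    have hT'M' : (T' : Subgroup H) ≤ cj g M := by
      rw [hT'eq]
      exact cj_mono g hTM
    have hU' : ∀ C : Subgroup H, IsCoatom C → (T' : Subgroup H) ≤ C → C = cj g M := by
      intro C hC hTC
      have h2 : cj g⁻¹ C = M := hU _ (isCoatom_cj _ hC) (by
        rw [← cj_le_iff, ← hT'eq]
        exact hTC)
      rw [← h2, cj_cj_inv]
    have hT0ltT' : T0 < T' := lt_of_le_of_ne hT0T' (by
      intro heq
      obtain ⟨K₁, K₂, hK₁, hK₂, hne, h1', h2'⟩ := hT0two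
      rw [heq] at h1' h2'
      exact hne ((hU' K₁ hK₁ h1').trans (hU' K₂ hK₂ h2').symm))
    obtain ⟨x, hxT', hxN, hxT0⟩ := exists_mem_normalizer_not_mem T'.isPGroup' hT0ltT'
    have hB₁T' : T0 ⊔ Subgroup.zpowers x ≤ T' := sup_le hT0T' (Subgroup.zpowers_le.mpr hxT')
    have hB₁p : IsPGroup p (T0 ⊔ Subgroup.zpowers x : Subgroup H) := T'.isPGroup'.to_le hB₁T'
    have hT0B₁ : T0 < T0 ⊔ Subgroup.zpowers x := by
      apply lt_of_le_of_ne le_sup_left
      intro h
      apply hxT0
      rw [h]
      exact (le_sup_right : Subgroup.zpowers x ≤ T0 ⊔ Subgroup.zpowers x) (Subgroup.mem_zpowers x)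
    have hB₁N : T0 ⊔ Subgroup.zpowers x ≤ Subgroup.normalizer (T0 : Set H) :=
      sup_le Subgroup.le_normalizer (Subgroup.zpowers_le.mpr hxN)
    have hB₁one : ∀ C : Subgroup H, IsCoatom C → T0 ⊔ Subgroup.zpowers x ≤ C → C = cj g M := by
      intro C hC hBC
      by_contra hne
      exact hmax _ hB₁p hT0B₁ ⟨C, cj g M, hC, hM', hne, hBC, hB₁T'.trans hT'M'⟩
    have hNT0 : Subgroup.normalizer (T0 : Set H) ≤ cj g M := by
      have hne : Subgroup.normalizer (T0 : Set H) ≠ ⊤ := by
        intro htop
        have hn : T0.Normal := Subgroup.normalizer_eq_top_iff.mp htop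
        exact hA ((le_sup_left.trans hS0T0).trans (le_pCore hn hT0p))
      obtain ⟨C, hC, hNC⟩ := (eq_top_or_exists_le_coatom _).resolve_left hne
      rw [← hB₁one C hC (hB₁N.trans hNC)]
      exact hNC
    have hT0M' : T0 ≤ cj g M := Subgroup.le_normalizer.trans hNT0
    obtain ⟨K, hK, hKne, hT0K⟩ : ∃ K : Subgroup H, IsCoatom K ∧ K ≠ cj g M ∧ T0 ≤ K := by
      obtain ⟨K₁, K₂, hK₁, hK₂, hne, h1', h2'⟩ := hT0two
      by_cases h : K₁ = cj g M
      · exact ⟨K₂, hK₂, fun h' => hne (h.trans h'.symm), h2'⟩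
      · exact ⟨K₁, hK₁, h, h1'⟩
    have hKM' : ¬ K ≤ cj g M := by
      intro hle
      rcases hK.le_iff.mp hle with h | h
      · exact hM'.1 h
      · exact hKne h.symm
    -- a minimal subgroup over `T0` outside `M'`
    obtain ⟨P, hPmem, hPmin⟩ := Set.exists_min_image
      {X : Subgroup H | T0 ≤ X ∧ ¬ X ≤ cj g M ∧ X ≤ K} (fun X => Nat.card X)
      (Set.toFinite _) ⟨K, hT0K, hKM', le_rfl⟩
    obtain ⟨hT0P, hPM', hPK⟩ := hPmem
    have hPprop : ∀ X : Subgroup H, T0 ≤ X → X < P → X ≤ cj g M := by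
      intro X hTX hXP
      by_contra hXM
      have := hPmin X ⟨hTX, hXM, hXP.le.trans hPK⟩
      exact hXP.ne (Subgroup.eq_of_le_of_card_ge hXP.le this)
    have hSyl : ∀ B : Subgroup H, IsPGroup p B → T0 ≤ B → B ≤ P → B = T0 := by
      intro B hB hTB hBP
      by_contra hne
      have hlt : T0 < B := lt_of_le_of_ne hTB (Ne.symm hne)
      obtain ⟨y, hyB, hyN, hyT0⟩ := exists_mem_normalizer_not_mem hB hlt
      have hB₂B : T0 ⊔ Subgroup.zpowers y ≤ B := sup_le hTB (Subgroup.zpowers_le.mpr hyB)
      have hB₂p : IsPGroup p (T0 ⊔ Subgroup.zpowers y : Subgroup H) := hB.to_le hB₂B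
      have hT0B₂ : T0 < T0 ⊔ Subgroup.zpowers y := by
        apply lt_of_le_of_ne le_sup_left
        intro h
        apply hyT0
        rw [h]
        exact (le_sup_right : Subgroup.zpowers y ≤ T0 ⊔ Subgroup.zpowers y) (Subgroup.mem_zpowers y)
      have hB₂N : T0 ⊔ Subgroup.zpowers y ≤ Subgroup.normalizer (T0 : Set H) :=
        sup_le Subgroup.le_normalizer (Subgroup.zpowers_le.mpr hyN)
      exact hmax _ hB₂p hT0B₂ ⟨K, cj g M, hK, hM', hKne, hB₂B.trans (hBP.trans hPK),
        hB₂N.trans hNT0⟩
    have hPnorm : P ≤ Subgroup.normalizer ((pCoreOf p P : Subgroup H) : Set H) :=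
      Subgroup.le_normalizer.trans (normalizer_le_normalizer_pCoreOf p P)
    have hQT0 : pCoreOf p P ≤ T0 := by
      have h2 : IsPGroup p (T0 ⊔ pCoreOf p P : Subgroup H) :=
        IsPGroup.to_sup_of_normal_right' hT0p (pCoreOf_isPGroup p P) (hT0P.trans hPnorm)
      have := hSyl _ h2 le_sup_left (sup_le hT0P (pCoreOf_le p P))
      rw [← this]
      exact le_sup_right
    -- a conjugate of `A` in `T0` outside `O_p(P)`
    obtain ⟨h, hhT0, hhQ⟩ : ∃ h : H, cj h A ≤ T0 ∧ ¬ cj h A ≤ pCoreOf p P := by
      by_contra hall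
      push Not at hall
      have hWQ : (⨆ h : {h : H // cj h A ≤ T0}, cj (h : H) A) ≤ pCoreOf p P :=
        iSup_le (fun h => hall h.1 h.2)
      have hWT0 : (⨆ h : {h : H // cj h A ≤ T0}, cj (h : H) A) ≤ T0 := hWQ.trans hQT0
      have hperm : ∀ x : H, (∀ h : H, cj h A ≤ T0 → cj (x * h) A ≤ T0) →
          x ∈ Subgroup.normalizer
            (((⨆ h : {h : H // cj h A ≤ T0}, cj (h : H) A) : Subgroup H) : Set H) := by
        intro x hx
        apply mem_normalizer_of_cj_le
        unfold cj
        rw [Subgroup.map_iSup]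
        apply iSup_le
        intro h
        have h3 : Subgroup.map (MulAut.conj x).toMonoidHom (cj (h : H) A) = cj (x * h) A :=
          cj_cj x h A
        unfold cj at h3
        rw [h3]
        exact le_iSup (fun h : {h : H // cj h A ≤ T0} => cj (h : H) A) ⟨x * h, hx h h.2⟩
      have hNW1 : Subgroup.normalizer (T0 : Set H) ≤ Subgroup.normalizer
            (((⨆ h : {h : H // cj h A ≤ T0}, cj (h : H) A) : Subgroup H) : Set H) := by
        intro x hx
        apply hperm
        intro h hh
        calc cj (x * h) A = cj x (cj h A) := (cj_cj _ _ _).symm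
          _ ≤ cj x T0 := cj_mono x hh
          _ = T0 := cj_eq_of_mem_normalizer hx
      have hNW2 : P ≤ Subgroup.normalizer
            (((⨆ h : {h : H // cj h A ≤ T0}, cj (h : H) A) : Subgroup H) : Set H) := by
        intro x hx
        apply hperm
        intro h hh
        calc cj (x * h) A = cj x (cj h A) := (cj_cj _ _ _).symm
          _ ≤ cj x (pCoreOf p P) := cj_mono x (hall h hh)
          _ = pCoreOf p P := cj_eq_of_mem_normalizer (hPnorm hx)
          _ ≤ T0 := hQT0
      have hNWtop : Subgroup.normalizer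
            (((⨆ h : {h : H // cj h A ≤ T0}, cj (h : H) A) : Subgroup H) : Set H) = ⊤ := by
        by_contra hne
        obtain ⟨C, hC, hNC⟩ := (eq_top_or_exists_le_coatom _).resolve_left hne
        have hCM' : C = cj g M := hB₁one C hC ((hB₁N.trans hNW1).trans hNC)
        apply hPM'
        rw [← hCM']
        exact hNW2.trans hNC
      have hWn : (⨆ h : {h : H // cj h A ≤ T0}, cj (h : H) A).Normal :=
        Subgroup.normalizer_eq_top_iff.mp hNWtop
      have hAW : A ≤ (⨆ h : {h : H // cj h A ≤ T0}, cj (h : H) A) := by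
        have h1A : cj (1 : H) A ≤ T0 := by
          rw [cj_one]
          exact le_sup_left.trans hS0T0
        have := le_iSup (fun h : {h : H // cj h A ≤ T0} => cj (h : H) A) ⟨1, h1A⟩
        rw [cj_one] at this
        exact this
      exact hA (hAW.trans (le_pCore hWn (hT0p.to_le hWT0)))
    -- induction inside `P`
    have hPlt : Nat.card P < n := by
      rw [← hn]
      have h1 : Nat.card P ≤ Nat.card K := Subgroup.card_le_of_le hPK
      have h2 : Nat.card K < Nat.card H := by
        apply lt_of_le_of_ne (Subgroup.card_le_card_group K)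
        intro h
        exact hK.1 (Subgroup.eq_top_of_card_eq K h)
      omega
    obtain ⟨Q, hQ⟩ := (hT0p.comap_subtype (K := P)).exists_le_sylow
    have hT0map : (T0.subgroupOf P).map P.subtype = T0 := Subgroup.map_subgroupOf_eq_of_le hT0P
    have hQeq : (Q : Subgroup ↥P) = T0.subgroupOf P := by
      have h3 := hSyl ((Q : Subgroup ↥P).map P.subtype) (Q.isPGroup'.map _)
        (by rw [← hT0map]; exact Subgroup.map_mono hQ) (Subgroup.map_subtype_le _)
      rw [← sub_eq (Q : Subgroup ↥P), h3]
    have hMKne : M.map (MulAut.conj g).toMonoidHom = cj g M := rfl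
    have hMK : IsCoatom ((cj g M).subgroupOf P) := by
      constructor
      · rw [Ne, Subgroup.subgroupOf_eq_top]
        exact hPM'
      · intro X hX
        have hT0X : T0 ≤ X.map P.subtype := by
          rw [← hT0map]
          exact Subgroup.map_mono ((Subgroup.comap_mono hT0M').trans hX.le)
        by_cases hXP : X.map P.subtype = P
        · exact eq_top_of_map_subtype_eq X hXP
        · exfalso
          have hlt : X.map P.subtype < P := lt_of_le_of_ne (Subgroup.map_subtype_le _) hXP
          exact (not_le_of_gt hX) (le_subgroupOf_of_map_le X (hPprop _ hT0X hlt))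
    have hQM : (Q : Subgroup ↥P) ≤ (cj g M).subgroupOf P := by
      rw [hQeq]
      exact Subgroup.comap_mono hT0M'
    have hUK : ∀ C : Subgroup ↥P, IsCoatom C → (Q : Subgroup ↥P) ≤ C →
        C = (cj g M).subgroupOf P := by
      intro C hC hQC
      have hT0C : T0 ≤ C.map P.subtype := by
        rw [← hT0map, ← hQeq]
        exact Subgroup.map_mono hQC
      have hlt : C.map P.subtype < P := by
        apply lt_of_le_of_ne (Subgroup.map_subtype_le _)
        intro h
        exact hC.1 (eq_top_of_map_subtype_eq C h)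
      have hle : C ≤ (cj g M).subgroupOf P := le_subgroupOf_of_map_le C (hPprop _ hT0C hlt)
      rcases hC.le_iff.mp hle with h | h
      · exact absurd h hMK.1
      · exact h.symm
    have hAQ : (cj h A).subgroupOf P ≤ (Q : Subgroup ↥P) := by
      rw [hQeq]
      exact Subgroup.comap_mono hhT0
    have hAmap : ((cj h A).subgroupOf P).map P.subtype = cj h A :=
      Subgroup.map_subgroupOf_eq_of_le (hhT0.trans hT0P)
    have hAK : ¬ (cj h A).subgroupOf P ≤ pCore p ↥P := by
      intro hle
      apply hhQ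
      have := Subgroup.map_mono (f := P.subtype) hle
      rw [hAmap] at this
      exact this
    obtain ⟨L_K, hL1, hSol⟩ := ih (Nat.card P) hPlt ↥P rfl p Q ((cj g M).subgroupOf P) hMK hQM hUK
      ((cj h A).subgroupOf P) hAQ hAK
    -- transport to `H`
    have hSol1 : Sol p M (((cj h A).subgroupOf P).map P.subtype) (L_K.map P.subtype) :=
      Sol.map P.subtype (Subgroup.subtype_injective P) g (fun k => by
        rw [Subgroup.mem_subgroupOf, mem_cj]
        rfl) hSol
    rw [hAmap] at hSol1
    have hSol2 : Sol p M ((cj h A).map (MulAut.conj h⁻¹).toMonoidHom)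
        ((L_K.map P.subtype).map (MulAut.conj h⁻¹).toMonoidHom) :=
      Sol.map (MulAut.conj h⁻¹).toMonoidHom (MulAut.conj h⁻¹).injective h⁻¹ (fun k => by
        have : (h⁻¹)⁻¹ * (MulAut.conj h⁻¹).toMonoidHom k * h⁻¹ = k := by
          simp only [MulEquiv.coe_toMonoidHom, MulAut.conj_apply]
          group
        rw [this]) hSol1
    have hAback : (cj h A).map (MulAut.conj h⁻¹).toMonoidHom = A := cj_inv_cj h A
    rw [hAback] at hSol2
    refine ⟨(L_K.map P.subtype).map (MulAut.conj h⁻¹).toMonoidHom, ?_, hSol2⟩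
    apply sup_le
    · have h4 : cj h A ≤ L_K.map P.subtype := by
        rw [← hAmap]
        exact Subgroup.map_mono (le_sup_left.trans hL1)
      exact cj_le_iff.mp h4
    · have hOP : pCore p H ≤ P := le_sup_right.trans (hS0T0.trans hT0P)
      have h5 : (pCore p H).subgroupOf P ≤ pCore p ↥P :=
        subgroupOf_le_pCore (by
          rw [Subgroup.normalizer_eq_top_iff.mpr (inferInstance : (pCore p H).Normal)]
          exact le_top) (pCore_isPGroup p H)
      have h6 : pCore p H ≤ L_K.map P.subtype := by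
        rw [← Subgroup.map_subgroupOf_eq_of_le hOP]
        exact Subgroup.map_mono (h5.trans (le_sup_right.trans hL1))
      have h7 : cj h (pCore p H) = pCore p H := cj_eq_of_normal h
      rw [← h7] at h6
      exact cj_le_iff.mp h6

end Cfsg.Agent.Lib.Helper32.LLemma
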