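/-
helper32: definitions for S2202 (finite groups in which the centralizer of every involution is
abelian).  All declarations live in `Cfsg.Agent.Lib.Helper32.AbCent`.
-/
import Mathlib
import Cfsg.Prelude.Def_Involutions

set_option autoImplicit false

namespace Cfsg.Agent.Lib.Helper32.AbCent

open Cfsg

variable {G : Type*} [Group G]

/-- Centralizers of involutions are abelian (the hypothesis of S2202). -/
def InvCentAb (G : Type*) [Group G] : Prop :=
  ∀ t : G, orderOf t = 2 → IsMulCommutative ↥(Subgroup.centralizer ({t} : Set G))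

/-- The conjugate `g H g⁻¹`, in the form used by `Cfsg.IsStronglyEmbedded`. -/
abbrev cj (g : G) (H : Subgroup G) : Subgroup G := H.map (MulAut.conj g).toMonoidHom

/-- The number of involutions of `H`. -/
noncomputable abbrev numInv (H : Subgroup G) : ℕ := Nat.card {t : G // orderOf t = 2 ∧ t ∈ H}

/-- The configuration of case (I): `H` strongly embedded, `M ≤ H` abelian, normalized by `H`,
containing the centralizer of every involution of `H`, a TI-subgroup with normalizer `H`, and `H`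
has at least two involutions. -/
structure TIData (H M : Subgroup G) : Prop where
  se : IsStronglyEmbedded H
  le : M ≤ H
  norm : ∀ h ∈ H, ∀ x ∈ M, h * x * h⁻¹ ∈ M
  comm : ∀ x ∈ M, ∀ y ∈ M, x * y = y * x
  cent : ∀ t ∈ H, orderOf t = 2 → ∀ g : G, g * t = t * g → g ∈ M
  ti : ∀ g : G, g ∉ H → ∀ x ∈ M, g * x * g⁻¹ ∈ M → x = 1
  two : ∃ a b : G, a ∈ H ∧ b ∈ H ∧ orderOf a = 2 ∧ orderOf b = 2 ∧ a ≠ b

/-- `M` meets every other conjugate of `H` trivially. -/
def FTriv (H M : Subgroup G) : Prop :=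
  ∀ g : G, g ∉ H → ∀ x ∈ M, x ∈ cj g H → x = 1

/-- Every involution `u ∉ H` inverts `H ∩ uHu⁻¹`, which has `numInv H` elements. -/
def DInv (H : Subgroup G) : Prop :=
  ∀ u : G, orderOf u = 2 → u ∉ H →
    Nat.card ↥(H ⊓ cj u H) = numInv H ∧ ∀ d ∈ H ⊓ cj u H, u * d * u⁻¹ = d⁻¹

/-- Nonidentity elements of the two-point stabilizers `H ∩ uHu⁻¹` centralize no nonidentity
element of `M`. -/
def Frob (H M : Subgroup G) : Prop :=
  ∀ u : G, orderOf u = 2 → u ∉ H → ∀ d ∈ H ⊓ cj u H, d ≠ 1 → ∀ x ∈ M, x * d = d * x → x = 1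

/-- A nonidentity element of `H ∩ uHu⁻¹` fixes no third coset. -/
def Fix2 (H : Subgroup G) : Prop :=
  ∀ u : G, orderOf u = 2 → u ∉ H → ∀ d ∈ H ⊓ cj u H, d ≠ 1 →
    ∀ g : G, g ∉ H → d ∈ cj g H → u⁻¹ * g ∈ H

end Cfsg.Agent.Lib.Helper32.AbCent
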