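/-
helper32: S2202 module [I-3]: in the TI configuration, `M` meets every other conjugate of `H`
trivially.  All declarations live in `Cfsg.Agent.Lib.Helper32.AbCent`.
-/
import Mathlib
import Cfsg.Prelude.Def_Involutions
import Cfsg.Agent.Lib.Helper32.AbCentDefs
import Cfsg.Agent.Lib.Helper21.StronglyEmbedded
import Cfsg.Agent.Lib.Helper50.ChermakDelgado
import Cfsg.Agent.Lib.Helper47.AbCentI124

set_option autoImplicit false

namespace Cfsg.Agent.Lib.Helper32.AbCent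

open Cfsg Cfsg.Agent.Lib.Helper21
open scoped Pointwise

variable {G : Type*} [Group G] {H M : Subgroup G}

theorem mem_cj_iff (g x : G) (K : Subgroup G) : x ∈ cj g K ↔ g⁻¹ * x * g ∈ K :=
  mem_map_conj_iff g x

theorem conj_mem_cj {g x : G} {K : Subgroup G} (hx : x ∈ K) : g * x * g⁻¹ ∈ cj g K := by
  rw [mem_cj_iff]; simpa [mul_assoc] using hx

/-- For an involution `u`, `u⁻¹ = u`. -/
theorem inv_eq_self_of_inv {u : G} (hu : orderOf u = 2) : u⁻¹ = u := inv_inv_eq hu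

theorem cj_mul_right_of_mem {u k : G} (hk : k ∈ H) : cj (u * k) H = cj u H := by
  ext x
  rw [mem_cj_iff, mem_cj_iff]
  constructor
  · intro hx
    have : u⁻¹ * x * u = k * ((u * k)⁻¹ * x * (u * k)) * k⁻¹ := by group
    rw [this]; exact H.mul_mem (H.mul_mem hk hx) (H.inv_mem hk)
  · intro hx
    have : (u * k)⁻¹ * x * (u * k) = k⁻¹ * (u⁻¹ * x * u) * k := by group
    rw [this]; exact H.mul_mem (H.mul_mem (H.inv_mem hk) hx) hk

/-- An involution `u` normalizes `H ⊓ cj u H`. -/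
theorem conj_mem_D {u d : G} (hu : orderOf u = 2) (hd : d ∈ H ⊓ cj u H) :
    u * d * u⁻¹ ∈ H ⊓ cj u H := by
  obtain ⟨h1, h2⟩ := Subgroup.mem_inf.mp hd
  refine Subgroup.mem_inf.mpr ⟨?_, conj_mem_cj h1⟩
  rw [mem_cj_iff] at h2
  have : u * d * u⁻¹ = u⁻¹ * d * u := by rw [inv_eq_self_of_inv hu]
  rw [this]; exact h2

/-- `M ⊓ uMu⁻¹ = 1` elementwise. -/
theorem eq_one_of_mem_of_conj_mem (h : TIData H M) {u : G} (huH : u ∉ H) {c : G} (hc : c ∈ M)
    (hc' : u⁻¹ * c * u ∈ M) : c = 1 := by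
  have h1 := h.ti u huH (u⁻¹ * c * u) hc' (by
    have : u * (u⁻¹ * c * u) * u⁻¹ = c := by group
    rw [this]; exact hc)
  have : c = u * (u⁻¹ * c * u) * u⁻¹ := by group
  rw [this, h1]; group

/-- Elements of `F = M ⊓ cj u H` commute with elements of `u F u⁻¹`. -/
theorem comm_F_F' (h : TIData H M) {u : G} (hu : orderOf u = 2) (huH : u ∉ H) {x y : G}
    (hx : x ∈ M ⊓ cj u H) (hy : y ∈ M ⊓ cj u H) :
    x * (u * y * u⁻¹) = (u * y * u⁻¹) * x := by
  obtain ⟨hxM, hxc⟩ := Subgroup.mem_inf.mp hx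
  obtain ⟨hyM, hyc⟩ := Subgroup.mem_inf.mp hy
  rw [mem_cj_iff] at hxc hyc
  have huu : u⁻¹ = u := inv_eq_self_of_inv hu
  have hy'H : u * y * u⁻¹ ∈ H := by
    have : u * y * u⁻¹ = u⁻¹ * y * u := by rw [huu]
    rw [this]; exact hyc
  set y' := u * y * u⁻¹ with hy'
  have hcM : x * y' * x⁻¹ * y'⁻¹ ∈ M := by
    have h1 : y' * x⁻¹ * y'⁻¹ ∈ M := h.norm y' hy'H x⁻¹ (M.inv_mem hxM)
    have : x * y' * x⁻¹ * y'⁻¹ = x * (y' * x⁻¹ * y'⁻¹) := by group
    rw [this]; exact M.mul_mem hxM h1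
  have hcM' : u⁻¹ * (x * y' * x⁻¹ * y'⁻¹) * u ∈ M := by
    have h1 : (u⁻¹ * x * u) * y * (u⁻¹ * x * u)⁻¹ ∈ M := h.norm _ hxc y hyM
    have : u⁻¹ * (x * y' * x⁻¹ * y'⁻¹) * u = ((u⁻¹ * x * u) * y * (u⁻¹ * x * u)⁻¹) * y⁻¹ := by
      rw [hy']; group
    rw [this]; exact M.mul_mem h1 (M.inv_mem hyM)
  have hc1 := eq_one_of_mem_of_conj_mem h huH hcM hcM'
  calc x * y' = (x * y' * x⁻¹ * y'⁻¹) * (y' * x) := by group
    _ = y' * x := by rw [hc1, one_mul]

/-- The diagonal element `x * (u x u⁻¹)` lies in `D = H ⊓ cj u H` and commutes with `u`. -/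
theorem diag_mem (h : TIData H M) {u : G} (hu : orderOf u = 2) (huH : u ∉ H) {x : G}
    (hx : x ∈ M ⊓ cj u H) :
    x * (u * x * u⁻¹) ∈ H ⊓ cj u H ∧ u * (x * (u * x * u⁻¹)) = (x * (u * x * u⁻¹)) * u := by
  have hxD : x ∈ H ⊓ cj u H :=
    Subgroup.mem_inf.mpr ⟨h.le (Subgroup.mem_inf.mp hx).1, (Subgroup.mem_inf.mp hx).2⟩
  refine ⟨(H ⊓ cj u H).mul_mem hxD (conj_mem_D hu hxD), ?_⟩
  have huu : u⁻¹ = u := inv_eq_self_of_inv hu
  have h2 : u * u = 1 := inv_mul_self hu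
  have hc := comm_F_F' h hu huH hx hx
  calc u * (x * (u * x * u⁻¹)) = (u * x * u⁻¹) * (u * u) * x * u⁻¹ := by group
    _ = (u * x * u⁻¹) * x * u⁻¹ := by rw [h2, mul_one]
    _ = x * (u * x * u⁻¹) * u⁻¹ := by rw [hc]
    _ = x * (u * x * u⁻¹) * u := by rw [huu]

/-- The diagonal map is injective on `F`. -/
theorem diag_inj (h : TIData H M) {u : G} (huH : u ∉ H) {x x' : G}
    (hx : x ∈ M ⊓ cj u H) (hx' : x' ∈ M ⊓ cj u H)
    (he : x * (u * x * u⁻¹) = x' * (u * x' * u⁻¹)) : x = x' := by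
  have hxM := (Subgroup.mem_inf.mp hx).1
  have hx'M := (Subgroup.mem_inf.mp hx').1
  have hc : x'⁻¹ * x ∈ M := M.mul_mem (M.inv_mem hx'M) hxM
  have he2 : x'⁻¹ * x = u * (x' * x⁻¹) * u⁻¹ := by
    have : x'⁻¹ * x = x'⁻¹ * (x * (u * x * u⁻¹)) * (u * x * u⁻¹)⁻¹ := by group
    rw [this, he]; group
  have hc' : u⁻¹ * (x'⁻¹ * x) * u ∈ M := by
    rw [he2]
    have : u⁻¹ * (u * (x' * x⁻¹) * u⁻¹) * u = x' * x⁻¹ := by group
    rw [this]; exact M.mul_mem hx'M (M.inv_mem hxM)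
  have := eq_one_of_mem_of_conj_mem h huH hc hc'
  exact (inv_mul_eq_one.mp this).symm

section Finite

variable [Finite G]

omit [Finite G] in
theorem odd_orderOf_of_mem_D (hH : IsStronglyEmbedded H) {u : G} (huH : u ∉ H) {d : G}
    (hd : d ∈ H ⊓ cj u H) : Odd (orderOf d) := by
  have h1 : Odd (Nat.card ↥(H ⊓ cj u H)) := hH.2.2 u huH
  have h2 : orderOf (⟨d, hd⟩ : ↥(H ⊓ cj u H)) ∣ Nat.card ↥(H ⊓ cj u H) := orderOf_dvd_natCard _
  rw [Subgroup.orderOf_mk] at h2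
  exact Odd.of_dvd_nat h1 h2

omit [Finite G] in
theorem eq_one_of_mul_self_of_odd {z : G} (hodd : Odd (orderOf z)) (hz : z * z = 1) : z = 1 := by
  have h1 : orderOf z ∣ 2 := orderOf_dvd_of_pow_eq_one (by rw [pow_two]; exact hz)
  have h2 : orderOf z = 1 := by
    rcases (Nat.dvd_prime Nat.prime_two).mp h1 with h | h
    · exact h
    · rw [h] at hodd; exact absurd hodd (by decide)
  exact orderOf_eq_one_iff.mp h2

/-- `m * |C_D(u)| ≤ |D|`: the product map from (inverted elements) × (centralized elements) is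
injective. -/
theorem card_inverted_mul_le (hH : IsStronglyEmbedded H) {u : G} (hu : orderOf u = 2)
    (huH : u ∉ H) :
    Nat.card {d : G // d ∈ H ∧ u * d * u⁻¹ = d⁻¹} *
        Nat.card ↥(Subgroup.centralizer ({u} : Set G) ⊓ (H ⊓ cj u H)) ≤
      Nat.card ↥(H ⊓ cj u H) := by
  rw [← Nat.card_prod]
  have huu : u⁻¹ = u := inv_eq_self_of_inv hu
  have hKD : ∀ k : {d : G // d ∈ H ∧ u * d * u⁻¹ = d⁻¹}, (k : G) ∈ H ⊓ cj u H := by
    rintro ⟨k, hkH, hk⟩
    refine Subgroup.mem_inf.mpr ⟨hkH, ?_⟩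
    rw [mem_cj_iff]
    have : u⁻¹ * k * u = (u * k * u⁻¹) := by rw [huu]
    rw [this, hk]; exact H.inv_mem hkH
  let Φ : {d : G // d ∈ H ∧ u * d * u⁻¹ = d⁻¹} ×
      ↥(Subgroup.centralizer ({u} : Set G) ⊓ (H ⊓ cj u H)) → ↥(H ⊓ cj u H) :=
    fun p => ⟨(p.1 : G) * (p.2 : G),
      (H ⊓ cj u H).mul_mem (hKD p.1) (Subgroup.mem_inf.mp p.2.2).2⟩
  apply Nat.card_le_card_of_injective Φ
  rintro ⟨⟨k, hkH, hk⟩, ⟨c, hc⟩⟩ ⟨⟨k', hk'H, hk'⟩, ⟨c', hc'⟩⟩ he
  have he' : k * c = k' * c' := congrArg Subtype.val he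
  obtain ⟨hcu, hcD⟩ := Subgroup.mem_inf.mp hc
  obtain ⟨hc'u, hc'D⟩ := Subgroup.mem_inf.mp hc'
  rw [Subgroup.mem_centralizer_iff] at hcu hc'u
  have hcu' : u * c * u⁻¹ = c := by
    have := hcu u (Set.mem_singleton u)
    rw [this]; group
  have hc'u' : u * c' * u⁻¹ = c' := by
    have := hc'u u (Set.mem_singleton u)
    rw [this]; group
  -- z = k'⁻¹ k = c' c⁻¹
  have hz1 : k'⁻¹ * k = c' * c⁻¹ := by
    have : k'⁻¹ * k = k'⁻¹ * (k * c) * c⁻¹ := by group
    rw [this, he']; group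
  have hz2 : u * (k'⁻¹ * k) * u⁻¹ = k' * k⁻¹ := by
    have : u * (k'⁻¹ * k) * u⁻¹ = (u * k' * u⁻¹)⁻¹ * (u * k * u⁻¹) := by group
    rw [this, hk, hk', inv_inv]
  have hz3 : u * (c' * c⁻¹) * u⁻¹ = c' * c⁻¹ := by
    have : u * (c' * c⁻¹) * u⁻¹ = (u * c' * u⁻¹) * (u * c * u⁻¹)⁻¹ := by group
    rw [this, hcu', hc'u']
  have hz4 : k'⁻¹ * k = k' * k⁻¹ := by
    rw [← hz2, hz1, hz3]
  have hinv : k' * (k'⁻¹ * k) * k'⁻¹ = (k'⁻¹ * k)⁻¹ := by
    have h1 : k' * (k'⁻¹ * k) * k'⁻¹ = k * k'⁻¹ := by group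
    have h2 : (k'⁻¹ * k)⁻¹ = (k' * k⁻¹)⁻¹ := by rw [hz4]
    rw [h1, h2]; group
  have hk'D : k' ∈ H ⊓ cj u H := hKD ⟨k', hk'H, hk'⟩
  have hkD : k ∈ H ⊓ cj u H := hKD ⟨k, hkH, hk⟩
  have hzz := mul_self_eq_one_of_odd_inverts (odd_orderOf_of_mem_D hH huH hk'D) hinv
  have hzD : k'⁻¹ * k ∈ H ⊓ cj u H := (H ⊓ cj u H).mul_mem ((H ⊓ cj u H).inv_mem hk'D) hkD
  have hz1' := eq_one_of_mul_self_of_odd (odd_orderOf_of_mem_D hH huH hzD) hzz
  have hkk : k = k' := (inv_mul_eq_one.mp hz1').symm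
  subst hkk
  have hcc : c = c' := mul_left_cancel he'
  subst hcc
  rfl

open Cfsg.Agent.Lib.Helper47.AbCent Cfsg.Agent.Lib.Helper50

/-- Pairwise trivially intersecting subgroups of order `f` inside a set `Y`. -/
theorem card_spread' {ι : Type*} [Fintype ι] (A : ι → Subgroup G) (Y : Set G) (f : ℕ)
    (hcard : ∀ i, Nat.card (A i) = f) (hsub : ∀ i, ((A i : Subgroup G) : Set G) ⊆ Y)
    (hdisj : ∀ i j, i ≠ j → A i ⊓ A j = ⊥) (h1 : (1 : G) ∈ Y) :
    Fintype.card ι * (f - 1) + 1 ≤ Nat.card Y := by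
  classical
  have : Fintype G := Fintype.ofFinite G
  -- the sets `A i \ {1}` are pairwise disjoint subsets of `Y \ {1}`
  let S : ι → Finset G := fun i => (Finset.univ.filter (fun x => x ∈ A i)).erase 1
  have hS : ∀ i, (S i).card = f - 1 := by
    intro i
    rw [Finset.card_erase_of_mem (by simp [(A i).one_mem])]
    congr 1
    rw [← hcard i, Nat.card_eq_fintype_card, Fintype.card_subtype]
  have hdis : ((Finset.univ : Finset ι) : Set ι).PairwiseDisjoint S := by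
    intro i _ j _ hij
    rw [Function.onFun, Finset.disjoint_left]
    intro x hxi hxj
    simp only [S, Finset.mem_erase, Finset.mem_filter, Finset.mem_univ, true_and] at hxi hxj
    have : x ∈ A i ⊓ A j := Subgroup.mem_inf.mpr ⟨hxi.2, hxj.2⟩
    rw [hdisj i j hij, Subgroup.mem_bot] at this
    exact hxi.1 this
  have hU : ((Finset.univ : Finset ι).biUnion S).card = Fintype.card ι * (f - 1) := by
    rw [Finset.card_biUnion hdis]
    simp [hS]
  let YF : Finset G := Finset.univ.filter (fun x => x ∈ Y)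
  have hYF : Nat.card Y = YF.card := by
    rw [Nat.card_eq_fintype_card, Fintype.card_subtype]
  have hsubU : insert 1 ((Finset.univ : Finset ι).biUnion S) ⊆ YF := by
    intro x hx
    rw [Finset.mem_insert] at hx
    rcases hx with rfl | hx
    · simp [YF, h1]
    · rw [Finset.mem_biUnion] at hx
      obtain ⟨i, _, hxi⟩ := hx
      simp only [S, Finset.mem_erase, Finset.mem_filter, Finset.mem_univ, true_and] at hxi
      simp only [YF, Finset.mem_filter, Finset.mem_univ, true_and]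
      exact hsub i hxi.2
  have h1n : (1 : G) ∉ (Finset.univ : Finset ι).biUnion S := by
    rw [Finset.mem_biUnion]
    rintro ⟨i, _, hi⟩
    simp [S] at hi
  have := Finset.card_le_card hsubU
  rw [Finset.card_insert_of_notMem h1n, hU] at this
  rw [hYF]; exact this

/-- `|D| = m * |F|`. -/
theorem card_D_eq (h : TIData H M) {u : G} (hu : orderOf u = 2) (huH : u ∉ H) :
    Nat.card ↥(H ⊓ cj u H) = numInv H * Nat.card ↥(M ⊓ cj u H) := by
  have h1 := card_mul_card_eq_card_inf_mul_card_mul (H ⊓ cj u H) M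
  have h2 : (H ⊓ cj u H) ⊓ M = M ⊓ cj u H := by
    ext x
    simp only [Subgroup.mem_inf]
    constructor
    · rintro ⟨⟨_, hx2⟩, hx3⟩; exact ⟨hx3, hx2⟩
    · rintro ⟨hx1, hx2⟩; exact ⟨⟨h.le hx1, hx2⟩, hx1⟩
  have h3 : (((H ⊓ cj u H : Subgroup G) : Set G) * (M : Set G) : Set G) = (H : Set G) := by
    ext x
    constructor
    · rintro ⟨d, hd, y, hy, rfl⟩
      exact H.mul_mem (Subgroup.mem_inf.mp hd).1 (h.le hy)
    · intro hx
      obtain ⟨d, hd, y, hy, rfl⟩ := exists_mul_of_mem_H h hu huH hx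
      exact ⟨d, hd, y, hy, rfl⟩
  rw [h2, h3] at h1
  have h4 : Nat.card ((H : Subgroup G) : Set G) = Nat.card H := rfl
  rw [h4, card_H_eq h] at h1
  have hMpos : 0 < Nat.card M := Nat.card_pos
  have : Nat.card ↥(H ⊓ cj u H) * Nat.card M =
      (numInv H * Nat.card ↥(M ⊓ cj u H)) * Nat.card M := by
    rw [h1]; ring
  exact Nat.eq_of_mul_eq_mul_right hMpos this

theorem numInv_pos (h : TIData H M) : 0 < numInv H := by
  obtain ⟨a, _, haH, _, ha, _, _⟩ := h.two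
  exact Nat.card_pos_iff.mpr ⟨⟨⟨a, ha, haH⟩⟩, inferInstance⟩

/-- Lemma A: `C_D(u)` is the diagonal of `F × uFu⁻¹`. -/
theorem centralizer_inf_D (h : TIData H M) {u : G} (hu : orderOf u = 2) (huH : u ∉ H) :
    Nat.card ↥(Subgroup.centralizer ({u} : Set G) ⊓ (H ⊓ cj u H)) = Nat.card ↥(M ⊓ cj u H) ∧
      ∀ c ∈ Subgroup.centralizer ({u} : Set G) ⊓ (H ⊓ cj u H),
        ∃ x ∈ M ⊓ cj u H, c = x * (u * x * u⁻¹) := by
  let δ : ↥(M ⊓ cj u H) → ↥(Subgroup.centralizer ({u} : Set G) ⊓ (H ⊓ cj u H)) :=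
    fun x => ⟨(x : G) * (u * x * u⁻¹), by
      obtain ⟨h1, h2⟩ := diag_mem h hu huH x.2
      refine Subgroup.mem_inf.mpr ⟨?_, h1⟩
      rw [Subgroup.mem_centralizer_iff]
      intro y hy
      rw [Set.mem_singleton_iff] at hy
      rw [hy]; exact h2⟩
  have hδ : Function.Injective δ := by
    intro x x' he
    exact Subtype.ext (diag_inj h huH x.2 x'.2 (congrArg Subtype.val he))
  have hle1 : Nat.card ↥(M ⊓ cj u H) ≤
      Nat.card ↥(Subgroup.centralizer ({u} : Set G) ⊓ (H ⊓ cj u H)) :=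
    Nat.card_le_card_of_injective δ hδ
  have hle2 : Nat.card ↥(Subgroup.centralizer ({u} : Set G) ⊓ (H ⊓ cj u H)) ≤
      Nat.card ↥(M ⊓ cj u H) := by
    have h1 := card_inverted_mul_le h.se hu huH
    rw [card_inverted h.se hu huH, card_D_eq h hu huH] at h1
    exact Nat.le_of_mul_le_mul_left h1 (numInv_pos h)
  have heq := le_antisymm hle2 hle1
  refine ⟨heq, ?_⟩
  have hbij : Function.Bijective δ :=
    (Nat.bijective_iff_injective_and_card δ).mpr ⟨hδ, heq.symm⟩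
  intro c hc
  obtain ⟨x, hx⟩ := hbij.2 ⟨c, hc⟩
  exact ⟨x, x.2, (congrArg Subtype.val hx).symm⟩

omit [Finite G] in
/-- Inverted elements of `H` lie in `D`. -/
theorem inverted_mem_D {u k : G} (hu : orderOf u = 2) (hkH : k ∈ H) (hk : u * k * u⁻¹ = k⁻¹) :
    k ∈ H ⊓ cj u H := by
  refine Subgroup.mem_inf.mpr ⟨hkH, ?_⟩
  rw [mem_cj_iff]
  have : u⁻¹ * k * u = (u * k * u⁻¹) := by rw [inv_eq_self_of_inv hu]
  rw [this, hk]; exact H.inv_mem hkH

omit [Finite G] in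
/-- `u * k` is an involution outside `H` when `k ∈ H` is inverted by the involution `u ∉ H`. -/
theorem mul_inverted_props {u k : G} (hu : orderOf u = 2) (huH : u ∉ H) (hkH : k ∈ H)
    (hk : u * k * u⁻¹ = k⁻¹) : orderOf (u * k) = 2 ∧ u * k ∉ H := by
  have huu : u⁻¹ = u := inv_eq_self_of_inv hu
  have hnot : u * k ∉ H := by
    intro hc
    apply huH
    have : u = (u * k) * k⁻¹ := by group
    rw [this]; exact H.mul_mem hc (H.inv_mem hkH)
  refine ⟨orderOf_eq_two_of ?_ ?_, hnot⟩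
  · intro h1
    exact hnot (h1 ▸ H.one_mem)
  · calc u * k * (u * k) = (u * k * u) * k := by group
      _ = (u * k * u⁻¹) * k := by rw [huu]
      _ = 1 := by rw [hk]; group

/-- Lemma C: two involutions commuting with a common nonidentity element commute. -/
theorem involutions_commute_of_common (h : TIData H M) {v v' x : G} (hv : orderOf v = 2)
    (hv' : orderOf v' = 2) (hx1 : x ≠ 1) (hxv : x * v = v * x) (hxv' : x * v' = v' * x) :
    v * v' = v' * v := by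
  obtain ⟨t, _, htH, _, ht, _, _⟩ := h.two
  have htM : t ∈ M := h.cent t htH ht t rfl
  obtain ⟨g, hg⟩ := isConj_iff.mp (se_involutions_isConj h.se ht hv)
  obtain ⟨g', hg'⟩ := isConj_iff.mp (se_involutions_isConj h.se ht hv')
  have hy : g⁻¹ * x * g ∈ M := by
    apply h.cent t htH ht
    have : t = g⁻¹ * v * g := by rw [← hg]; group
    rw [this]
    calc g⁻¹ * x * g * (g⁻¹ * v * g) = g⁻¹ * (x * v) * g := by group
      _ = g⁻¹ * (v * x) * g := by rw [hxv]
      _ = g⁻¹ * v * g * (g⁻¹ * x * g) := by group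
  have hy' : g'⁻¹ * x * g' ∈ M := by
    apply h.cent t htH ht
    have : t = g'⁻¹ * v' * g' := by rw [← hg']; group
    rw [this]
    calc g'⁻¹ * x * g' * (g'⁻¹ * v' * g') = g'⁻¹ * (x * v') * g' := by group
      _ = g'⁻¹ * (v' * x) * g' := by rw [hxv']
      _ = g'⁻¹ * v' * g' * (g'⁻¹ * x * g') := by group
  have hgg : g⁻¹ * g' ∈ H := by
    by_contra hcon
    have h1 := h.ti (g⁻¹ * g') hcon (g'⁻¹ * x * g') hy' (by
      have : g⁻¹ * g' * (g'⁻¹ * x * g') * (g⁻¹ * g')⁻¹ = g⁻¹ * x * g := by group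
      rw [this]; exact hy)
    apply hx1
    have : x = g' * (g'⁻¹ * x * g') * g'⁻¹ := by group
    rw [this, h1]; group
  have h2 : g⁻¹ * v' * g ∈ M := by
    have : g⁻¹ * v' * g = (g⁻¹ * g') * t * (g⁻¹ * g')⁻¹ := by rw [← hg']; group
    rw [this]; exact h.norm _ hgg t htM
  have h3 : g⁻¹ * v * g ∈ M := by
    have : g⁻¹ * v * g = t := by rw [← hg]; group
    rw [this]; exact htM
  have h4 := h.comm _ h3 _ h2
  calc v * v' = g * ((g⁻¹ * v * g) * (g⁻¹ * v' * g)) * g⁻¹ := by group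
    _ = g * ((g⁻¹ * v' * g) * (g⁻¹ * v * g)) * g⁻¹ := by rw [h4]
    _ = v' * v := by group

omit [Finite G] in
theorem F_inf_F' (h : TIData H M) {u : G} (huH : u ∉ H) {x : G} (hx : x ∈ M ⊓ cj u H)
    (hx' : x ∈ cj u (M ⊓ cj u H)) : x = 1 := by
  rw [mem_cj_iff] at hx'
  exact eq_one_of_mem_of_conj_mem h huH (Subgroup.mem_inf.mp hx).1 (Subgroup.mem_inf.mp hx').1

omit [Finite G] in
theorem F_inf_C (h : TIData H M) {v : G} (hvH : v ∉ H) {x : G} (hxM : x ∈ M)
    (hxv : x ∈ Subgroup.centralizer ({v} : Set G)) : x = 1 := by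
  rw [Subgroup.mem_centralizer_iff] at hxv
  have h1 := hxv v (Set.mem_singleton v)
  apply h.ti v hvH x hxM
  have : v * x * v⁻¹ = x := by rw [h1]; group
  rw [this]; exact hxM

omit [Finite G] in
theorem F'_inf_C (h : TIData H M) {u k : G} (huH : u ∉ H) (hkH : k ∈ H) {x : G}
    (hx : x ∈ cj u (M ⊓ cj u H)) (hxv : x ∈ Subgroup.centralizer ({u * k} : Set G)) : x = 1 := by
  rw [mem_cj_iff] at hx
  have hkuH : k * u ∉ H := by
    intro hc
    apply huH
    have : u = k⁻¹ * (k * u) := by group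
    rw [this]; exact H.mul_mem (H.inv_mem hkH) hc
  rw [Subgroup.mem_centralizer_iff] at hxv
  have h1 := hxv (u * k) (Set.mem_singleton _)
  have hy : u⁻¹ * x * u = 1 := by
    apply F_inf_C h hkuH (Subgroup.mem_inf.mp hx).1
    rw [Subgroup.mem_centralizer_iff]
    intro y hy
    rw [Set.mem_singleton_iff] at hy
    rw [hy]
    calc k * u * (u⁻¹ * x * u) = u⁻¹ * (u * k * x) * u := by group
      _ = u⁻¹ * (x * (u * k)) * u := by rw [h1]
      _ = u⁻¹ * x * u * (k * u) := by group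
  have : x = u * (u⁻¹ * x * u) * u⁻¹ := by group
  rw [this, hy]; group

theorem C_inf_C (h : TIData H M) {u k k' : G} (hu : orderOf u = 2) (huH : u ∉ H) (hkH : k ∈ H)
    (hk : u * k * u⁻¹ = k⁻¹) (hk'H : k' ∈ H) (hk' : u * k' * u⁻¹ = k'⁻¹) (hne : k ≠ k') {x : G}
    (hx : x ∈ Subgroup.centralizer ({u * k} : Set G))
    (hx' : x ∈ Subgroup.centralizer ({u * k'} : Set G)) : x = 1 := by
  by_contra hx1
  obtain ⟨ho, _⟩ := mul_inverted_props hu huH hkH hk
  obtain ⟨ho', _⟩ := mul_inverted_props hu huH hk'H hk'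
  rw [Subgroup.mem_centralizer_iff] at hx hx'
  have h1 := (hx (u * k) (Set.mem_singleton _)).symm
  have h1' := (hx' (u * k') (Set.mem_singleton _)).symm
  have hc := involutions_commute_of_common h ho ho' hx1 h1 h1'
  have hsq : u * k * (u * k) = 1 := inv_mul_self ho
  have hsq' : u * k' * (u * k') = 1 := inv_mul_self ho'
  have hz : k⁻¹ * k' = (u * k) * (u * k') := by
    have : k⁻¹ * k' = (u * k)⁻¹ * (u * k') := by group
    rw [this, inv_inv_eq ho]
  have hzz : (k⁻¹ * k') * (k⁻¹ * k') = 1 := by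
    rw [hz]
    calc u * k * (u * k') * (u * k * (u * k')) = u * k * ((u * k') * (u * k)) * (u * k') := by group
      _ = u * k * ((u * k) * (u * k')) * (u * k') := by rw [hc]
      _ = (u * k * (u * k)) * ((u * k') * (u * k')) := by group
      _ = 1 := by rw [hsq, hsq', one_mul]
  have hkD := inverted_mem_D hu hkH hk
  have hk'D := inverted_mem_D hu hk'H hk'
  have hzD : k⁻¹ * k' ∈ H ⊓ cj u H := (H ⊓ cj u H).mul_mem ((H ⊓ cj u H).inv_mem hkD) hk'D
  have := eq_one_of_mul_self_of_odd (odd_orderOf_of_mem_D h.se huH hzD) hzz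
  exact hne (inv_mul_eq_one.mp this)

/-- The key count: `F = M ⊓ cj u H` is trivial. -/
theorem card_F_eq_one (h : TIData H M) {u : G} (hu : orderOf u = 2) (huH : u ∉ H) :
    Nat.card ↥(M ⊓ cj u H) = 1 := by
  classical
  set F : Subgroup G := M ⊓ cj u H with hFdef
  set f := Nat.card F with hf
  have hfpos : 0 < f := Nat.card_pos
  let K := {d : G // d ∈ H ∧ u * d * u⁻¹ = d⁻¹}
  haveI : Fintype K := Fintype.ofFinite K
  have hKcard : Fintype.card K = numInv H := by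
    rw [← Nat.card_eq_fintype_card]; exact card_inverted h.se hu huH
  let A : Option (Option K) → Subgroup G := fun i =>
    match i with
    | none => F
    | some none => cj u F
    | some (some k) => Subgroup.centralizer ({u * (k : G)} : Set G) ⊓ (H ⊓ cj u H)
  let Y : Set G := (F : Set G) * ((cj u F : Subgroup G) : Set G)
  have hk_facts : ∀ k : K,
      Nat.card ↥(Subgroup.centralizer ({u * (k : G)} : Set G) ⊓ (H ⊓ cj u H)) = f ∧
      ∀ c ∈ Subgroup.centralizer ({u * (k : G)} : Set G) ⊓ (H ⊓ cj u H),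
        ∃ x ∈ F, c = x * (u * k * x * (u * k)⁻¹) := by
    rintro ⟨k, hkH, hk⟩
    obtain ⟨ho, hnot⟩ := mul_inverted_props hu huH hkH hk
    have := centralizer_inf_D h ho hnot
    rw [cj_mul_right_of_mem hkH] at this
    exact this
  have hFD : ∀ x ∈ F, x ∈ H ⊓ cj u H := fun x hx =>
    Subgroup.mem_inf.mpr ⟨h.le (Subgroup.mem_inf.mp hx).1, (Subgroup.mem_inf.mp hx).2⟩
  have hcard : ∀ i, Nat.card (A i) = f := by
    rintro (_ | _ | k)
    · rfl
    · show Nat.card ↥(cj u F) = f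
      exact Subgroup.card_map_of_injective (MulAut.conj u).injective
    · exact (hk_facts k).1
  have hsub : ∀ i, ((A i : Subgroup G) : Set G) ⊆ Y := by
    rintro (_ | _ | k) x hx
    · exact ⟨x, hx, 1, (cj u F).one_mem, mul_one x⟩
    · exact ⟨1, F.one_mem, x, hx, one_mul x⟩
    · obtain ⟨a, haF, rfl⟩ := (hk_facts k).2 x hx
      refine ⟨a, haF, _, ?_, rfl⟩
      obtain ⟨k, hkH, hk⟩ := k
      have hkD := inverted_mem_D hu hkH hk
      have hkaF : k * a * k⁻¹ ∈ F := by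
        refine Subgroup.mem_inf.mpr ⟨h.norm k hkH a (Subgroup.mem_inf.mp haF).1, ?_⟩
        exact (cj u H).mul_mem ((cj u H).mul_mem (Subgroup.mem_inf.mp hkD).2
          (Subgroup.mem_inf.mp haF).2) ((cj u H).inv_mem (Subgroup.mem_inf.mp hkD).2)
      have : u * k * a * (u * k)⁻¹ = u * (k * a * k⁻¹) * u⁻¹ := by group
      show u * k * a * (u * k)⁻¹ ∈ cj u F
      rw [this]; exact conj_mem_cj hkaF
  have hFF' : F ⊓ cj u F = ⊥ := by
    rw [eq_bot_iff]
    intro x hx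
    rw [Subgroup.mem_bot]
    exact F_inf_F' h huH (Subgroup.mem_inf.mp hx).1 (Subgroup.mem_inf.mp hx).2
  have hFC : ∀ k : K, F ⊓ (Subgroup.centralizer ({u * (k : G)} : Set G) ⊓ (H ⊓ cj u H)) = ⊥ := by
    rintro ⟨k, hkH, hk⟩
    rw [eq_bot_iff]
    intro x hx
    rw [Subgroup.mem_bot]
    obtain ⟨_, hnot⟩ := mul_inverted_props hu huH hkH hk
    exact F_inf_C h hnot (Subgroup.mem_inf.mp (Subgroup.mem_inf.mp hx).1).1
      (Subgroup.mem_inf.mp (Subgroup.mem_inf.mp hx).2).1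
  have hF'C : ∀ k : K,
      cj u F ⊓ (Subgroup.centralizer ({u * (k : G)} : Set G) ⊓ (H ⊓ cj u H)) = ⊥ := by
    rintro ⟨k, hkH, hk⟩
    rw [eq_bot_iff]
    intro x hx
    rw [Subgroup.mem_bot]
    exact F'_inf_C h huH hkH (Subgroup.mem_inf.mp hx).1
      (Subgroup.mem_inf.mp (Subgroup.mem_inf.mp hx).2).1
  have hCC : ∀ k k' : K, k ≠ k' →
      (Subgroup.centralizer ({u * (k : G)} : Set G) ⊓ (H ⊓ cj u H)) ⊓
        (Subgroup.centralizer ({u * (k' : G)} : Set G) ⊓ (H ⊓ cj u H)) = ⊥ := by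
    rintro ⟨k, hkH, hk⟩ ⟨k', hk'H, hk'⟩ hne
    rw [eq_bot_iff]
    intro x hx
    rw [Subgroup.mem_bot]
    have hne' : k ≠ k' := fun e => hne (Subtype.ext e)
    exact C_inf_C h hu huH hkH hk hk'H hk' hne'
      (Subgroup.mem_inf.mp (Subgroup.mem_inf.mp hx).1).1
      (Subgroup.mem_inf.mp (Subgroup.mem_inf.mp hx).2).1
  have hdisj : ∀ i j, i ≠ j → A i ⊓ A j = ⊥ := by
    rintro (_ | _ | k) (_ | _ | k') hij
    · exact absurd rfl hij
    · exact hFF'
    · exact hFC k'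
    · show cj u F ⊓ F = ⊥
      rw [inf_comm]; exact hFF'
    · exact absurd rfl hij
    · exact hF'C k'
    · show _ ⊓ F = ⊥
      rw [inf_comm]; exact hFC k
    · show _ ⊓ cj u F = ⊥
      rw [inf_comm]; exact hF'C k
    · exact hCC k k' (fun e => hij (by rw [e]))
  have hspread := card_spread' A Y f hcard hsub hdisj
    ⟨1, F.one_mem, 1, (cj u F).one_mem, one_mul 1⟩
  have hι : Fintype.card (Option (Option K)) = numInv H + 2 := by
    rw [Fintype.card_option, Fintype.card_option, hKcard]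
  rw [hι] at hspread
  -- |Y| = f * f
  have hY : Nat.card Y = f * f := by
    have h1 := card_mul_card_eq_card_inf_mul_card_mul F (cj u F)
    rw [hFF', Subgroup.card_bot, one_mul] at h1
    have h2 : Nat.card ↥(cj u F) = f := Subgroup.card_map_of_injective (MulAut.conj u).injective
    rw [h2] at h1
    exact h1.symm
  -- Y ⊆ D
  have hYD : Y ⊆ ((H ⊓ cj u H : Subgroup G) : Set G) := by
    rintro _ ⟨a, ha, b, hb, rfl⟩
    refine (H ⊓ cj u H).mul_mem (hFD a ha) ?_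
    have hb' : u⁻¹ * b * u ∈ F := (mem_cj_iff u b F).mp hb
    have : b = u * (u⁻¹ * b * u) * u⁻¹ := by group
    rw [this]; exact conj_mem_D hu (hFD _ hb')
  have hYle : Nat.card Y ≤ Nat.card ↥(H ⊓ cj u H) := Nat.card_mono (Set.toFinite _) hYD
  rw [hY, card_D_eq h hu huH] at hYle
  have hfm : f ≤ numInv H := Nat.le_of_mul_le_mul_right hYle hfpos
  rw [hY] at hspread
  by_contra hne
  obtain ⟨g, hg⟩ : ∃ g, f = g + 2 := ⟨f - 2, by omega⟩
  rw [hg] at hspread hfm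
  have h3 : (g + 2) * (g + 1) ≤ numInv H * (g + 1) := Nat.mul_le_mul_right (g + 1) hfm
  have h4 : g + 2 - 1 = g + 1 := by omega
  rw [h4] at hspread
  nlinarith

/-- [I-3] `M` meets every other conjugate of `H` trivially. -/
theorem fTriv (h : TIData H M) : FTriv H M := by
  intro g hg x hxM hxg
  obtain ⟨a, _, haH, _, ha, _, _⟩ := h.two
  have hxy : (QuotientGroup.mk 1 : G ⧸ H) ≠ QuotientGroup.mk g := by
    intro he
    have := QuotientGroup.eq.mp he
    simp only [inv_one, one_mul] at this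
    exact hg this
  have hcard := se_card_swapping h.se hxy
  have hpos : 0 < Nat.card {i : G // orderOf i = 2 ∧ i • (QuotientGroup.mk 1 : G ⧸ H) = QuotientGroup.mk g} := by
    rw [hcard]; exact numInv_pos h
  obtain ⟨⟨u, hu, hug⟩⟩ := (Nat.card_pos_iff.mp hpos).1
  rw [MulAction.Quotient.smul_mk, smul_eq_mul, mul_one] at hug
  have hk : u⁻¹ * g ∈ H := QuotientGroup.eq.mp hug
  have huH : u ∉ H := by
    intro hc
    apply hg
    have : g = u * (u⁻¹ * g) := by group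
    rw [this]; exact H.mul_mem hc hk
  have hcj : cj g H = cj u H := by
    have : g = u * (u⁻¹ * g) := by group
    rw [this]; exact cj_mul_right_of_mem hk
  rw [hcj] at hxg
  have h1 := card_F_eq_one h hu huH
  have hbot : M ⊓ cj u H = ⊥ := Subgroup.card_eq_one.mp h1
  have : x ∈ M ⊓ cj u H := Subgroup.mem_inf.mpr ⟨hxM, hxg⟩
  rw [hbot, Subgroup.mem_bot] at this
  exact this

end Finite

end Cfsg.Agent.Lib.Helper32.AbCent
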