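/-
helper32: S2202 final assembly: finite groups in which the centralizer of every involution is
abelian.  All declarations live in `Cfsg.Agent.Lib.Helper32.AbCent`.
-/
import Mathlib
import Cfsg.Prelude.Def_Involutions
import Cfsg.Agent.Lib.Helper32.AbCentDefs
import Cfsg.Agent.Lib.Helper32.AbCentFTriv
import Cfsg.Agent.Lib.Helper21.StronglyEmbedded
import Cfsg.Agent.Lib.Helper47.AbCentI124
import Cfsg.Agent.Lib.Helper47.AbCentI5
import Cfsg.Agent.Lib.Helper47.AbCentI6
import Cfsg.Agent.Lib.Helper47.AbCentI7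
import Cfsg.Agent.Lib.Helper76.AbCentCaseIOf
import Cfsg.Agent.Lib.Helper45.AbCentII4
import Cfsg.Agent.Lib.Helper45.AbCentA4Core
import Cfsg.Agent.Lib.Helper29.AbCentB
import Cfsg.Agent.Lib.Helper29.AbCentA12
import Cfsg.Agent.Lib.Helper33.AbCentA3
import Cfsg.Agent.Lib.Helper6.SuzOrd8
import Cfsg.Agent.S1230

set_option autoImplicit false

namespace Cfsg.Agent.Lib.Helper32.AbCent

open Cfsg Cfsg.Agent.Lib.Helper21
open scoped MatrixGroups

universe u

/-- [I-9] the TI configuration is contradictory when `M` is not elementary abelian. -/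
theorem caseI_false {G : Type*} [Group G] [Finite G] {H M : Subgroup G} (h : TIData H M)
    (hne : ∃ x ∈ M, x ^ 2 ≠ 1) : False := by
  have h3 := fTriv h
  have h4 := Cfsg.Agent.Lib.Helper47.AbCent.dInv h h3
  have h5 := Cfsg.Agent.Lib.Helper47.AbCent.frob h h3 h4
  have h6 := Cfsg.Agent.Lib.Helper47.AbCent.fix2 h h3 h4 h5
  have h7 := Cfsg.Agent.Lib.Helper47.AbCent.card_quot_and_trans h h3 h4 h5 h6
  exact Cfsg.Agent.Lib.Helper76.AbCent.caseI_false_of h hne h3 h4 h6 h7

/-- The conclusion of S2202. -/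
def Concl (G : Type u) [Group G] : Prop :=
  (∀ P : Sylow 2 G, IsCyclic ↥P) ∨ (∀ P : Sylow 2 G, (P : Subgroup G).Normal) ∨
    (∃ (F : Type) (_ : Field F) (_ : Fintype F) (A : Type) (_ : CommGroup A) (_ : Finite A),
      CharP F 2 ∧ Odd (Nat.card A) ∧
        Nonempty (G ≃* Matrix.SpecialLinearGroup (Fin 2) F × A))

theorem invCentAb_subgroup {G : Type*} [Group G] [Finite G] (hG : InvCentAb G) (L : Subgroup G) :
    InvCentAb L := by
  intro t ht
  have ht' : orderOf (t : G) = 2 := by rw [Subgroup.orderOf_coe]; exact ht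
  refine ⟨⟨fun x y => ?_⟩⟩
  apply Subtype.ext
  apply Subtype.ext
  have hx : ((x : L) : G) * (t : G) = (t : G) * ((x : L) : G) := by
    have := Subgroup.mem_centralizer_singleton_iff.mp x.2
    exact congrArg Subtype.val this
  have hy : ((y : L) : G) * (t : G) = (t : G) * ((y : L) : G) := by
    have := Subgroup.mem_centralizer_singleton_iff.mp y.2
    exact congrArg Subtype.val this
  exact Cfsg.Agent.Lib.Helper29.AbCent.comm_of_invCentAb hG ht' hx hy

theorem concl_of_cyclic {G : Type u} [Group G] [Finite G] (T : Sylow 2 G)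
    (hc : IsCyclic (T : Subgroup G)) : Concl G := by
  left
  intro P
  have : Fact (Nat.Prime 2) := ⟨Nat.prime_two⟩
  have e : T ≃* P := Sylow.equiv T P
  haveI : IsCyclic (T : Subgroup G) := hc
  exact isCyclic_of_surjective e e.surjective

theorem concl_of_normal {G : Type u} [Group G] [Finite G] (T : Sylow 2 G)
    (hn : (T : Subgroup G).Normal) : Concl G := by
  right; left
  intro P
  have : Fact (Nat.Prime 2) := ⟨Nat.prime_two⟩
  haveI := Sylow.unique_of_normal T hn
  rw [Subsingleton.elim P T]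
  exact hn

theorem not_isCyclic_sylow {G : Type u} [Group G] [Finite G] (T : Sylow 2 G)
    (hnc : ¬ IsCyclic (T : Subgroup G)) (P : Sylow 2 G) : ¬ IsCyclic (P : Subgroup G) := by
  intro hP
  apply hnc
  have : Fact (Nat.Prime 2) := ⟨Nat.prime_two⟩
  have e : P ≃* T := Sylow.equiv P T
  haveI : IsCyclic (P : Subgroup G) := hP
  exact isCyclic_of_surjective e e.surjective

theorem two_dvd_card_sylow {G : Type u} [Group G] [Finite G] (T : Sylow 2 G)
    (hnc : ¬ IsCyclic (T : Subgroup G)) : 2 ∣ Nat.card (T : Subgroup G) := by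
  have : Fact (Nat.Prime 2) := ⟨Nat.prime_two⟩
  obtain ⟨n, hn⟩ := IsPGroup.iff_card.mp T.isPGroup'
  rcases Nat.eq_zero_or_pos n with h0 | hpos
  · exfalso
    apply hnc
    rw [h0, pow_zero] at hn
    have : Subsingleton (T : Subgroup G) := (Nat.card_eq_one_iff_unique.mp hn).1
    exact isCyclic_of_subsingleton
  · rw [hn]; exact dvd_pow_self 2 (by omega)

open Cfsg.Agent.Lib.Helper29.AbCent Cfsg.Agent.Lib.Helper33.AbCent Cfsg.Agent.Lib.Helper45.AbCent

/-- Case (0): `M` elementary abelian: S1230. -/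
theorem concl_of_elem {G : Type u} [Group G] [Finite G] (hG : InvCentAb G) (T : Sylow 2 G)
    (hnc : ¬ IsCyclic (T : Subgroup G)) (hnn : ¬ (T : Subgroup G).Normal) {M : Subgroup G}
    (hse : IsStronglyEmbedded (Subgroup.normalizer ((T : Subgroup G) : Set G)))
    (hinvH : ∀ t ∈ Subgroup.normalizer ((T : Subgroup G) : Set G), orderOf t = 2 →
        t ∈ (T : Subgroup G) ∧ ∀ g : G, g * t = t * g → g ∈ M)
    (htwo : ∃ a b : G, a ∈ (T : Subgroup G) ∧ b ∈ (T : Subgroup G) ∧ orderOf a = 2 ∧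
      orderOf b = 2 ∧ a ≠ b)
    (hE : ∀ x ∈ M, x ^ 2 = 1) : Concl G := by
  obtain ⟨a, _, haT, _, ha, _, _⟩ := htwo
  have haH : a ∈ Subgroup.normalizer ((T : Subgroup G) : Set G) := Subgroup.le_normalizer haT
  have hC : ∀ t : G, orderOf t = 2 → IsMulCommutative (Subgroup.centralizer ({t} : Set G)) ∧
      ∀ c ∈ Subgroup.centralizer ({t} : Set G), c ^ 2 = 1 := by
    intro t ht
    refine ⟨hG t ht, fun c hc => ?_⟩
    obtain ⟨g, hg⟩ := isConj_iff.mp (se_involutions_isConj hse ha ht)
    have hc' : c * t = t * c := Subgroup.mem_centralizer_singleton_iff.mp hc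
    have hcomm : (g⁻¹ * c * g) * a = a * (g⁻¹ * c * g) := by
      have hta : a = g⁻¹ * t * g := by rw [← hg]; group
      rw [hta]
      calc g⁻¹ * c * g * (g⁻¹ * t * g) = g⁻¹ * (c * t) * g := by group
        _ = g⁻¹ * (t * c) * g := by rw [hc']
        _ = g⁻¹ * t * g * (g⁻¹ * c * g) := by group
    have hM := (hinvH a haH ha).2 _ hcomm
    have h2 := hE _ hM
    have : c ^ 2 = g * (g⁻¹ * c * g) ^ 2 * g⁻¹ := by
      rw [pow_two, pow_two]; group
    rw [this, h2]; group
  obtain ⟨F, fF, ftF, hcard, ⟨e⟩⟩ := Cfsg.Agent.S1230.result T hnc hnn hC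
  have heven : Even (Fintype.card F) := by
    rw [hcard]; exact even_iff_two_dvd.mpr (two_dvd_card_sylow T hnc)
  have hchar : CharP F 2 := by
    obtain ⟨p, hp⟩ := CharP.exists F
    haveI := hp
    obtain ⟨n, hpp, hq⟩ := FiniteField.card F p
    have h2 : 2 ∣ p ^ (n : ℕ) := by rw [← hq]; exact even_iff_two_dvd.mp heven
    have h3 : 2 ∣ p := Nat.Prime.dvd_of_dvd_pow Nat.prime_two h2
    have h4 : 2 = p := (Nat.prime_dvd_prime_iff_eq Nat.prime_two hpp).mp h3
    rw [h4]; exact hp
  refine Or.inr (Or.inr ⟨F, fF, ftF, Unit, inferInstance, inferInstance, hchar, ?_, ⟨?_⟩⟩)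
  · simp
  · exact (e.trans (Cfsg.Agent.Lib.Helper6.SuzOrd.pslEquivSL2 F heven)).trans
      MulEquiv.prodUnique.symm

/-- Case (I): the TI configuration. -/
theorem tiData_of {G : Type u} [Group G] [Finite G] (hG : InvCentAb G) (T : Sylow 2 G)
    (hnn : ¬ (T : Subgroup G).Normal) {M : Subgroup G}
    (hTM : (T : Subgroup G) ≤ M)
    (hMH : M ≤ Subgroup.normalizer ((T : Subgroup G) : Set G))
    (hnorm : ∀ h ∈ Subgroup.normalizer ((T : Subgroup G) : Set G), ∀ x ∈ M, h * x * h⁻¹ ∈ M)
    (hcomm : ∀ x ∈ M, ∀ y ∈ M, x * y = y * x)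
    (hinvH : ∀ t ∈ Subgroup.normalizer ((T : Subgroup G) : Set G), orderOf t = 2 →
        t ∈ (T : Subgroup G) ∧ ∀ g : G, g * t = t * g → g ∈ M)
    (hse : IsStronglyEmbedded (Subgroup.normalizer ((T : Subgroup G) : Set G)))
    (htwo : ∃ a b : G, a ∈ (T : Subgroup G) ∧ b ∈ (T : Subgroup G) ∧ orderOf a = 2 ∧
      orderOf b = 2 ∧ a ≠ b)
    (hK : ∀ K : Subgroup G, K.Normal → K ≠ ⊥ → ¬ Odd (Nat.card K))
    (hL : ∀ L : Subgroup G, L ≠ ⊤ → M ≤ L → L ≤ Subgroup.normalizer ((T : Subgroup G) : Set G)) :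
    TIData (Subgroup.normalizer ((T : Subgroup G) : Set G)) M := by
  have : Fact (Nat.Prime 2) := ⟨Nat.prime_two⟩
  obtain ⟨a, b, haT, hbT, ha, hb, hab⟩ := htwo
  refine ⟨hse, hMH, hnorm, hcomm, fun t ht ht2 g hg => (hinvH t ht ht2).2 g hg, ?_,
    ⟨a, b, Subgroup.le_normalizer haT, Subgroup.le_normalizer hbT, ha, hb, hab⟩⟩
  intro g hg x hxM hgx
  by_contra hx1
  have hy1 : g * x * g⁻¹ ≠ 1 := by
    intro h
    apply hx1
    have : x = g⁻¹ * (g * x * g⁻¹) * g := by group
    rw [this, h]; group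
  have hMC : M ≤ Subgroup.centralizer ({g * x * g⁻¹} : Set G) := by
    intro m hm
    rw [Subgroup.mem_centralizer_singleton_iff]
    exact hcomm m hm _ hgx
  have hCtop : Subgroup.centralizer ({g * x * g⁻¹} : Set G) ≠ ⊤ := by
    intro htop
    have hyc : g * x * g⁻¹ ∈ Subgroup.center G := by
      rw [Subgroup.mem_center_iff]
      intro z
      have hz : z ∈ Subgroup.centralizer ({g * x * g⁻¹} : Set G) := by rw [htop]; trivial
      exact Subgroup.mem_centralizer_singleton_iff.mp hz
    by_cases hodd : Odd (Nat.card (Subgroup.center G))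
    · have hbot : Subgroup.center G = ⊥ := by
        by_contra hne
        exact hK _ inferInstance hne hodd
      rw [hbot, Subgroup.mem_bot] at hyc
      exact hy1 hyc
    · rw [Nat.not_odd_iff_even] at hodd
      obtain ⟨s, hs⟩ := exists_prime_orderOf_dvd_card' (G := Subgroup.center G) 2
        (even_iff_two_dvd.mp hodd)
      have hs2 : orderOf (s : G) = 2 := by rw [Subgroup.orderOf_coe]; exact hs
      have hsc : ∀ z : G, z * (s : G) = (s : G) * z := fun z =>
        (Subgroup.mem_center_iff.mp s.2 z)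
      apply hnn
      refine ⟨fun n hn z => ?_⟩
      have : z * n * z⁻¹ = n := by
        have := comm_of_invCentAb hG hs2 (hsc z) (hsc n)
        rw [this]; group
      rw [this]; exact hn
  have hCH := hL _ hCtop hMC
  have hsC : g * a * g⁻¹ ∈ Subgroup.centralizer ({g * x * g⁻¹} : Set G) := by
    rw [Subgroup.mem_centralizer_singleton_iff]
    have h1 := hcomm a (hTM haT) x hxM
    calc g * a * g⁻¹ * (g * x * g⁻¹) = g * (a * x) * g⁻¹ := by group
      _ = g * (x * a) * g⁻¹ := by rw [h1]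
      _ = g * x * g⁻¹ * (g * a * g⁻¹) := by group
  have hsH := hCH hsC
  have hsc : g * a * g⁻¹ ∈ cj g (Subgroup.normalizer ((T : Subgroup G) : Set G)) :=
    conj_mem_cj (Subgroup.le_normalizer haT)
  have hs2 : orderOf (g * a * g⁻¹) = 2 := orderOf_conj_eq_two ha g
  have hodd := hse.2.2 g hg
  have hdvd : orderOf (⟨g * a * g⁻¹, Subgroup.mem_inf.mpr ⟨hsH, hsc⟩⟩ :
      ↥(Subgroup.normalizer ((T : Subgroup G) : Set G) ⊓
        cj g (Subgroup.normalizer ((T : Subgroup G) : Set G)))) ∣ _ := orderOf_dvd_natCard _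
  rw [Subgroup.orderOf_mk, hs2] at hdvd
  exact (Nat.not_even_iff_odd.mpr hodd) (even_iff_two_dvd.mpr hdvd)

/-- Case A: a nontrivial normal subgroup of odd order. -/
theorem concl_of_quotient {G : Type u} [Group G] [Finite G] (hG : InvCentAb G) (T : Sylow 2 G)
    (hnc : ¬ IsCyclic (T : Subgroup G)) (K : Subgroup G) [K.Normal] (hKodd : Odd (Nat.card K))
    (hq : Concl (G ⧸ K)) : Concl G := by
  rcases hq with h1 | h2 | ⟨F, fF, ftF, A1, cA1, fA1, hchar, hA1, ⟨e⟩⟩
  · exact Or.inl ((sylow_transfer_quotient K hKodd).1 h1)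
  · exact Or.inr (Or.inl ((sylow_transfer_quotient K hKodd).2 h2
      (fun T' => normal_odd_le_centralizer hG T' (not_isCyclic_sylow T hnc T') K hKodd)))
  · let ρ : G →* SL(2, F) :=
      (MonoidHom.fst _ _).comp (e.toMonoidHom.comp (QuotientGroup.mk' K))
    have hρ : Function.Surjective ρ := by
      intro s
      obtain ⟨q, hq⟩ := e.surjective (s, 1)
      obtain ⟨g, rfl⟩ := QuotientGroup.mk'_surjective K q
      refine ⟨g, ?_⟩
      show (e (QuotientGroup.mk' K g)).1 = s
      rw [hq]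
    have hker : Odd (Nat.card ρ.ker) := by
      have h1 : Nat.card G = Nat.card (G ⧸ ρ.ker) * Nat.card ρ.ker :=
        Subgroup.card_eq_card_quotient_mul_card_subgroup _
      have h2 : Nat.card (G ⧸ ρ.ker) = Nat.card SL(2, F) :=
        Nat.card_congr (QuotientGroup.quotientKerEquivOfSurjective ρ hρ).toEquiv
      have h3 : Nat.card G = Nat.card (G ⧸ K) * Nat.card K :=
        Subgroup.card_eq_card_quotient_mul_card_subgroup K
      have h4 : Nat.card (G ⧸ K) = Nat.card SL(2, F) * Nat.card A1 := by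
        rw [Nat.card_congr e.toEquiv, Nat.card_prod]
      have hpos : 0 < Nat.card SL(2, F) := Nat.card_pos
      have h5 : Nat.card SL(2, F) * Nat.card ρ.ker =
          Nat.card SL(2, F) * (Nat.card A1 * Nat.card K) := by
        have h7 : Nat.card SL(2, F) * Nat.card ρ.ker = Nat.card G := by rw [h1, h2]
        rw [h7, h3, h4, Nat.mul_assoc]
      have h6 := Nat.eq_of_mul_eq_mul_left hpos h5
      rw [h6]; exact hA1.mul hKodd
    obtain ⟨A, cA, fA, hAodd, hiso⟩ := split_of_surjective_core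
      (fun T' h' K' _ hK' => normal_odd_le_centralizer hG T' h' K' hK') hG T hnc ρ hρ hker
    exact Or.inr (Or.inr ⟨F, fF, ftF, A, cA, fA, hchar, hAodd, hiso⟩)

/-- **S2202**, by strong induction on the order. -/
theorem main : ∀ (n : ℕ) (G : Type u) [Group G] [Finite G], Nat.card G = n →
    Even (Nat.card G) → InvCentAb G → Concl G := by
  intro n
  induction n using Nat.strong_induction_on with
  | _ n ih =>
  intro G _ _ hn heven hG
  have : Fact (Nat.Prime 2) := ⟨Nat.prime_two⟩
  let T : Sylow 2 G := default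
  by_cases hc : IsCyclic (T : Subgroup G)
  · exact concl_of_cyclic T hc
  by_cases hnn : (T : Subgroup G).Normal
  · exact concl_of_normal T hnn
  by_cases hK : ∃ K : Subgroup G, K.Normal ∧ K ≠ ⊥ ∧ Odd (Nat.card K)
  · obtain ⟨K, hKn, hKne, hKodd⟩ := hK
    haveI := hKn
    have h3 : Nat.card G = Nat.card (G ⧸ K) * Nat.card K :=
      Subgroup.card_eq_card_quotient_mul_card_subgroup K
    have hK1 : 1 < Nat.card K := K.one_lt_card_iff_ne_bot.mpr hKne
    have hqpos : 0 < Nat.card (G ⧸ K) := Nat.card_pos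
    have hlt : Nat.card (G ⧸ K) < n := by rw [← hn, h3]; nlinarith
    have hevq : Even (Nat.card (G ⧸ K)) := by
      rw [h3] at heven
      rcases Nat.even_mul.mp heven with h | h
      · exact h
      · exact absurd h (Nat.not_even_iff_odd.mpr hKodd)
    exact concl_of_quotient hG T hc K hKodd
      (ih _ hlt (G ⧸ K) rfl hevq (invCentAb_quotient hG K hKodd))
  · push Not at hK
    obtain ⟨M, hTM, hMH, hnorm, hcomm, hinvH, hse, htwo⟩ := basic hG T hc hnn
    by_cases hE : ∀ x ∈ M, x ^ 2 = 1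
    · exact concl_of_elem hG T hc hnn hse hinvH htwo hE
    exfalso
    by_cases hL : ∃ L : Subgroup G, L ≠ ⊤ ∧ M ≤ L ∧
        ¬ L ≤ Subgroup.normalizer ((T : Subgroup G) : Set G)
    · obtain ⟨L, hLtop, hML, hLH⟩ := hL
      have hTL : (T : Subgroup G) ≤ L := hTM.trans hML
      have hlt : Nat.card L < n := by
        rw [← hn]
        by_contra hle
        push Not at hle
        exact hLtop (Subgroup.eq_top_of_le_card L hle)
      have hevL : Even (Nat.card L) :=
        even_iff_two_dvd.mpr ((two_dvd_card_sylow T hc).trans (Subgroup.card_dvd_of_le hTL))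
      have hcl := ih _ hlt L rfl hevL (invCentAb_subgroup hG L)
      rcases hcl with h1 | h2 | ⟨F, fF, ftF, A, cA, fA, hchar, hAodd, ⟨φ⟩⟩
      · have hcy := h1 (T.subtype hTL)
        apply hc
        have e : ↥((T.subtype hTL : Sylow 2 L) : Subgroup L) ≃* ↥(T : Subgroup G) := by
          rw [Sylow.coe_subtype]
          exact Subgroup.subgroupOfEquivOfLe hTL
        exact isCyclic_of_surjective e e.surjective
      · have hno := h2 (T.subtype hTL)
        rw [Sylow.coe_subtype] at hno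
        exact hLH ((Subgroup.normal_subgroupOf_iff_le_normalizer hTL).mp hno)
      · exact caseII_false hAodd hse hMH (fun t ht ht2 g hg => (hinvH t ht ht2).2 g hg) hcomm T
          hTM hc L hLtop hML hLH φ
    · push Not at hL
      have hti := tiData_of hG T hnn hTM hMH hnorm hcomm hinvH hse htwo hK hL
      push Not at hE
      exact caseI_false hti hE

end Cfsg.Agent.Lib.Helper32.AbCent
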