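import Mathlib
import Cfsg.Agent.Lib.Helper33.SylIn

/-!
# Control of strong fusion by normalizers, product form (helper32)

`Ctrl P V`: every `g` conjugating a subgroup `A ≤ P` into `P` is `h * c` with `h ∈ N_G(V)`, `c ∈ C_G(A)`.
`RelCtrl H P V`: the same inside the subgroup `H` (the hypothesis form of statement S1954).
Basic calculus: composition, transfer from a subgroup type, a normal `p'`-subgroup can be
discarded, Sylow-type lemmas with `≤ normalizer` hypotheses.
-/

set_option autoImplicit false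

namespace Cfsg.Agent.Lib.Helper32

open Cfsg.Agent.Lib.Helper33

universe u

variable {G : Type u} [Group G]

/-- `H` controls strong fusion in `P` (product form). -/
def CtrlBy (P H : Subgroup G) : Prop :=
  ∀ A : Subgroup G, A ≤ P → ∀ g : G, A.map (MulAut.conj g).toMonoidHom ≤ P →
    ∃ h ∈ H, ∃ c ∈ Subgroup.centralizer (A : Set G), g = h * c

/-- `N_G(V)` controls strong fusion in `P` (product form, as in S1953/S1954). -/
def Ctrl (P V : Subgroup G) : Prop :=
  ∀ A : Subgroup G, A ≤ P → ∀ g : G, A.map (MulAut.conj g).toMonoidHom ≤ P →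
    ∃ h ∈ Subgroup.normalizer (V : Set G), ∃ c ∈ Subgroup.centralizer (A : Set G), g = h * c

/-- `H ∩ N_G(V)` controls strong fusion in `P` with respect to `H` (hypothesis form of S1954). -/
def RelCtrl (H P V : Subgroup G) : Prop :=
  ∀ A : Subgroup G, A ≤ P → ∀ n ∈ H, A.map (MulAut.conj n).toMonoidHom ≤ P →
    ∃ h ∈ H ⊓ Subgroup.normalizer (V : Set G), ∃ c ∈ H ⊓ Subgroup.centralizer (A : Set G),
      n = h * c

theorem ctrl_iff_ctrlBy {P V : Subgroup G} :
    Ctrl P V ↔ CtrlBy P (Subgroup.normalizer (V : Set G)) := Iff.rfl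

theorem cj_eq_of_mem_centralizer {c : G} {A : Subgroup G}
    (hc : c ∈ Subgroup.centralizer (A : Set G)) : cj c A = A :=
  cj_eq_self_of_mem_normalizer (Subgroup.centralizer_le_normalizer _ hc)

/-- composition of controls -/
theorem CtrlBy.trans {P H V : Subgroup G} (h1 : CtrlBy P H) (h2 : RelCtrl H P V) : Ctrl P V := by
  intro A hA g hg
  obtain ⟨h, hh, c, hc, rfl⟩ := h1 A hA g hg
  have hg' : A.map (MulAut.conj h).toMonoidHom ≤ P := by
    have : cj (h * c) A = cj h A := by rw [cj_mul, cj_eq_of_mem_centralizer hc]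
    show cj h A ≤ P
    rw [← this]
    exact hg
  obtain ⟨h', hh', c', hc', rfl⟩ := h2 A hA h hh hg'
  exact ⟨h', hh'.2, c' * c, Subgroup.mul_mem _ hc'.2 hc, by group⟩

theorem Ctrl.mono {P V W : Subgroup G} (h : Ctrl P V)
    (hVW : Subgroup.normalizer (V : Set G) ≤ Subgroup.normalizer (W : Set G)) : Ctrl P W := by
  intro A hA g hg
  obtain ⟨x, hx, c, hc, rfl⟩ := h A hA g hg
  exact ⟨x, hVW hx, c, hc, rfl⟩

/-- If `N_G(V)` controls strong fusion in `P` and `V ≤ P` then `V ⊴ P`. -/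
theorem Ctrl.le_normalizer {P V : Subgroup G} (h : Ctrl P V) (hV : V ≤ P) :
    P ≤ Subgroup.normalizer (V : Set G) := by
  intro x hx
  have hcj : P.map (MulAut.conj x).toMonoidHom ≤ P := by
    have : cj x P = P := cj_eq_self_of_mem hx
    exact this.le
  obtain ⟨y, hy, c, hc, rfl⟩ := h P le_rfl x hcj
  refine Subgroup.mul_mem _ hy (Subgroup.centralizer_le_normalizer _ ?_)
  exact Subgroup.centralizer_le (SetLike.coe_subset_coe.mpr hV) hc

theorem ctrl_of_normal (P V : Subgroup G) [V.Normal] : Ctrl P V := by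
  intro A _ g _
  exact ⟨g, by rw [Subgroup.normalizer_eq_top]; trivial, 1, Subgroup.one_mem _, by group⟩

/-- transfer of control from the group `↥H` to the ambient group -/
theorem relCtrl_of_subtype (H : Subgroup G) (P₁ V₁ : Subgroup ↥H) (h : Ctrl P₁ V₁) :
    RelCtrl H (P₁.map H.subtype) (V₁.map H.subtype) := by
  intro A hA n hn hAn
  have hAH : A ≤ H := hA.trans (Subgroup.map_subtype_le _)
  have hA₁ : A.subgroupOf H ≤ P₁ := by
    intro x hx
    obtain ⟨y, hy, hyx⟩ := hA hx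
    have : y = x := Subtype.ext hyx
    exact this ▸ hy
  have hcj : (A.subgroupOf H).map (MulAut.conj (⟨n, hn⟩ : ↥H)).toMonoidHom ≤ P₁ := by
    rintro _ ⟨a, ha, rfl⟩
    have h1 : n * (a : G) * n⁻¹ ∈ A.map (MulAut.conj n).toMonoidHom := ⟨a, ha, rfl⟩
    obtain ⟨y, hy, hyx⟩ := hAn h1
    have : y = (MulAut.conj (⟨n, hn⟩ : ↥H)).toMonoidHom a := Subtype.ext (by
      have h2 : (y : G) = n * (a : G) * n⁻¹ := hyx
      rw [h2]; simp [MulAut.conj_apply])
    exact this ▸ hy
  obtain ⟨x, hx, c, hc, hxc⟩ := h _ hA₁ ⟨n, hn⟩ hcj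
  have hxN : (x : G) ∈ Subgroup.normalizer ((V₁.map H.subtype : Subgroup G) : Set G) := by
    rw [Subgroup.mem_normalizer_iff] at hx ⊢
    intro y
    constructor
    · rintro ⟨v, hv, rfl⟩
      exact ⟨x * v * x⁻¹, (hx v).mp hv, by simp⟩
    · rintro ⟨w, hw, hwy⟩
      have hwy' : (w : G) = (x : G) * y * (x : G)⁻¹ := hwy
      have hyH : y ∈ H := by
        have : y = (x : G)⁻¹ * (w : G) * (x : G) := by rw [hwy']; group
        rw [this]
        exact H.mul_mem (H.mul_mem (H.inv_mem x.2) w.2) x.2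
      refine ⟨⟨y, hyH⟩, ?_, rfl⟩
      show (⟨y, hyH⟩ : ↥H) ∈ V₁
      rw [hx]
      have : x * ⟨y, hyH⟩ * x⁻¹ = w := Subtype.ext (by simpa using hwy'.symm)
      rw [this]; exact hw
  have hcC : (c : G) ∈ Subgroup.centralizer (A : Set G) := by
    rw [Subgroup.mem_centralizer_iff] at hc ⊢
    intro a ha
    have := hc ⟨a, hAH ha⟩ (by simpa [Subgroup.mem_subgroupOf] using ha)
    simpa using congrArg Subtype.val this
  exact ⟨x, ⟨x.2, hxN⟩, c, ⟨c.2, hcC⟩, by simpa using congrArg Subtype.val hxc⟩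

end Cfsg.Agent.Lib.Helper32
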