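import Mathlib
import Cfsg.Agent.Lib.Helper32.NormCtrlA
import Cfsg.Agent.Lib.Helper33.PPrimeLift

/-!
# Discarding a normal `p'`-subgroup (helper32)

If `M = O * M₁` with `O` a `p'`-subgroup normalized by `M` and `P ≤ M₁` a `p`-group, then `M₁` controls
strong fusion in `P` with respect to `M` (product form).
-/

set_option autoImplicit false

namespace Cfsg.Agent.Lib.Helper32

open Cfsg.Agent.Lib.Helper33

universe u

variable {G : Type u} [Group G] {p : ℕ}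

theorem exists_mul_of_mem_sup_of_le_normalizer {Q K : Subgroup G}
    (hQK : Q ≤ Subgroup.normalizer (K : Set G)) {x : G} (hx : x ∈ Q ⊔ K) :
    ∃ q ∈ Q, ∃ k ∈ K, x = q * k := by
  have h1 : x ∈ ((Q ⊔ K : Subgroup G) : Set G) := hx
  rw [Subgroup.coe_mul_of_left_le_normalizer_right Q K hQK] at h1
  obtain ⟨q, hq, k, hk, rfl⟩ := h1
  exact ⟨q, hq, k, hk, rfl⟩

/-- a `p`-group `Q` normalizing a `p'`-group `K` is a Sylow `p`-subgroup of `Q K` -/
theorem sylIn_sup_of_le_normalizer [Fact p.Prime] [Finite G] {Q K : Subgroup G} (hQ : IsPGroup p Q)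
    (hQK : Q ≤ Subgroup.normalizer (K : Set G)) (hK : (Nat.card K).Coprime p) :
    SylIn p Q (Q ⊔ K) := by
  refine ⟨le_sup_left, hQ, ?_⟩
  obtain ⟨k, hk⟩ := hQ.exists_card_eq
  have hcop : (Nat.card Q).Coprime (Nat.card K) := by
    rw [hk]; exact (hK.pow_right k).symm
  have hle : Nat.card ↥(Q ⊔ K) ≤ Nat.card Q * Nat.card K := by
    have h1 : Nat.card ↥(Q ⊔ K) = Nat.card (((Q ⊔ K : Subgroup G) : Set G)) := rfl
    rw [h1, Subgroup.coe_mul_of_left_le_normalizer_right Q K hQK]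
    exact Set.natCard_mul_le
  have hdvd : Nat.card Q * Nat.card K ∣ Nat.card ↥(Q ⊔ K) :=
    hcop.mul_dvd_of_dvd_of_dvd (Subgroup.card_dvd_of_le le_sup_left)
      (Subgroup.card_dvd_of_le le_sup_right)
  have heq : Nat.card ↥(Q ⊔ K) = Nat.card Q * Nat.card K :=
    le_antisymm hle (Nat.le_of_dvd Nat.card_pos hdvd)
  have h2 := Subgroup.relIndex_mul_relIndex (⊥ : Subgroup G) Q (Q ⊔ K) bot_le le_sup_left
  rw [Subgroup.relIndex_bot_left, Subgroup.relIndex_bot_left, heq] at h2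
  have h3 : Q.relIndex (Q ⊔ K) = Nat.card K :=
    Nat.eq_of_mul_eq_mul_left Nat.card_pos h2
  rw [h3]
  intro hdiv
  have hp : p.Prime := Fact.out
  exact hp.one_lt.ne' (Nat.Coprime.eq_one_of_dvd hK.symm hdiv)

theorem normalizer_inf_le (A B : Subgroup G) :
    Subgroup.normalizer (A : Set G) ⊓ Subgroup.normalizer (B : Set G) ≤
      Subgroup.normalizer ((A ⊓ B : Subgroup G) : Set G) := by
  intro x hx
  have hA : x ∈ Subgroup.normalizer (A : Set G) := hx.1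
  have hB : x ∈ Subgroup.normalizer (B : Set G) := hx.2
  rw [Subgroup.mem_normalizer_iff] at hA hB ⊢
  intro y
  rw [Subgroup.mem_inf, Subgroup.mem_inf, hA y, hB y]

theorem cj_eq_of_cj_le [Finite G] {g : G} {P : Subgroup G} (h : cj g P ≤ P) : cj g P = P :=
  Subgroup.eq_of_le_of_card_ge h (by rw [card_cj])

/-- discarding a normal `p'`-subgroup -/
theorem exists_mul_centralizer_of_pprime [Fact p.Prime] [Finite G] {P M M₁ O : Subgroup G}
    (hP : IsPGroup p P) (hPM₁ : P ≤ M₁) (hM₁M : M₁ ≤ M) (hOM : O ≤ M)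
    (hMO : M ≤ Subgroup.normalizer (O : Set G)) (hO : (Nat.card O).Coprime p)
    (hprod : ∀ m ∈ M, ∃ o ∈ O, ∃ n ∈ M₁, m = o * n) :
    ∀ B : Subgroup G, B ≤ P → ∀ h ∈ M, B.map (MulAut.conj h).toMonoidHom ≤ P →
      ∃ n ∈ M₁, ∃ c ∈ M ⊓ Subgroup.centralizer (B : Set G), h = n * c := by
  intro B hB h hh hBh
  obtain ⟨o, ho, n, hn, rfl⟩ := hprod h hh
  set B' := cj n B with hB'
  have hB'M₁ : B' ≤ M₁ := cj_le_of_mem (hB.trans hPM₁) hn
  have hB'p : IsPGroup p B' := isPGroup_cj (hP.to_le hB)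
  have hoB' : cj o B' ≤ M₁ := by
    have : cj o B' = cj (o * n) B := by rw [cj_mul]
    rw [this]; exact hBh.trans hPM₁
  set K := M₁ ⊓ O with hKdef
  have hB'K : B' ≤ Subgroup.normalizer (K : Set G) := by
    intro b hb
    apply normalizer_inf_le
    exact ⟨Subgroup.le_normalizer (hB'M₁ hb), hMO (hM₁M (hB'M₁ hb))⟩
  have hKcop : (Nat.card K).Coprime p :=
    Nat.Coprime.coprime_dvd_left (Subgroup.card_dvd_of_le inf_le_right) hO
  have hle : cj o B' ≤ B' ⊔ K := by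
    intro x hx
    have hx' := mem_cj.mp hx
    set b := o⁻¹ * x * o with hb
    have hbM : b ∈ M₁ := hB'M₁ hx'
    have hxM : x ∈ M₁ := hoB' hx
    have hx2 : x = b * (b⁻¹ * x) := by group
    rw [hx2]
    refine Subgroup.mul_mem _ (Subgroup.mem_sup_left hx') (Subgroup.mem_sup_right ⟨?_, ?_⟩)
    · exact M₁.mul_mem (M₁.inv_mem hbM) hxM
    · have hbN : b⁻¹ ∈ Subgroup.normalizer (O : Set G) := inv_mem (hMO (hM₁M hbM))
      have h1 : b⁻¹ * o * b⁻¹⁻¹ ∈ O := (Subgroup.mem_normalizer_iff.mp hbN o).mp ho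
      have h2 : b⁻¹ * x = (b⁻¹ * o * b⁻¹⁻¹) * o⁻¹ := by rw [hb]; group
      rw [h2]
      exact O.mul_mem h1 (O.inv_mem ho)
  have hsyl : SylIn p B' (B' ⊔ K) := sylIn_sup_of_le_normalizer hB'p hB'K hKcop
  obtain ⟨l, hl, hlB⟩ := hsyl.exists_cj_le hle (isPGroup_cj hB'p)
  obtain ⟨b, hb, k, hk, rfl⟩ := exists_mul_of_mem_sup_of_le_normalizer hB'K hl
  have h1 : cj (k * o) B' ≤ B' := by
    have : cj (b * k) (cj o B') = cj b (cj (k * o) B') := by rw [cj_mul, cj_mul]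
    rw [this, cj_le_iff, cj_eq_self_of_mem (B'.inv_mem hb)] at hlB
    exact hlB
  have h2 : cj (k * o) B' = B' := cj_eq_of_cj_le h1
  have hkoO : k * o ∈ O := O.mul_mem hk.2 ho
  have hinf : B' ⊓ O = ⊥ := pGroup_inf_pPrime_eq_bot hB'p hO
  have hcent : k * o ∈ Subgroup.centralizer (B' : Set G) := by
    rw [Subgroup.mem_centralizer_iff]
    intro y hy
    have hy1 : (k * o) * y * (k * o)⁻¹ ∈ B' := by
      rw [← h2]; exact conj_mem_cj hy
    have hyN : y ∈ Subgroup.normalizer (O : Set G) := hMO (hM₁M (hB'M₁ hy))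
    have hy2 : y * (k * o)⁻¹ * y⁻¹ ∈ O :=
      (Subgroup.mem_normalizer_iff.mp hyN _).mp (O.inv_mem hkoO)
    have hy3 : (k * o) * y * (k * o)⁻¹ * y⁻¹ ∈ B' ⊓ O := by
      refine ⟨B'.mul_mem hy1 (B'.inv_mem hy), ?_⟩
      have : (k * o) * y * (k * o)⁻¹ * y⁻¹ = (k * o) * (y * (k * o)⁻¹ * y⁻¹) := by group
      rw [this]
      exact O.mul_mem hkoO hy2
    rw [hinf, Subgroup.mem_bot] at hy3
    have : y * (k * o) = ((k * o) * y * (k * o)⁻¹ * y⁻¹)⁻¹ * ((k * o) * y) := by group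
    rw [this, hy3, inv_one, one_mul]
  have hcentB : n⁻¹ * (k * o) * n ∈ Subgroup.centralizer (B : Set G) := by
    have h3 : k * o ∈ cj n (Subgroup.centralizer (B : Set G)) := by
      rw [cj_centralizer]; exact hcent
    exact mem_cj.mp h3
  refine ⟨k⁻¹ * n, M₁.mul_mem (M₁.inv_mem hk.1) hn, n⁻¹ * (k * o) * n, ⟨?_, hcentB⟩, by group⟩
  have hnM : n ∈ M := hM₁M hn
  exact M.mul_mem (M.mul_mem (M.inv_mem hnM) (hOM hkoO)) hnM

end Cfsg.Agent.Lib.Helper32
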