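import Mathlib
import Cfsg.Agent.Lib.Helper32.NormCtrlA

/-!
# Lifting control of strong fusion through a central `p`-quotient (helper32)

If `Z ≤ Z(G)` is a `p`-subgroup of the Sylow `p`-subgroup `P`, `Z ≤ R ≤ P`, and `N(R/Z)` controls strong
fusion in `P/Z` with respect to `G/Z`, then `N_G(R)` controls strong fusion in `P` with respect to `G`.
-/

set_option autoImplicit false

namespace Cfsg.Agent.Lib.Helper32

open Cfsg.Agent.Lib.Helper33

universe u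

variable {p : ℕ}

/-- A normal subgroup `D` whose image modulo the normal subgroup `C` is a `p`-group lies in `S C` for every
Sylow `p`-subgroup `S`. -/
theorem exists_sylow_mul_of_normal_pquot {Y : Type*} [Group Y] [Finite Y] [Fact p.Prime]
    (C D : Subgroup Y) [hC : C.Normal] [hD : D.Normal]
    (hpow : ∀ d ∈ D, ∃ k : ℕ, d ^ (p ^ k) ∈ C) (S : Sylow p Y) :
    ∀ d ∈ D, ∃ s ∈ S, ∃ c ∈ C, d = s * c := by
  intro d hd
  have hf : Function.Surjective (QuotientGroup.mk' C) := QuotientGroup.mk'_surjective C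
  have hDn : (D.map (QuotientGroup.mk' C)).Normal := Subgroup.Normal.map hD _ hf
  have hDp : IsPGroup p (D.map (QuotientGroup.mk' C)) := by
    rintro ⟨x, y, hy, rfl⟩
    obtain ⟨k, hk⟩ := hpow y hy
    refine ⟨k, Subtype.ext ?_⟩
    show (QuotientGroup.mk' C y) ^ (p ^ k) = 1
    rw [← map_pow]
    exact (QuotientGroup.eq_one_iff _).mpr hk
  have hle := hDp.le_sylow_of_normal (S.mapSurjective hf)
  have h1 : QuotientGroup.mk' C d ∈ (S.mapSurjective hf : Subgroup (Y ⧸ C)) :=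
    hle ⟨d, hd, rfl⟩
  rw [Sylow.coe_mapSurjective] at h1
  obtain ⟨s, hs, hsd⟩ := h1
  refine ⟨s, hs, s⁻¹ * d, ?_, by group⟩
  have : QuotientGroup.mk' C (s⁻¹ * d) = 1 := by rw [map_mul, map_inv, hsd, inv_mul_cancel]
  exact (QuotientGroup.eq_one_iff _).mp this

variable {G : Type u} [Group G]

section lift

variable (Z : Subgroup G) [hZn : Z.Normal]

theorem map_cj_mk (g : G) (A : Subgroup G) :
    (cj g A).map (QuotientGroup.mk' Z) = cj (QuotientGroup.mk' Z g) (A.map (QuotientGroup.mk' Z)) := by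
  ext x
  constructor
  · rintro ⟨y, ⟨a, ha, rfl⟩, rfl⟩
    refine ⟨QuotientGroup.mk' Z a, ⟨a, ha, rfl⟩, ?_⟩
    simp [MulAut.conj_apply]
  · rintro ⟨y, ⟨a, ha, rfl⟩, rfl⟩
    refine ⟨g * a * g⁻¹, ⟨a, ha, rfl⟩, ?_⟩
    simp [MulAut.conj_apply]

theorem le_cj_of_normal (g : G) {A : Subgroup G} (hZA : Z ≤ A) : Z ≤ cj g A := by
  intro z hz
  rw [mem_cj]
  exact hZA (by
    have := hZn.conj_mem z hz g⁻¹
    simpa using this)

theorem eq_of_map_mk_eq {A B : Subgroup G} (hZA : Z ≤ A) (hZB : Z ≤ B)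
    (h : A.map (QuotientGroup.mk' Z) = B.map (QuotientGroup.mk' Z)) : A = B := by
  have h1 := congrArg (Subgroup.comap (QuotientGroup.mk' Z)) h
  rw [Subgroup.comap_map_eq, Subgroup.comap_map_eq, QuotientGroup.ker_mk'] at h1
  rwa [sup_eq_left.mpr hZA, sup_eq_left.mpr hZB] at h1

theorem le_of_map_mk_le {A B : Subgroup G} (hZB : Z ≤ B)
    (h : A.map (QuotientGroup.mk' Z) ≤ B.map (QuotientGroup.mk' Z)) : A ≤ B := by
  intro a ha
  obtain ⟨b, hb, hba⟩ := h ⟨a, ha, rfl⟩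
  have : b⁻¹ * a ∈ Z := by
    have h1 : QuotientGroup.mk' Z (b⁻¹ * a) = 1 := by rw [map_mul, map_inv, hba, inv_mul_cancel]
    exact (QuotientGroup.eq_one_iff _).mp h1
  have h2 : a = b * (b⁻¹ * a) := by group
  rw [h2]
  exact B.mul_mem hb (hZB this)

theorem mem_normalizer_of_mk {R : Subgroup G} (hZR : Z ≤ R) {x : G}
    (hx : QuotientGroup.mk' Z x ∈
      Subgroup.normalizer ((R.map (QuotientGroup.mk' Z) : Subgroup (G ⧸ Z)) : Set (G ⧸ Z))) :
    x ∈ Subgroup.normalizer (R : Set G) := by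
  rw [mem_normalizer_iff_cj_eq] at hx ⊢
  rw [← map_cj_mk] at hx
  exact eq_of_map_mk_eq Z (le_cj_of_normal Z x hZR) hZR hx

/-- the elements acting trivially on `A / Z` -/
def stabMod (A : Subgroup G) : Subgroup G :=
  (Subgroup.centralizer ((A.map (QuotientGroup.mk' Z) : Subgroup (G ⧸ Z)) : Set (G ⧸ Z))).comap
    (QuotientGroup.mk' Z)

theorem mem_stabMod_iff {A : Subgroup G} {d : G} :
    d ∈ stabMod Z A ↔ ∀ a ∈ A, d * a * d⁻¹ * a⁻¹ ∈ Z := by
  unfold stabMod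
  rw [Subgroup.mem_comap, Subgroup.mem_centralizer_iff]
  constructor
  · intro h a ha
    have h1 := h (QuotientGroup.mk' Z a) ⟨a, ha, rfl⟩
    apply (QuotientGroup.eq_one_iff _).mp
    show QuotientGroup.mk' Z (d * a * d⁻¹ * a⁻¹) = 1
    rw [map_mul, map_mul, map_mul, map_inv, map_inv, ← h1]
    group
  · rintro h _ ⟨a, ha, rfl⟩
    have h1 : QuotientGroup.mk' Z (d * a * d⁻¹ * a⁻¹) = 1 := (QuotientGroup.eq_one_iff _).mpr (h a ha)
    rw [map_mul, map_mul, map_mul, map_inv, map_inv] at h1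
    have h2 : QuotientGroup.mk' Z d * QuotientGroup.mk' Z a =
        (QuotientGroup.mk' Z d * QuotientGroup.mk' Z a * (QuotientGroup.mk' Z d)⁻¹ *
          (QuotientGroup.mk' Z a)⁻¹) * (QuotientGroup.mk' Z a * QuotientGroup.mk' Z d) := by group
    rw [h2, h1, one_mul]

theorem centralizer_le_stabMod (A : Subgroup G) : Subgroup.centralizer (A : Set G) ≤ stabMod Z A := by
  intro c hc
  rw [mem_stabMod_iff]
  intro a ha
  have := (Subgroup.mem_centralizer_iff.mp hc) a ha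
  have h1 : c * a * c⁻¹ * a⁻¹ = 1 := by rw [← this]; group
  rw [h1]; exact Z.one_mem

theorem stabMod_le_normalizer {A : Subgroup G} (hZA : Z ≤ A) :
    stabMod Z A ≤ Subgroup.normalizer (A : Set G) := by
  intro d hd
  rw [mem_normalizer_iff_cj_eq]
  have key : ∀ e ∈ stabMod Z A, cj e A ≤ A := by
    intro e he x hx
    have hx' := mem_cj.mp hx
    have h1 := (mem_stabMod_iff Z).mp he _ hx'
    have h2 : x = (e * (e⁻¹ * x * e) * e⁻¹ * (e⁻¹ * x * e)⁻¹) * (e⁻¹ * x * e) := by group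
    rw [h2]
    exact A.mul_mem (hZA h1) hx'
  apply le_antisymm (key d hd)
  have := key d⁻¹ (inv_mem hd)
  rwa [cj_le_iff, inv_inv] at this

theorem cj_stabMod (g : G) (A : Subgroup G) : cj g (stabMod Z A) = stabMod Z (cj g A) := by
  ext x
  rw [mem_cj, mem_stabMod_iff, mem_stabMod_iff]
  constructor
  · intro h a ha
    have h1 := h _ (mem_cj.mp ha)
    have h2 := hZn.conj_mem _ h1 g
    have h3 : g * (g⁻¹ * x * g * (g⁻¹ * a * g) * (g⁻¹ * x * g)⁻¹ * (g⁻¹ * a * g)⁻¹) * g⁻¹ =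
        x * a * x⁻¹ * a⁻¹ := by group
    rwa [h3] at h2
  · intro h a ha
    have h1 := h _ (conj_mem_cj (g := g) ha)
    have h2 := hZn.conj_mem _ h1 g⁻¹
    have h3 : g⁻¹ * (x * (g * a * g⁻¹) * x⁻¹ * (g * a * g⁻¹)⁻¹) * g⁻¹⁻¹ =
        g⁻¹ * x * g * a * (g⁻¹ * x * g)⁻¹ * a⁻¹ := by group
    rwa [h3] at h2

variable {Z}

theorem pow_mem_centralizer_of_mem_stabMod (hZc : Z ≤ Subgroup.center G) {A : Subgroup G} {d : G}
    (hd : d ∈ stabMod Z A) : ∀ k : ℕ, ∀ a ∈ A, d ^ k * a * (d ^ k)⁻¹ * a⁻¹ = (d * a * d⁻¹ * a⁻¹) ^ k := by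
  intro k
  induction k with
  | zero => intro a _; simp
  | succ k ih =>
    intro a ha
    have hz : d * a * d⁻¹ * a⁻¹ ∈ Subgroup.center G := hZc ((mem_stabMod_iff Z).mp hd a ha)
    have hzk : (d * a * d⁻¹ * a⁻¹) ^ k ∈ Subgroup.center G := Subgroup.pow_mem _ hz k
    have h1 := ih a ha
    rw [pow_succ' d, pow_succ (d * a * d⁻¹ * a⁻¹)]
    have h2 : d * d ^ k * a * (d * d ^ k)⁻¹ * a⁻¹ =
        d * ((d ^ k * a * (d ^ k)⁻¹ * a⁻¹) * a) * d⁻¹ * a⁻¹ := by group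
    rw [h2, h1]
    have h3 := (Subgroup.mem_center_iff.mp hzk) (d * a * d⁻¹ * a⁻¹)
    have h4 := (Subgroup.mem_center_iff.mp hzk) d
    calc d * ((d * a * d⁻¹ * a⁻¹) ^ k * a) * d⁻¹ * a⁻¹
        = (d * (d * a * d⁻¹ * a⁻¹) ^ k) * (a * d⁻¹ * a⁻¹) := by group
      _ = ((d * a * d⁻¹ * a⁻¹) ^ k * d) * (a * d⁻¹ * a⁻¹) := by rw [h4]
      _ = (d * a * d⁻¹ * a⁻¹) ^ k * (d * a * d⁻¹ * a⁻¹) := by group

theorem exists_pow_mem_centralizer [Finite G] [Fact p.Prime] (hZc : Z ≤ Subgroup.center G)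
    (hZp : IsPGroup p Z) {A : Subgroup G} {d : G} (hd : d ∈ stabMod Z A) :
    ∃ k : ℕ, d ^ (p ^ k) ∈ Subgroup.centralizer (A : Set G) := by
  obtain ⟨k, hk⟩ := hZp.exists_card_eq
  refine ⟨k, ?_⟩
  rw [Subgroup.mem_centralizer_iff]
  intro a ha
  have h1 := pow_mem_centralizer_of_mem_stabMod hZc hd (p ^ k) a ha
  have hz : d * a * d⁻¹ * a⁻¹ ∈ Z := (mem_stabMod_iff Z).mp hd a ha
  have h2 : (d * a * d⁻¹ * a⁻¹) ^ (p ^ k) = 1 := by
    have := pow_card_eq_one' (G := Z) (x := ⟨_, hz⟩)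
    rw [hk] at this
    simpa using congrArg Subtype.val this
  rw [h2] at h1
  have h3 : d ^ p ^ k * a = (d ^ p ^ k * a * (d ^ p ^ k)⁻¹ * a⁻¹) * (a * d ^ p ^ k) := by group
  rw [h3, h1, one_mul]

end lift

end Cfsg.Agent.Lib.Helper32
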