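import Mathlib
import Cfsg.Agent.Lib.Helper32.NormCtrlC

/-!
# Lifting control of strong fusion through a central `p`-quotient, main theorem (helper32)
-/

set_option autoImplicit false

namespace Cfsg.Agent.Lib.Helper32

open Cfsg.Agent.Lib.Helper33

universe u

variable {p : ℕ} {G : Type u} [Group G]

theorem normalizer_le_normalizer_centralizer (A : Subgroup G) :
    Subgroup.normalizer (A : Set G) ≤
      Subgroup.normalizer ((Subgroup.centralizer (A : Set G) : Subgroup G) : Set G) := by
  intro g hg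
  rw [mem_normalizer_iff_cj_eq, cj_centralizer, cj_eq_self_of_mem_normalizer hg]

theorem normalizer_le_normalizer_stabMod (Z : Subgroup G) [Z.Normal] (A : Subgroup G) :
    Subgroup.normalizer (A : Set G) ≤ Subgroup.normalizer ((stabMod Z A : Subgroup G) : Set G) := by
  intro g hg
  rw [mem_normalizer_iff_cj_eq, cj_stabMod, cj_eq_self_of_mem_normalizer hg]

/-- for a fully normalized `A ⊇ Z`, the stabilizer of `A ≥ Z ≥ 1` lies in `N_P(A) C_G(A)` -/
theorem stabMod_le_mul_of_fullyNormalized [Fact p.Prime] [Finite G] (P : Sylow p G)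
    (Z : Subgroup G) [hZn : Z.Normal] (hZc : Z ≤ Subgroup.center G) (hZp : IsPGroup p Z)
    {A : Subgroup G} (hZA : Z ≤ A) (hfn : FullyNormalized p (P : Subgroup G) A) :
    ∀ d ∈ stabMod Z A, ∃ s ∈ (P : Subgroup G) ⊓ Subgroup.normalizer (A : Set G),
      ∃ c ∈ Subgroup.centralizer (A : Set G), d = s * c := by
  intro d hd
  set NA := Subgroup.normalizer (A : Set G) with hNA
  have hdNA : d ∈ NA := stabMod_le_normalizer Z hZA hd
  haveI hCn : ((Subgroup.centralizer (A : Set G)).subgroupOf NA).Normal :=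
    Subgroup.normal_subgroupOf_of_le_normalizer (normalizer_le_normalizer_centralizer A)
  haveI hDn : ((stabMod Z A).subgroupOf NA).Normal :=
    Subgroup.normal_subgroupOf_of_le_normalizer (normalizer_le_normalizer_stabMod Z A)
  have hpow : ∀ e ∈ (stabMod Z A).subgroupOf NA, ∃ k : ℕ,
      e ^ (p ^ k) ∈ (Subgroup.centralizer (A : Set G)).subgroupOf NA := by
    intro e he
    obtain ⟨k, hk⟩ := exists_pow_mem_centralizer hZc hZp (Subgroup.mem_subgroupOf.mp he)
    refine ⟨k, ?_⟩
    rw [Subgroup.mem_subgroupOf]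
    simpa using hk
  obtain ⟨s, hs, c, hc, hsc⟩ := exists_sylow_mul_of_normal_pquot
    ((Subgroup.centralizer (A : Set G)).subgroupOf NA) ((stabMod Z A).subgroupOf NA) hpow
    hfn.sylIn.toSylow ⟨d, hdNA⟩ (by rw [Subgroup.mem_subgroupOf]; exact hd)
  have hs' : (s : G) ∈ (P : Subgroup G) ⊓ Subgroup.normalizer (A : Set G) := by
    have : s ∈ (hfn.sylIn.toSylow : Subgroup ↥NA) := hs
    rw [SylIn.coe_toSylow, Subgroup.mem_subgroupOf] at this
    exact this
  refine ⟨s, hs', c, Subgroup.mem_subgroupOf.mp hc, ?_⟩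
  simpa using congrArg Subtype.val hsc

/-- `P` itself is fully normalized -/
theorem fullyNormalized_self [Fact p.Prime] [Finite G] (P : Sylow p G) :
    FullyNormalized p (P : Subgroup G) (P : Subgroup G) := by
  unfold FullyNormalized
  rw [inf_eq_left.mpr Subgroup.le_normalizer]
  intro h
  exact P.not_dvd_index (h.trans (Subgroup.relIndex_dvd_index_of_le Subgroup.le_normalizer))

/-- Lifting control of strong fusion through the quotient by a central `p`-subgroup. -/
theorem ctrl_of_quotient_central [Fact p.Prime] [Finite G] (P : Sylow p G)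
    (Z : Subgroup G) [hZn : Z.Normal] (hZc : Z ≤ Subgroup.center G) {R : Subgroup G}
    (hZR : Z ≤ R) (hRP : R ≤ (P : Subgroup G))
    (h : Ctrl ((P : Subgroup G).map (QuotientGroup.mk' Z)) (R.map (QuotientGroup.mk' Z))) :
    Ctrl (P : Subgroup G) R := by
  have hZP : Z ≤ (P : Subgroup G) := hZR.trans hRP
  have hZp : IsPGroup p Z := P.isPGroup'.to_le hZP
  -- `R ⊴ P`
  have hPR : (P : Subgroup G) ≤ Subgroup.normalizer (R : Set G) := by
    intro x hx
    apply mem_normalizer_of_mk Z hZR
    exact h.le_normalizer (Subgroup.map_mono hRP) ⟨x, hx, rfl⟩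
  -- from the claim on `stabMod` to control
  have S_of_claim : ∀ A : Subgroup G, A ≤ (P : Subgroup G) →
      (∀ d ∈ stabMod Z A, ∃ x ∈ Subgroup.normalizer (R : Set G),
        ∃ c ∈ Subgroup.centralizer (A : Set G), d = x * c) →
      ∀ g : G, cj g A ≤ (P : Subgroup G) → ∃ x ∈ Subgroup.normalizer (R : Set G),
        ∃ c ∈ Subgroup.centralizer (A : Set G), g = x * c := by
    intro A hA hclaim g hg
    have h1 : (A.map (QuotientGroup.mk' Z)).map (MulAut.conj (QuotientGroup.mk' Z g)).toMonoidHom ≤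
        (P : Subgroup G).map (QuotientGroup.mk' Z) := by
      have := map_cj_mk Z g A
      unfold cj at this
      rw [← this]
      exact Subgroup.map_mono hg
    obtain ⟨xb, hxb, cb, hcb, hgb⟩ := h _ (Subgroup.map_mono hA) _ h1
    obtain ⟨x₀, rfl⟩ := QuotientGroup.mk'_surjective Z xb
    have hx₀ : x₀ ∈ Subgroup.normalizer (R : Set G) := mem_normalizer_of_mk Z hZR hxb
    have hd : x₀⁻¹ * g ∈ stabMod Z A := by
      unfold stabMod
      rw [Subgroup.mem_comap, map_mul, map_inv, hgb]
      simpa using hcb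
    obtain ⟨x₁, hx₁, c, hc, hdc⟩ := hclaim _ hd
    refine ⟨x₀ * x₁, Subgroup.mul_mem _ hx₀ hx₁, c, hc, ?_⟩
    rw [mul_assoc, ← hdc]; group
  -- the claim for fully normalized subgroups
  have claim_fn : ∀ A : Subgroup G, Z ≤ A → FullyNormalized p (P : Subgroup G) A →
      ∀ d ∈ stabMod Z A, ∃ s ∈ (P : Subgroup G) ⊓ Subgroup.normalizer (A : Set G),
        ∃ c ∈ Subgroup.centralizer (A : Set G), d = s * c :=
    fun A hZA hfn => stabMod_le_mul_of_fullyNormalized P Z hZc hZp hZA hfn
  -- the claim in general, by induction on the index of `A` in `P`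
  have claim : ∀ m : ℕ, ∀ A : Subgroup G, Z ≤ A → A ≤ (P : Subgroup G) →
      Nat.card (P : Subgroup G) - Nat.card A = m →
      ∀ d ∈ stabMod Z A, ∃ x ∈ Subgroup.normalizer (R : Set G),
        ∃ c ∈ Subgroup.centralizer (A : Set G), d = x * c := by
    intro m
    induction m using Nat.strong_induction_on with
    | _ m IH =>
    intro A hZA hAP hm d hd
    by_cases hAeq : A = (P : Subgroup G)
    · subst hAeq
      obtain ⟨s, hs, c, hc, rfl⟩ := claim_fn _ hZA (fullyNormalized_self P) d hd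
      exact ⟨s, hPR hs.1, c, hc, rfl⟩
    · set B := (P : Subgroup G) ⊓ Subgroup.normalizer (A : Set G) with hB
      have hAB : A ≤ B := le_inf hAP Subgroup.le_normalizer
      have hBP : B ≤ (P : Subgroup G) := inf_le_left
      have hlt : Nat.card A < Nat.card B := card_lt_card_normalizer_inf P hAP hAeq
      have hBle : Nat.card B ≤ Nat.card (P : Subgroup G) := Subgroup.card_le_of_le hBP
      have hSB := S_of_claim B hBP (IH (Nat.card (P : Subgroup G) - Nat.card B) (by omega) B
        (hZA.trans hAB) hBP rfl)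
      obtain ⟨g₀, hg₀P, hg₀fn⟩ := exists_fullyNormalized_cj P hAP
      obtain ⟨k, hkA, hkB⟩ := exists_cj_normalizer_le P hg₀fn g₀ rfl
      set A₁ := cj g₀ A with hA₁
      have hkBP : cj k B ≤ (P : Subgroup G) := hkB.trans inf_le_left
      obtain ⟨xk, hxk, ck, hck, hkx⟩ := hSB k hkBP
      have hckA : ck ∈ Subgroup.centralizer (A : Set G) :=
        Subgroup.centralizer_le (SetLike.coe_subset_coe.mpr hAB) hck
      -- conjugate `d` into the stabilizer of `A₁`
      have hd₁ : k * d * k⁻¹ ∈ stabMod Z A₁ := by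
        rw [← hkA, ← cj_stabMod]
        exact conj_mem_cj hd
      have hZA₁ : Z ≤ A₁ := le_cj_of_normal Z g₀ hZA
      obtain ⟨s, hs, c₁, hc₁, hsc⟩ := claim_fn A₁ hZA₁ hg₀fn _ hd₁
      -- `xk` maps `A` onto `A₁`
      have hxkA : cj xk A = A₁ := by
        have : xk = k * ck⁻¹ := by rw [hkx]; group
        rw [this, cj_mul, cj_eq_of_mem_centralizer (inv_mem hckA), hkA]
      set x₂ := xk⁻¹ * s * xk with hx₂
      have hx₂R : x₂ ∈ Subgroup.normalizer (R : Set G) :=
        Subgroup.mul_mem _ (Subgroup.mul_mem _ (inv_mem hxk) (hPR hs.1)) hxk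
      have hx₂A : x₂ ∈ Subgroup.normalizer (A : Set G) := by
        rw [mem_normalizer_iff_cj_eq, hx₂, cj_mul, cj_mul, hxkA,
          cj_eq_self_of_mem_normalizer hs.2, ← hxkA, cj_inv_cj]
      have hc₁' : k⁻¹ * c₁ * k ∈ Subgroup.centralizer (A : Set G) := by
        have h3 : c₁ ∈ cj k (Subgroup.centralizer (A : Set G)) := by
          rw [cj_centralizer, hkA]; exact hc₁
        exact mem_cj.mp h3
      have hck' : x₂⁻¹ * ck⁻¹ * x₂ ∈ Subgroup.centralizer (A : Set G) := by
        have h3 : ck⁻¹ ∈ cj x₂ (Subgroup.centralizer (A : Set G)) := by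
          rw [cj_centralizer, cj_eq_self_of_mem_normalizer hx₂A]; exact inv_mem hckA
        exact mem_cj.mp h3
      refine ⟨x₂, hx₂R, (x₂⁻¹ * ck⁻¹ * x₂) * ck * (k⁻¹ * c₁ * k),
        Subgroup.mul_mem _ (Subgroup.mul_mem _ hck' hckA) hc₁', ?_⟩
      have h4 : d = k⁻¹ * (k * d * k⁻¹) * k := by group
      rw [h4, hsc, hx₂, hkx]
      group
  intro A hA g hg
  -- enlarge `A` to `A Z`
  set A' := A ⊔ Z with hA'
  have hA'P : A' ≤ (P : Subgroup G) := sup_le hA hZP
  have hg' : cj g A' ≤ (P : Subgroup G) := by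
    rw [hA', cj_sup]
    refine sup_le hg ?_
    have : cj g Z = Z := cj_eq_self_of_mem_normalizer (by rw [Subgroup.normalizer_eq_top]; trivial)
    rw [this]; exact hZP
  obtain ⟨x, hx, c, hc, hgx⟩ := S_of_claim A' hA'P
    (claim _ A' le_sup_right hA'P rfl) g hg'
  exact ⟨x, hx, c, Subgroup.centralizer_le (SetLike.coe_subset_coe.mpr le_sup_left) hc, hgx⟩

end Cfsg.Agent.Lib.Helper32
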