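import Mathlib
import Cfsg.Agent.S3081
import Cfsg.Agent.S1954
import Cfsg.Agent.Lib.Helper33.StabChain
import Cfsg.Agent.Lib.Helper32.NormCtrlD

/-!
# A centric subgroup whose normalizer controls strong fusion, in `Qd(p)`-free groups (helper32)

`exists_centric_ctrl`: in a finite group `X` in which `Qd(p)` is not involved (`p` odd), every Sylow
`p`-subgroup `P` has a subgroup `Q` with `C_P(Q) ≤ Q` whose normalizer controls strong fusion in `P`.

Induction on `|X|`, with `W = Z(J(P))` (controls strong fusion by S3081): if `N_X(W) < X` pass to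
`N_X(W)`; if `W` is central pass to `X / W` (`ctrl_of_quotient_central`); otherwise pass to the proper
normal subgroup `C_X(W)` and come back with S1954.
-/

set_option autoImplicit false

namespace Cfsg.Agent.Lib.Helper32

open Cfsg Cfsg.Agent.Lib.Helper33 Cfsg.Agent.Lib.Helper11

universe u

/-- `N_G(Z(J(P)))` controls strong fusion in `P` (product form), from S3081. -/
theorem ctrl_centerThompsonA {G : Type*} [Group G] [Finite G] {p : ℕ} [Fact p.Prime] (hp : p ≠ 2)
    (P : Sylow p G) (hqd : ¬ Cfsg.Involves ↥(Cfsg.qd p) G) :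
    Ctrl (P : Subgroup G) (Cfsg.centerThompsonAOf (P : Subgroup G)) := by
  intro A hA g hg
  have h := (Cfsg.Agent.S3081.result hp P (P : Subgroup G) ⟨le_rfl, fun x _ g hg => hg⟩ hqd).1
    (A : Set G) hA
  obtain ⟨x, hx, hxa⟩ := h.2 g (by rintro _ ⟨a, ha, rfl⟩; exact hg ⟨a, ha, rfl⟩)
  refine ⟨x, hx, x⁻¹ * g, ?_, by group⟩
  rw [Subgroup.mem_centralizer_iff]
  intro a ha
  have h1 := hxa a ha
  calc a * (x⁻¹ * g) = x⁻¹ * (x * a * x⁻¹) * g := by group
    _ = x⁻¹ * (g * a * g⁻¹) * g := by rw [h1]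
    _ = x⁻¹ * g * a := by group

theorem centerThompsonA_le {G : Type*} [Group G] [Finite G] (P : Subgroup G) :
    Cfsg.centerThompsonAOf P ≤ P := by
  rw [Cfsg.Agent.S0653.centerThompsonAOf_eq_famInf]
  exact zj_le P

theorem centerThompsonA_ne_bot {G : Type*} [Group G] [Finite G] {p : ℕ} [Fact p.Prime]
    (P : Subgroup G) (hP : IsPGroup p P) (hne : P ≠ ⊥) : Cfsg.centerThompsonAOf P ≠ ⊥ := by
  rw [Cfsg.Agent.S0653.centerThompsonAOf_eq_famInf]
  exact zj_ne_bot P hP hne

theorem normalizer_le_normalizer_centerThompsonA {G : Type*} [Group G] [Finite G]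
    (P : Subgroup G) :
    Subgroup.normalizer (P : Set G) ≤
      Subgroup.normalizer ((Cfsg.centerThompsonAOf P : Subgroup G) : Set G) := by
  rw [Cfsg.Agent.S0653.centerThompsonAOf_eq_famInf]
  exact normalizer_le_normalizer_zj P

theorem not_involves_subgroup {T : Type*} [Group T] {G : Type*} [Group G] (H : Subgroup G)
    (h : ¬ Cfsg.Involves T G) : ¬ Cfsg.Involves T ↥H := fun h' =>
  h (involvesGrp_iff_involves.mp (InvolvesGrp.of_subgroup (involvesGrp_iff_involves.mpr h')))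

theorem not_involves_quotient {T : Type*} [Group T] {G : Type*} [Group G] (Z : Subgroup G)
    [Z.Normal] (h : ¬ Cfsg.Involves T G) : ¬ Cfsg.Involves T (G ⧸ Z) := fun h' =>
  h (involvesGrp_iff_involves.mp (InvolvesGrp.of_surjective (QuotientGroup.mk' Z)
    (QuotientGroup.mk'_surjective Z) (involvesGrp_iff_involves.mpr h')))

theorem mem_normalizer_sup {G : Type*} [Group G] {A B : Subgroup G} {x : G}
    (hA : x ∈ Subgroup.normalizer (A : Set G)) (hB : x ∈ Subgroup.normalizer (B : Set G)) :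
    x ∈ Subgroup.normalizer ((A ⊔ B : Subgroup G) : Set G) := by
  rw [mem_normalizer_iff_cj_eq] at hA hB ⊢
  rw [cj_sup, hA, hB]

/-- the statement proved by induction -/
def CentricCtrlProp (p : ℕ) (X : Type u) [Group X] : Prop :=
  ∀ P : Sylow p X, ∃ Q : Subgroup X, Q ≤ (P : Subgroup X) ∧
    (P : Subgroup X) ⊓ Subgroup.centralizer (Q : Set X) ≤ Q ∧ Ctrl (P : Subgroup X) Q

/-- passing to a proper subgroup that controls strong fusion -/
theorem centricCtrl_of_ctrlBy {p : ℕ} [Fact p.Prime] {X : Type u} [Group X] [Finite X]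
    (P : Sylow p X) (H : Subgroup X) (hPH : (P : Subgroup X) ≤ H)
    (hctrl : CtrlBy (P : Subgroup X) H) (ih : CentricCtrlProp p ↥H) :
    ∃ Q : Subgroup X, Q ≤ (P : Subgroup X) ∧
      (P : Subgroup X) ⊓ Subgroup.centralizer (Q : Set X) ≤ Q ∧ Ctrl (P : Subgroup X) Q := by
  obtain ⟨Q₁, hQ₁P, hQ₁c, hQ₁ctrl⟩ := ih (P.subtype hPH)
  have hmap : ((P.subtype hPH : Sylow p ↥H) : Subgroup ↥H).map H.subtype = (P : Subgroup X) := by
    rw [Sylow.coe_subtype, Subgroup.map_subgroupOf_eq_of_le hPH]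
  have rel := relCtrl_of_subtype H _ _ hQ₁ctrl
  rw [hmap] at rel
  refine ⟨Q₁.map H.subtype, ?_, ?_, hctrl.trans rel⟩
  · rw [← hmap]; exact Subgroup.map_mono hQ₁P
  · rintro x ⟨hxP, hxC⟩
    have hxH : x ∈ H := hPH hxP
    have h1 : (⟨x, hxH⟩ : ↥H) ∈ ((P.subtype hPH : Sylow p ↥H) : Subgroup ↥H) := by
      rw [Sylow.coe_subtype, Subgroup.mem_subgroupOf]; exact hxP
    have h2 : (⟨x, hxH⟩ : ↥H) ∈ Subgroup.centralizer (Q₁ : Set ↥H) := by
      rw [Subgroup.mem_centralizer_iff]
      intro y hy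
      apply Subtype.ext
      have := (Subgroup.mem_centralizer_iff.mp hxC) (y : X) ⟨y, hy, rfl⟩
      simpa using this
    exact ⟨⟨x, hxH⟩, hQ₁c ⟨h1, h2⟩, rfl⟩

/-- passing to the quotient by a central `p`-subgroup -/
theorem centricCtrl_of_central {p : ℕ} [Fact p.Prime] {X : Type u} [Group X] [Finite X]
    (P : Sylow p X) (Z : Subgroup X) [Z.Normal] (hZc : Z ≤ Subgroup.center X)
    (hZP : Z ≤ (P : Subgroup X)) (ih : CentricCtrlProp p (X ⧸ Z)) :
    ∃ Q : Subgroup X, Q ≤ (P : Subgroup X) ∧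
      (P : Subgroup X) ⊓ Subgroup.centralizer (Q : Set X) ≤ Q ∧ Ctrl (P : Subgroup X) Q := by
  obtain ⟨R', hR'P, hR'c, hR'ctrl⟩ := ih (P.mapSurjective (QuotientGroup.mk'_surjective Z))
  rw [Sylow.coe_mapSurjective] at hR'P hR'c hR'ctrl
  set R := R'.comap (QuotientGroup.mk' Z) with hR
  have hmap : R.map (QuotientGroup.mk' Z) = R' :=
    Subgroup.map_comap_eq_self_of_surjective (QuotientGroup.mk'_surjective Z) R'
  have hZR : Z ≤ R := by
    intro z hz
    rw [hR, Subgroup.mem_comap]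
    have : QuotientGroup.mk' Z z = 1 := (QuotientGroup.eq_one_iff z).mpr hz
    rw [this]; exact R'.one_mem
  have hRP : R ≤ (P : Subgroup X) := by
    intro x hx
    rw [hR, Subgroup.mem_comap] at hx
    obtain ⟨y, hy, hyx⟩ := hR'P hx
    have h1 : y⁻¹ * x ∈ Z := by
      have : QuotientGroup.mk' Z (y⁻¹ * x) = 1 := by
        rw [map_mul, map_inv, hyx]; group
      exact (QuotientGroup.eq_one_iff _).mp this
    have : x = y * (y⁻¹ * x) := by group
    rw [this]
    exact Subgroup.mul_mem _ hy (hZP h1)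
  refine ⟨R, hRP, ?_, ?_⟩
  · rintro x ⟨hxP, hxC⟩
    rw [hR, Subgroup.mem_comap]
    apply hR'c
    refine ⟨⟨x, hxP, rfl⟩, ?_⟩
    show QuotientGroup.mk' Z x ∈ Subgroup.centralizer (R' : Set (X ⧸ Z))
    rw [Subgroup.mem_centralizer_iff]
    intro y' hy'
    rw [← hmap] at hy'
    obtain ⟨y, hy, rfl⟩ := hy'
    have := (Subgroup.mem_centralizer_iff.mp hxC) y hy
    rw [← map_mul, ← map_mul, this]
  · apply ctrl_of_quotient_central P Z hZc hZR hRP
    rw [hmap]; exact hR'ctrl

/-- passing to a normal subgroup, coming back with S1954 -/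
theorem centricCtrl_of_normal {p : ℕ} [Fact p.Prime] {X : Type u} [Group X] [Finite X]
    (P : Sylow p X) (W : Subgroup X) [W.Normal] (hWP : W ≤ (P : Subgroup X))
    (ih : CentricCtrlProp p ↥(Subgroup.centralizer (W : Set X))) :
    ∃ Q : Subgroup X, Q ≤ (P : Subgroup X) ∧
      (P : Subgroup X) ⊓ Subgroup.centralizer (Q : Set X) ≤ Q ∧ Ctrl (P : Subgroup X) Q := by
  set N := Subgroup.centralizer (W : Set X) with hN
  have hNn : N.Normal := Subgroup.normal_centralizer
  have hsyl : SylIn p ((P : Subgroup X) ⊓ N) N :=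
    (sylIn_top P).inf_of_normal le_top (by rw [Subgroup.normalizer_eq_top])
  obtain ⟨V₁, hV₁P, hV₁c, hV₁ctrl⟩ := ih hsyl.toSylow
  rw [SylIn.coe_toSylow] at hV₁P hV₁c hV₁ctrl
  have hmap : (((P : Subgroup X) ⊓ N).subgroupOf N).map N.subtype = (P : Subgroup X) ⊓ N :=
    Subgroup.map_subgroupOf_eq_of_le inf_le_right
  have rel := relCtrl_of_subtype N _ _ hV₁ctrl
  rw [hmap] at rel
  set V := V₁.map N.subtype with hV
  have hVle : V ≤ (P : Subgroup X) ⊓ N := by
    rw [← hmap]; exact Subgroup.map_mono hV₁P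
  have hVn : ∀ x ∈ (P : Subgroup X) ⊓ N, V.map (MulAut.conj x).toMonoidHom = V := by
    intro x hx
    have h1 : (⟨x, hx.2⟩ : ↥N) ∈ Subgroup.normalizer (V₁ : Set ↥N) :=
      hV₁ctrl.le_normalizer hV₁P (by rw [Subgroup.mem_subgroupOf]; exact hx)
    have h2 : x ∈ Subgroup.normalizer (V : Set X) :=
      Subgroup.le_normalizer_map N.subtype ⟨⟨x, hx.2⟩, h1, rfl⟩
    exact cj_eq_self_of_mem_normalizer h2
  set W' := Subgroup.closure (⋃ x ∈ Subgroup.normalizer (((P : Subgroup X) ⊓ N : Subgroup X) : Set X),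
      ((V.map (MulAut.conj x).toMonoidHom : Subgroup X) : Set X)) with hW'
  have hW'ctrl : Ctrl (P : Subgroup X) W' :=
    Cfsg.Agent.S1954.result N P V hVle hVn rel W' hW'
  have hVW' : V ≤ W' := by
    intro v hv
    apply Subgroup.subset_closure
    simp only [Set.mem_iUnion]
    refine ⟨1, Subgroup.one_mem _, ?_⟩
    show v ∈ cj 1 V
    rw [cj_one]; exact hv
  have hW'le : W' ≤ (P : Subgroup X) ⊓ N := by
    rw [hW', Subgroup.closure_le]
    intro y hy
    simp only [Set.mem_iUnion] at hy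
    obtain ⟨x, hx, hy⟩ := hy
    have h1 : cj x V ≤ cj x ((P : Subgroup X) ⊓ N) := cj_mono hVle
    rw [cj_eq_self_of_mem_normalizer hx] at h1
    exact h1 hy
  refine ⟨W ⊔ W', sup_le hWP (hW'le.trans inf_le_left), ?_, ?_⟩
  · rintro x ⟨hxP, hxC⟩
    have hxN : x ∈ N := Subgroup.centralizer_le (SetLike.coe_subset_coe.mpr le_sup_left) hxC
    have hxV : x ∈ Subgroup.centralizer (V : Set X) :=
      Subgroup.centralizer_le (SetLike.coe_subset_coe.mpr (hVW'.trans le_sup_right)) hxC
    have h1 : (⟨x, hxN⟩ : ↥N) ∈ ((P : Subgroup X) ⊓ N).subgroupOf N := by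
      rw [Subgroup.mem_subgroupOf]; exact ⟨hxP, hxN⟩
    have h2 : (⟨x, hxN⟩ : ↥N) ∈ Subgroup.centralizer (V₁ : Set ↥N) := by
      rw [Subgroup.mem_centralizer_iff]
      intro y hy
      apply Subtype.ext
      have := (Subgroup.mem_centralizer_iff.mp hxV) (y : X) ⟨y, hy, rfl⟩
      simpa using this
    have h3 : x ∈ V := ⟨⟨x, hxN⟩, hV₁c ⟨h1, h2⟩, rfl⟩
    exact (hVW'.trans le_sup_right) h3
  · apply hW'ctrl.mono
    intro x hx
    exact mem_normalizer_sup (by rw [Subgroup.normalizer_eq_top]; trivial) hx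

/-- **Main induction.** -/
theorem centricCtrl_aux {p : ℕ} [Fact p.Prime] (hp : p ≠ 2) (n : ℕ) :
    ∀ (X : Type u) [Group X] [Finite X], Nat.card X = n → ¬ Cfsg.Involves ↥(Cfsg.qd p) X →
      CentricCtrlProp p X := by
  induction n using Nat.strong_induction_on with
  | _ n ih =>
  intro X _ _ hn hqd P
  by_cases hPbot : (P : Subgroup X) = ⊥
  · refine ⟨⊥, bot_le, ?_, ctrl_of_normal _ _⟩
    rw [hPbot]; exact inf_le_left
  set W := Cfsg.centerThompsonAOf (P : Subgroup X) with hW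
  have hWP : W ≤ (P : Subgroup X) := centerThompsonA_le _
  have hWne : W ≠ ⊥ := centerThompsonA_ne_bot _ P.isPGroup' hPbot
  have hWctrl : Ctrl (P : Subgroup X) W := ctrl_centerThompsonA hp P hqd
  have hPNW : (P : Subgroup X) ≤ Subgroup.normalizer (W : Set X) :=
    Subgroup.le_normalizer.trans (normalizer_le_normalizer_centerThompsonA _)
  by_cases hNW : Subgroup.normalizer (W : Set X) = ⊤
  · -- `W` normal
    have hWn : W.Normal := Subgroup.normalizer_eq_top_iff.mp hNW
    by_cases hC : Subgroup.centralizer (W : Set X) = ⊤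
    · -- `W` central
      have hWc : W ≤ Subgroup.center X := by
        intro w hw
        rw [Subgroup.mem_center_iff]
        intro g
        have hg : g ∈ Subgroup.centralizer (W : Set X) := by rw [hC]; trivial
        exact ((Subgroup.mem_centralizer_iff.mp hg) w hw).symm
      apply centricCtrl_of_central P W hWc hWP
      apply ih (Nat.card (X ⧸ W)) _ (X ⧸ W) rfl (not_involves_quotient W hqd)
      rw [← hn, Subgroup.card_eq_card_quotient_mul_card_subgroup W]
      have h1 : 1 < Nat.card W := by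
        rw [Subgroup.one_lt_card_iff_ne_bot]; exact hWne
      have h0 : 0 < Nat.card (X ⧸ W) := Nat.card_pos
      nlinarith
    · apply centricCtrl_of_normal P W hWP
      apply ih (Nat.card ↥(Subgroup.centralizer (W : Set X))) _ _ rfl (not_involves_subgroup _ hqd)
      rw [← hn, ← Subgroup.card_top (G := X)]
      exact card_lt_card_of_lt (lt_top_iff_ne_top.mpr hC)
  · apply centricCtrl_of_ctrlBy P _ hPNW hWctrl
    apply ih (Nat.card ↥(Subgroup.normalizer (W : Set X))) _ _ rfl (not_involves_subgroup _ hqd)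
    rw [← hn, ← Subgroup.card_top (G := X)]
    exact card_lt_card_of_lt (lt_top_iff_ne_top.mpr hNW)

/-- In a finite `Qd(p)`-free group (`p` odd) every Sylow `p`-subgroup `P` has a subgroup `Q` with
`C_P(Q) ≤ Q` whose normalizer controls strong fusion in `P`. -/
theorem exists_centric_ctrl {p : ℕ} [Fact p.Prime] (hp : p ≠ 2) {X : Type u} [Group X] [Finite X]
    (hqd : ¬ Cfsg.Involves ↥(Cfsg.qd p) X) (P : Sylow p X) :
    ∃ Q : Subgroup X, Q ≤ (P : Subgroup X) ∧
      (P : Subgroup X) ⊓ Subgroup.centralizer (Q : Set X) ≤ Q ∧ Ctrl (P : Subgroup X) Q :=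
  centricCtrl_aux hp _ X rfl hqd P

end Cfsg.Agent.Lib.Helper32
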