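import Mathlib
import Cfsg.Agent.Lib.Helper33.StabChain
import Cfsg.Agent.Lib.Helper32.NormCtrlB
import Cfsg.Agent.Lib.Helper32.NormCtrlD

/-!
# Centric subgroups controlling strong fusion: radical and least (helper32)

For a Sylow `p`-subgroup `P` and `Q ≤ P` with `C_P(Q) ≤ Q` whose normalizer controls strong fusion:

* `relCtrl_of_normal_pquot`: if `X ⊴ N_G(Q)` has `p`-power index over `Q C_G(Q)`, then `X = (P ∩ X) C_G(Q)`
  and `N_G(Q) ∩ N_G(P ∩ X)` still controls strong fusion in `P` with respect to `N_G(Q)`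
  (`C_G(Q) = Z(Q) × O` with `O` a `p'`-group, Frattini, then `exists_mul_centralizer_of_pprime`);
* `le_of_ctrl_of_radical`: `Q` lies in every centric radical subgroup of `P`.
-/

set_option autoImplicit false

namespace Cfsg.Agent.Lib.Helper32

open Cfsg.Agent.Lib.Helper33

universe u

variable {G : Type u} [Group G] {p : ℕ}

/-- `|A B : B|` is a power of `p` for a `p`-group `A` normalizing `B` -/
theorem exists_relIndex_sup_eq_pow [Fact p.Prime] [Finite G] {A B : Subgroup G} (hA : IsPGroup p A)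
    (hAB : A ≤ Subgroup.normalizer (B : Set G)) : ∃ k : ℕ, B.relIndex (A ⊔ B) = p ^ k := by
  have hle : A ⊔ B ≤ Subgroup.normalizer (B : Set G) := sup_le hAB Subgroup.le_normalizer
  have : (B.subgroupOf (A ⊔ B)).Normal :=
    (Subgroup.normal_subgroupOf_iff_le_normalizer le_sup_right).mpr hle
  have hq : IsPGroup p (↥(A ⊔ B) ⧸ B.subgroupOf (A ⊔ B)) := by
    intro x
    induction x using QuotientGroup.induction_on with
    | H x =>
      obtain ⟨a, ha, b, hb, hx⟩ := exists_mul_of_mem_sup_of_le_normalizer hAB x.2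
      obtain ⟨k, hk⟩ := hA ⟨a, ha⟩
      refine ⟨k, ?_⟩
      have haAB : a ∈ A ⊔ B := le_sup_left (a := A) ha
      have h1 : (QuotientGroup.mk x : ↥(A ⊔ B) ⧸ B.subgroupOf (A ⊔ B)) =
          QuotientGroup.mk (⟨a, haAB⟩ : ↥(A ⊔ B)) := by
        rw [QuotientGroup.eq, Subgroup.mem_subgroupOf]
        have : ((x⁻¹ * ⟨a, haAB⟩ : ↥(A ⊔ B)) : G) = b⁻¹ := by
          push_cast
          rw [hx]; group
        rw [this]
        exact B.inv_mem hb
      rw [h1, ← QuotientGroup.mk_pow]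
      have h2 : (⟨a, haAB⟩ : ↥(A ⊔ B)) ^ p ^ k = 1 := by
        apply Subtype.ext
        have := congrArg Subtype.val hk
        simpa using this
      rw [h2]; rfl
  obtain ⟨k, hk⟩ := hq.exists_card_eq
  exact ⟨k, by rw [Subgroup.relIndex, Subgroup.index_eq_card]; exact hk⟩

/-- if `Z(Q)` is a Sylow `p`-subgroup of `C_G(Q)` then `C_G(Q) = O × Z(Q)` with `O` a `p'`-group
normalized by `N_G(Q)` -/
theorem exists_pprime_complement_centralizer [Fact p.Prime] [Finite G] {Q : Subgroup G}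
    (hsyl : SylIn p (Q ⊓ Subgroup.centralizer (Q : Set G)) (Subgroup.centralizer (Q : Set G))) :
    ∃ O : Subgroup G, O ≤ Subgroup.centralizer (Q : Set G) ∧ (Nat.card O).Coprime p ∧
      Subgroup.normalizer (Q : Set G) ≤ Subgroup.normalizer (O : Set G) ∧
      ∀ c ∈ Subgroup.centralizer (Q : Set G), ∃ o ∈ O,
        ∃ z ∈ Q ⊓ Subgroup.centralizer (Q : Set G), c = o * z := by
  set C := Subgroup.centralizer (Q : Set G) with hC
  have hcen : (hsyl.toSylow : Subgroup C) ≤ Subgroup.center C := by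
    intro z hz
    rw [SylIn.coe_toSylow, Subgroup.mem_subgroupOf] at hz
    rw [Subgroup.mem_center_iff]
    intro c
    apply Subtype.ext
    have := (Subgroup.mem_centralizer_iff.mp c.2) (z : G) hz.1
    simpa using this.symm
  obtain ⟨K₁, hK₁n, hK₁cop, hK₁dec, hK₁all⟩ :=
    exists_normal_pComplement_of_central_sylow hsyl.toSylow hcen
  refine ⟨K₁.map C.subtype, Subgroup.map_subtype_le _, ?_, ?_, ?_⟩
  · rw [Subgroup.card_map_of_injective C.subtype_injective]; exact hK₁cop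
  · intro n hn
    rw [mem_normalizer_iff_cj_eq]
    apply cj_eq_of_cj_le
    intro y hy
    rw [mem_cj] at hy
    obtain ⟨k, hk, hky⟩ := hy
    have hky' : (k : G) = n⁻¹ * y * n := hky
    have hy_eq : y = n * (k : G) * n⁻¹ := by rw [hky']; group
    have hyC : y ∈ C := by
      rw [hy_eq]
      exact (Subgroup.mem_normalizer_iff.mp (normalizer_le_normalizer_centralizer Q hn) _).mp k.2
    refine ⟨⟨y, hyC⟩, hK₁all _ ?_, rfl⟩
    have h1 : orderOf (⟨y, hyC⟩ : C) = orderOf k := by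
      rw [← Subgroup.orderOf_coe, ← Subgroup.orderOf_coe k]
      show orderOf y = orderOf (k : G)
      rw [hy_eq]
      exact (MulAut.conj n).orderOf_eq (k : G)
    rw [h1]
    have h2 : orderOf k ∣ Nat.card K₁ := by
      have := orderOf_dvd_natCard (⟨k, hk⟩ : K₁)
      rwa [Subgroup.orderOf_mk] at this
    exact Nat.Coprime.coprime_dvd_left h2 hK₁cop
  · intro c hc
    obtain ⟨k, hk, z, hz, hckz⟩ := hK₁dec ⟨c, hc⟩
    rw [SylIn.coe_toSylow, Subgroup.mem_subgroupOf] at hz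
    exact ⟨k, ⟨k, hk, rfl⟩, z, hz, congrArg Subtype.val hckz⟩

/-- the radical step -/
theorem relCtrl_of_normal_pquot [Fact p.Prime] [Finite G] (P : Sylow p G) {Q X : Subgroup G}
    (hQP : Q ≤ (P : Subgroup G))
    (hcen : (P : Subgroup G) ⊓ Subgroup.centralizer (Q : Set G) ≤ Q)
    (hPN : (P : Subgroup G) ≤ Subgroup.normalizer (Q : Set G))
    (hXN : X ≤ Subgroup.normalizer (Q : Set G))
    (hXn : Subgroup.normalizer (Q : Set G) ≤ Subgroup.normalizer (X : Set G))
    (hQCX : Q ⊔ Subgroup.centralizer (Q : Set G) ≤ X)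
    (hidx : ∃ k : ℕ, (Q ⊔ Subgroup.centralizer (Q : Set G)).relIndex X = p ^ k) :
    X = ((P : Subgroup G) ⊓ X) ⊔ Subgroup.centralizer (Q : Set G) ∧
      RelCtrl (Subgroup.normalizer (Q : Set G)) (P : Subgroup G) ((P : Subgroup G) ⊓ X) := by
  set N := Subgroup.normalizer (Q : Set G) with hN
  set C := Subgroup.centralizer (Q : Set G) with hC
  have hCN : C ≤ N := Subgroup.centralizer_le_normalizer _
  have hNC : N ≤ Subgroup.normalizer (C : Set G) := normalizer_le_normalizer_centralizer Q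
  have hPsyl : SylIn p (P : Subgroup G) N := sylIn_of_sylow_le P hPN
  have hXsyl : SylIn p ((P : Subgroup G) ⊓ X) X := hPsyl.inf_of_normal hXN hXn
  have hCsyl : SylIn p ((P : Subgroup G) ⊓ C) C := hPsyl.inf_of_normal hCN hNC
  have hPC : (P : Subgroup G) ⊓ C = Q ⊓ C :=
    le_antisymm (le_inf hcen inf_le_right) (inf_le_inf_right _ hQP)
  rw [hPC] at hCsyl
  set R := (P : Subgroup G) ⊓ X with hR
  have hQR : Q ≤ R := le_inf hQP (le_sup_left.trans hQCX)
  have hCX : C ≤ X := le_sup_right.trans hQCX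
  have hRN : R ≤ N := inf_le_left.trans hPN
  -- Step 1
  have hX : X = R ⊔ C := by
    apply le_antisymm _ (sup_le inf_le_right hCX)
    rw [← Subgroup.relIndex_eq_one]
    obtain ⟨k, hk⟩ := hidx
    have h1 : (R ⊔ C).relIndex X ∣ p ^ k := by
      rw [← hk]; exact Subgroup.relIndex_dvd_of_le_left X (sup_le_sup_right hQR C)
    have h2 : (R ⊔ C).relIndex X ∣ R.relIndex X :=
      Subgroup.relIndex_dvd_of_le_left X le_sup_left
    obtain ⟨j, -, hj⟩ := (Nat.dvd_prime_pow (Fact.out : p.Prime)).mp h1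
    rcases Nat.eq_zero_or_pos j with h0 | hpos
    · rw [hj, h0, pow_zero]
    · exfalso
      apply hXsyl.not_dvd
      refine dvd_trans ?_ h2
      rw [hj]
      exact dvd_pow_self p hpos.ne'
  obtain ⟨O, hOC, hOcop, hNO, hOdec⟩ := exists_pprime_complement_centralizer hCsyl
  -- Frattini
  have hprod : ∀ m ∈ N, ∃ o ∈ O, ∃ n ∈ N ⊓ Subgroup.normalizer (R : Set G), m = o * n := by
    intro m hm
    have h1 : SylIn p (cj m R) X := by
      have := hXsyl.cj m
      rwa [cj_eq_self_of_mem_normalizer (hXn hm)] at this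
    obtain ⟨x, hx, hxe⟩ := hXsyl.exists_cj_eq h1
    have hxm : x * m ∈ Subgroup.normalizer (R : Set G) := by
      rw [mem_normalizer_iff_cj_eq, cj_mul]; exact hxe
    have hRC : R ≤ Subgroup.normalizer (C : Set G) := hRN.trans hNC
    have hx' : x ∈ R ⊔ C := by rw [← hX]; exact hx
    obtain ⟨r, hr, c, hc, hxrc⟩ := exists_mul_of_mem_sup_of_le_normalizer hRC hx'
    obtain ⟨o, ho, z, hz, hcoz⟩ := hOdec c⁻¹ (C.inv_mem hc)
    refine ⟨o, ho, z * r⁻¹ * (x * m), ⟨?_, ?_⟩, ?_⟩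
    · exact N.mul_mem (N.mul_mem (hRN (hQR hz.1)) (N.inv_mem (hRN hr))) (N.mul_mem (hXN hx) hm)
    · refine Subgroup.mul_mem _ (Subgroup.mul_mem _ (Subgroup.le_normalizer (hQR hz.1))
        (Subgroup.inv_mem _ (Subgroup.le_normalizer hr))) hxm
    · have h3 : m = c⁻¹ * r⁻¹ * (x * m) := by rw [hxrc]; group
      calc m = c⁻¹ * r⁻¹ * (x * m) := h3
        _ = o * z * r⁻¹ * (x * m) := by rw [hcoz]
        _ = o * (z * r⁻¹ * (x * m)) := by group
  have hPM₁ : (P : Subgroup G) ≤ N ⊓ Subgroup.normalizer (R : Set G) := by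
    refine le_inf hPN ?_
    intro y hy
    exact normalizer_inf_le _ _ ⟨Subgroup.le_normalizer hy, hXn (hPN hy)⟩
  exact ⟨hX, exists_mul_centralizer_of_pprime P.isPGroup' hPM₁ inf_le_left (hOC.trans hCN) hNO hOcop
    hprod⟩

/-- `Q` lies in every centric radical subgroup -/
theorem le_of_ctrl_of_radical [Fact p.Prime] [Finite G] (P : Sylow p G) {Q R₁ : Subgroup G}
    (hQP : Q ≤ (P : Subgroup G)) (hQctrl : Ctrl (P : Subgroup G) Q) (hR₁P : R₁ ≤ (P : Subgroup G))
    (hR₁c : (P : Subgroup G) ⊓ Subgroup.centralizer (R₁ : Set G) ≤ R₁)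
    (hrad : ∀ X : Subgroup G, X ≤ Subgroup.normalizer (R₁ : Set G) →
      (∀ n ∈ Subgroup.normalizer (R₁ : Set G), X.map (MulAut.conj n).toMonoidHom = X) →
      R₁ ⊔ Subgroup.centralizer (R₁ : Set G) ≤ X →
      (∃ k : ℕ, (R₁ ⊔ Subgroup.centralizer (R₁ : Set G)).relIndex X = p ^ k) →
      X = R₁ ⊔ Subgroup.centralizer (R₁ : Set G)) :
    Q ≤ R₁ := by
  set N₁ := Subgroup.normalizer (R₁ : Set G) with hN₁
  set C₁ := Subgroup.centralizer (R₁ : Set G) with hC₁
  have hPNQ : (P : Subgroup G) ≤ Subgroup.normalizer (Q : Set G) := hQctrl.le_normalizer hQP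
  have hC₁N₁ : C₁ ≤ N₁ := Subgroup.centralizer_le_normalizer _
  have hN₁C₁ : N₁ ≤ Subgroup.normalizer (C₁ : Set G) := normalizer_le_normalizer_centralizer R₁
  have hdec : ∀ g ∈ N₁, ∃ h ∈ N₁ ⊓ Subgroup.normalizer (Q : Set G), ∃ c ∈ C₁, g = h * c := by
    intro g hg
    have h1 : R₁.map (MulAut.conj g).toMonoidHom ≤ (P : Subgroup G) := by
      show cj g R₁ ≤ _
      rw [cj_eq_self_of_mem_normalizer hg]; exact hR₁P
    obtain ⟨h, hh, c, hc, rfl⟩ := hQctrl R₁ hR₁P g h1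
    refine ⟨h, ⟨?_, hh⟩, c, hc, rfl⟩
    have : h = (h * c) * c⁻¹ := by group
    rw [this]; exact N₁.mul_mem hg (N₁.inv_mem (hC₁N₁ hc))
  set A := Q ⊓ N₁ with hA
  have hAp : IsPGroup p A := P.isPGroup'.to_le (inf_le_left.trans hQP)
  have hRCn : N₁ ≤ Subgroup.normalizer ((R₁ ⊔ C₁ : Subgroup G) : Set G) := by
    intro n hn
    rw [mem_normalizer_iff_cj_eq, cj_sup, cj_eq_self_of_mem_normalizer hn,
      cj_eq_self_of_mem_normalizer (hN₁C₁ hn)]
  have hAN : A ≤ Subgroup.normalizer ((R₁ ⊔ C₁ : Subgroup G) : Set G) := inf_le_right.trans hRCn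
  set Y := A ⊔ (R₁ ⊔ C₁) with hY
  have hYN : Y ≤ N₁ := sup_le inf_le_right (sup_le Subgroup.le_normalizer hC₁N₁)
  have hYinv : ∀ n ∈ N₁, Y.map (MulAut.conj n).toMonoidHom = Y := by
    intro n hn
    obtain ⟨h, hh, c, hc, rfl⟩ := hdec n hn
    show cj (h * c) Y = Y
    have hcY : c ∈ Y := (le_sup_right.trans le_sup_right : C₁ ≤ Y) hc
    have hhA : h ∈ Subgroup.normalizer (A : Set G) :=
      normalizer_inf_le _ _ ⟨hh.2, Subgroup.le_normalizer hh.1⟩
    rw [cj_mul, cj_eq_self_of_mem hcY, hY, cj_sup, cj_eq_self_of_mem_normalizer hhA,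
      cj_eq_self_of_mem_normalizer (hRCn hh.1)]
  have hpow := exists_relIndex_sup_eq_pow hAp hAN
  have hYeq := hrad Y hYN hYinv le_sup_right hpow
  have hA_le : A ≤ R₁ ⊔ C₁ := by
    have : A ≤ Y := le_sup_left
    rw [hYeq] at this
    exact this
  have hAR : A ≤ R₁ := by
    intro x hx
    have hR₁C₁ : R₁ ≤ Subgroup.normalizer (C₁ : Set G) := Subgroup.le_normalizer.trans hN₁C₁
    obtain ⟨r, hr, c, hc, hxrc⟩ := exists_mul_of_mem_sup_of_le_normalizer hR₁C₁ (hA_le hx)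
    have hcP : c ∈ (P : Subgroup G) := by
      have : c = r⁻¹ * x := by rw [hxrc]; group
      rw [this]
      exact Subgroup.mul_mem _ (Subgroup.inv_mem _ (hR₁P hr)) (hQP hx.1)
    rw [hxrc]
    exact R₁.mul_mem hr (hR₁c ⟨hcP, hc⟩)
  by_contra hne
  have hlt : R₁ < Q ⊔ R₁ := by
    refine lt_of_le_of_ne le_sup_right (fun h => hne ?_)
    rw [h]; exact le_sup_left
  have hQRp : IsPGroup p (Q ⊔ R₁ : Subgroup G) := P.isPGroup'.to_le (sup_le hQP hR₁P)
  obtain ⟨y, hy, hyR⟩ := exists_mem_normalizer_not_mem_of_lt hQRp hlt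
  have hy1 : y ∈ R₁ ⊔ Q := by rw [sup_comm]; exact hy.1
  obtain ⟨r, hr, q, hq, hyrq⟩ := exists_mul_of_mem_sup_of_le_normalizer (hR₁P.trans hPNQ) hy1
  have hqN : q ∈ N₁ := by
    have : q = r⁻¹ * y := by rw [hyrq]; group
    rw [this]
    exact N₁.mul_mem (N₁.inv_mem (Subgroup.le_normalizer hr)) hy.2
  apply hyR
  rw [hyrq]
  exact R₁.mul_mem hr (hAR ⟨hq, hqN⟩)

end Cfsg.Agent.Lib.Helper32
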