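import Cfsg.Agent.Lib.Helper85.FusionPark

/-!
# Centralizers in the biset group (helper32, for S5113)

The value of the orbit homomorphism on elements of the biset group centralizing a subgroup `Q` of `S`.
-/

set_option autoImplicit false

namespace Cfsg.Agent.Lib.Helper32

open Cfsg Cfsg.FusionSystem MulAction Cfsg.Agent.S5328 Cfsg.Agent.Lib Cfsg.Agent.Lib.Helper85

universe u

variable {Ω : Type u} [Group Ω] {S : Subgroup Ω}

/-- the value of the orbit homomorphism at a conjugate of an element centralizing `Q` is represented by an element of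
`S` centralizing the image of `Q` under a map of the system -/
theorem cent_key [Finite S] (F : FusionSystem S) {X : Type*} [MulAction (S × S) X]
    (hstab : ∀ x : X, IsGraph F (stabilizer (S × S) x)) (x₀ : X)
    (ϕ : stabilizer (biG S X) (Quotient.mk (rightSetoid S X) x₀) →* Abelianization S)
    (hϕ : ∀ (g : stabilizer (biG S X) (Quotient.mk (rightSetoid S X) x₀)) (s : S),
      ((1 : S), s) • x₀ = ((g : biG S X) : Equiv.Perm X) x₀ → ϕ g = Abelianization.of s)
    {Q : Subgroup Ω} (hQS : Q ≤ S) (g : biG S X)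
    (hQg : ∀ (t : S), (t : Ω) ∈ Q →
      g⁻¹ * biι S X t * g ∈ stabilizer (biG S X) (Quotient.mk (rightSetoid S X) x₀))
    (c : biG S X) (hc : ∀ (t : S), (t : Ω) ∈ Q → biι S X t * c = c * biι S X t)
    (hcg : g⁻¹ * c * g ∈ stabilizer (biG S X) (Quotient.mk (rightSetoid S X) x₀)) :
    ∃ (ν : Q →* Ω) (s : S), ν ∈ F.Hom Q ∧ (s : Ω) ∈ centralizerIn S ν.range ∧
      ϕ ⟨_, hcg⟩ = Abelianization.of s := by
  -- the element `s_c`
  have hex : ∀ (u : biG S X) (hu : g⁻¹ * u * g ∈ stabilizer (biG S X) (Quotient.mk (rightSetoid S X) x₀)),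
      ∃ s : S, ((1 : S), s) • x₀ = ((g⁻¹ * u * g : biG S X) : Equiv.Perm X) x₀ ∧
        ((1 : S), s) • ((g : Equiv.Perm X) x₀) = (u : Equiv.Perm X) ((g : Equiv.Perm X) x₀) := by
    intro u hu
    have hu' := hu
    rw [mem_stabilizer_iff, smul_mk_rightQuotient] at hu'
    obtain ⟨s, hs⟩ := (rightSetoid S X).iseqv.symm (Quotient.exact hu')
    refine ⟨s, hs, ?_⟩
    rw [← g.2 s x₀, hs]
    change (g : Equiv.Perm X) ((g : Equiv.Perm X)⁻¹ ((u : Equiv.Perm X) ((g : Equiv.Perm X) x₀))) = _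
    rw [Equiv.Perm.inv_def, Equiv.apply_symm_apply]
  obtain ⟨sc, hsc0, hsc⟩ := hex c hcg
  have hϕc : ϕ ⟨_, hcg⟩ = Abelianization.of sc := hϕ ⟨_, hcg⟩ sc hsc0
  set y : X := (g : Equiv.Perm X) x₀ with hy
  obtain ⟨Qy, ψ, hψ, hK⟩ := hstab y
  obtain ⟨ν, hν, hνinv, -⟩ := exists_inv F hψ rfl
  -- for `t ∈ Q`
  have ht : ∀ (t : S), (t : Ω) ∈ Q → ∃ st : S, ((1 : S), st) • y = ((t, (1 : S)) : S × S) • y ∧
      st * sc = sc * st ∧ ∃ (htr : (t : Ω) ∈ ψ.range), ν ⟨t, htr⟩ = ((st⁻¹ : S) : Ω) := by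
    intro t htQ
    obtain ⟨st, -, hst⟩ := hex (biι S X t) (hQg t htQ)
    rw [biι_apply] at hst
    refine ⟨st, hst, ?_, ?_⟩
    · -- commutation
      have h1 : (c : Equiv.Perm X) (((t, (1 : S)) : S × S) • y) =
          ((t, (1 : S)) : S × S) • ((c : Equiv.Perm X) y) := by
        have := congrArg (fun u : biG S X => (u : Equiv.Perm X) y) (hc t htQ)
        simp only [Subgroup.coe_mul, Equiv.Perm.coe_mul, Function.comp_apply, biι_apply] at this
        exact this.symm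
      have h2 : (c : Equiv.Perm X) (((t, (1 : S)) : S × S) • y) = ((1 : S), st * sc) • y := by
        rw [← hst, c.2 st y, ← hsc, smul_smul, Prod.mk_mul_mk, one_mul]
      have h3 : ((t, (1 : S)) : S × S) • ((c : Equiv.Perm X) y) = ((1 : S), sc * st) • y := by
        rw [← hsc, smul_smul, Prod.mk_mul_mk, mul_one, one_mul]
        have e : ((t, sc) : S × S) = ((1 : S), sc) * (t, (1 : S)) := by
          rw [Prod.mk_mul_mk, one_mul, mul_one]
        rw [e, mul_smul, ← hst, smul_smul, Prod.mk_mul_mk, one_mul]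
      exact right_free F hstab y (h2.symm.trans (h1.trans h3))
    · have hmem : ((t, st⁻¹) : S × S) ∈ stabilizer (S × S) y := by
        rw [mem_stabilizer_iff]
        have e : ((t, st⁻¹) : S × S) = ((1 : S), st⁻¹) * (t, (1 : S)) := by
          rw [Prod.mk_mul_mk, one_mul, mul_one]
        rw [e, mul_smul, ← hst, smul_smul, Prod.mk_mul_mk, one_mul, inv_mul_cancel]
        exact one_smul _ _
      obtain ⟨q, h2, h3⟩ := (hK _).1 hmem
      have hqr : ψ q ∈ ψ.range := MonoidHom.mem_range.2 ⟨q, rfl⟩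
      have htr : (t : Ω) ∈ ψ.range := by
        rw [h2]; exact hqr
      refine ⟨htr, ?_⟩
      have h5 := hνinv q hqr
      rw [h3, ← h5]
      congr 1
      exact Subtype.ext h2
  have hQr : Q ≤ ψ.range := by
    intro t htQ
    obtain ⟨st, -, -, htr, -⟩ := ht ⟨t, hQS htQ⟩ htQ
    exact htr
  refine ⟨ν.comp (Subgroup.inclusion hQr), sc, Helper85.restrict_mem F hν hQr, ⟨sc.2, ?_⟩, hϕc⟩
  change (sc : Ω) ∈ Subgroup.centralizer ((ν.comp (Subgroup.inclusion hQr)).range : Set Ω)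
  rw [Subgroup.mem_centralizer_iff]
  rintro _ ⟨t, rfl⟩
  obtain ⟨st, -, hcomm, htr, hνt⟩ := ht ⟨t, hQS t.2⟩ t.2
  change ν ⟨(t : Ω), _⟩ * (sc : Ω) = (sc : Ω) * ν ⟨(t : Ω), _⟩
  have e : ν ⟨(t : Ω), hQr t.2⟩ = ((st⁻¹ : S) : Ω) := hνt
  rw [e]
  have h1 : st⁻¹ * sc = sc * st⁻¹ := by
    rw [inv_mul_eq_iff_eq_mul, ← mul_assoc, hcomm, mul_inv_cancel_right]
  have := congrArg (fun z : S => (z : Ω)) h1
  simpa using this

end Cfsg.Agent.Lib.Helper32
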