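import Cfsg.Agent.Lib.Helper32.PPowSatE

/-!
# The subsystem is saturated of `p`-power index (helper32, for S5113)
-/

set_option autoImplicit false

namespace Cfsg.Agent.Lib.Helper32

open Cfsg Cfsg.FusionSystem Cfsg.Agent.Lib

variable {Ω : Type*} [Group Ω] {S : Subgroup Ω} {G : Type*} [Group G] {ι : S →* G} {G₀ : Subgroup G}
  {F : FusionSystem S} {T : Subgroup Ω} {p : ℕ}

theorem exists_sys_conj_fullyNormalized [Finite S] [Fact p.Prime] (D : PPowData F T p ι G₀)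
    (hne : ∃ c₀ : S, (c₀ : Ω) ∉ T) {P : Subgroup Ω} (hPT : P ≤ T) :
    ∃ Q, D.sys.IsConj P Q ∧ F.IsFullyNormalized Q := by
  obtain ⟨Q, ⟨φ, hφ, hr⟩, hQ⟩ := Helper85.exists_fullyNormalized_conj F (hPT.trans D.le)
  obtain ⟨g, hg⟩ := D.real _ _ hφ
  by_cases hgG : g ∈ G₀
  · exact ⟨Q, ⟨φ, D.mem_sys_of hφ hPT hgG hg, hr⟩, hQ⟩
  · obtain ⟨c₀, hc₀⟩ := hne
    obtain ⟨k, hk⟩ := D.adjust g c₀ hc₀
    have hQS : Q ≤ S := hQ.1
    have hs : (c₀ : Ω) ^ k ∈ S := S.pow_mem c₀.2 k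
    have hω : conjHom (normalizerIn S Q) ((c₀ : Ω) ^ k) ∈ F.Hom (normalizerIn S Q) :=
      F.conj_mem (Helper87.normalizerIn_le S Q) hs
    obtain ⟨hQ', -, -⟩ := Helper86.SatCrit.transfer_fullyNormalized (p := p) F hQ hω
    have hφS : ∀ x : P, φ x ∈ S := fun x => Helper85.apply_mem_of_mem_Hom F hφ x
    let φ' : P →* Ω := (MulAut.conj ((c₀ : Ω) ^ k)).toMonoidHom.comp φ
    have hφ' : φ' ∈ F.Hom P := Helper85.comp_mem' F hφ (F.conj_mem le_rfl hs) hφS φ' (fun x => rfl)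
    have hφ'r : RealizedBy ι φ' (ι c₀ ^ k * g) := by
      intro x hx hφ'x
      have h1 := hg x hx (hφS x)
      rw [mul_inv_rev, ← map_pow]
      calc ι ⟨φ' x, hφ'x⟩ = ι (c₀ ^ k) * ι ⟨φ x, hφS x⟩ * (ι (c₀ ^ k))⁻¹ := by
            rw [← map_inv, ← map_mul, ← map_mul]
            congr 1
        _ = _ := by rw [h1]; simp only [mul_assoc]
    refine ⟨Helper86.SatCrit.img (conjHom (normalizerIn S Q) ((c₀ : Ω) ^ k)) Q,
      ⟨φ', D.mem_sys_of hφ' hPT hk hφ'r, ?_⟩, hQ'⟩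
    ext x
    rw [Helper86.SatCrit.mem_img]
    constructor
    · rintro ⟨z, rfl⟩
      have hz : φ z ∈ Q := hr ▸ ⟨z, rfl⟩
      exact ⟨⟨φ z, Helper87.le_normalizerIn hQS hz⟩, hz, rfl⟩
    · rintro ⟨y, hy, rfl⟩
      have hy' : (y : Ω) ∈ φ.range := hr ▸ hy
      obtain ⟨z, hz⟩ := hy'
      refine ⟨z, ?_⟩
      change (c₀ : Ω) ^ k * φ z * ((c₀ : Ω) ^ k)⁻¹ = (c₀ : Ω) ^ k * (y : Ω) * ((c₀ : Ω) ^ k)⁻¹
      rw [hz]

theorem sys_isSaturated [Finite S] [Fact p.Prime] (hS : IsPGroup p S) (hF : F.IsSaturated p)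
    (D : PPowData F T p ι G₀) (hne : ∃ c₀ : S, (c₀ : Ω) ∉ T) : D.sys.IsSaturated p := by
  intro P hPT
  obtain ⟨Q, hPQ, hQ⟩ := exists_sys_conj_fullyNormalized D hne hPT
  have hQT : Q ≤ T := Helper85.isConj_le_right D.sys hPQ
  exact ⟨Q, hPQ, sys_isFullyAutomized hS hF D hQT hQ, sys_isReceptive hS hF D hQT hQ⟩

theorem sys_hasPPowerIndexIn [Finite S] [Fact p.Prime] (D : PPowData F T p ι G₀)
    (hhyp : F.hyperfocalSubgroup p ≤ T) : D.sys.HasPPowerIndexIn F p := by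
  refine ⟨fun _ _ h => h.1, hhyp, fun P hPT => ?_⟩
  have hPS : P ≤ S := hPT.trans D.le
  have hfinP : Finite P := Helper87.finite_of_le hPS
  have hfinA : Finite (MulAut P) :=
    Finite.of_injective (fun α : MulAut P => (α : P → P)) DFunLike.coe_injective
  unfold pResidual
  rw [MonoidHom.map_closure, Subgroup.closure_le]
  rintro _ ⟨α, hα, rfl⟩
  change ((α : F.autGroup P) : MulAut P) ∈ D.sys.autGroup P
  have hα' : (orderOf ((α : F.autGroup P) : MulAut P)).Coprime p := by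
    rw [Subgroup.orderOf_coe]; exact hα
  set a : MulAut P := ((α : F.autGroup P) : MulAut P) with ha
  have haF : a ∈ F.autGroup P := α.2
  obtain ⟨g, hg⟩ := exists_autReal_of_mem D hPS haF
  have key : ∃ g₀ ∈ G₀, AutReal ι hPS a g₀ := by
    by_cases ho : orderOf a = 1
    · have h1 : a = 1 := orderOf_eq_one_iff.1 ho
      refine ⟨1, G₀.one_mem, ?_⟩
      rw [h1]
      intro x
      simp
    · have ho1 : 1 < orderOf a := by
        have : 0 < orderOf a := orderOf_pos a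
        omega
      obtain ⟨m, -, hm⟩ := Nat.exists_mul_mod_eq_one_of_coprime hα'.symm ho1
      refine ⟨g ^ (p * m), ?_, ?_⟩
      · rw [pow_mul]
        exact G₀.pow_mem (D.pow_mem g) m
      · have h2 := hg.pow (p * m)
        rwa [← pow_mod_orderOf, hm, pow_one] at h2
  obtain ⟨g₀, hg₀, hr⟩ := key
  rw [Helper85.mem_autGroup_iff D.sys hPT]
  exact D.mem_sys_of ((Helper85.mem_autGroup_iff F hPS a).1 haF) hPT hg₀ ((autReal_iff hPS a g₀).1 hr)

end Cfsg.Agent.Lib.Helper32
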