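import Mathlib

/-!
# A cycle lemma for homomorphisms into groups of exponent `p`

Pure group theory used for the transfer computation on centralizers (helper32, for S5113).
-/

set_option autoImplicit false

namespace Cfsg.Agent.Lib.Helper32

section FC

variable {G : Type*} [Group G] {A : Type*} [CommGroup A]

theorem comm_pow_of_comm {x f : G} (h : x * f = f * x) (n : ℕ) : x * f ^ n = f ^ n * x :=
  ((Commute.pow_right (show Commute x f from h) n)).eq

theorem inv_pow_mul_pow_of_comm {x f : G} (h : x * f = f * x) (d n : ℕ) :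
    ((f ^ d)⁻¹ * x) ^ n = (f ^ (d * n))⁻¹ * x ^ n := by
  have hc : Commute ((f ^ d)⁻¹) x := ((Commute.pow_right (show Commute x f from h) d).symm).inv_left
  rw [hc.mul_pow, inv_pow, ← pow_mul]

/-- **Cycle lemma.** -/
theorem hom_pow_eq_one_of_cycle {K : Subgroup G} (χ : K →* A) {p : ℕ} [hp : Fact p.Prime]
    (hA : ∀ a : A, a ^ p = 1) {Q : Subgroup G} (hQ : IsPGroup p Q) {f : G}
    (hf : ∀ x ∈ Q, x * f = f * x) {k : ℕ} (hk0 : 0 < k) (hk : f ^ k ∈ K)
    (hkmin : ∀ j, 0 < j → j < k → f ^ j ∉ K)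
    (hcyc : ∀ x ∈ Q, ∃ j : ℤ, (f ^ j)⁻¹ * x ∈ K)
    (h1 : ∀ x ∈ Q, ∀ hx : x ∈ K, χ ⟨x, hx⟩ = 1)
    (h2 : Q ≤ K → ∀ c : G, (∀ x ∈ Q, x * c = c * x) → ∀ hc : c ∈ K, χ ⟨c, hc⟩ = 1) :
    χ ⟨f ^ k, hk⟩ = 1 := by
  classical
  -- divisibility
  have hdiv : ∀ j : ℕ, f ^ j ∈ K → k ∣ j := by
    intro j hj
    by_contra hnd
    have hr0 : 0 < j % k := Nat.pos_of_ne_zero (fun h0 => hnd (Nat.dvd_of_mod_eq_zero h0))
    have hrk : j % k < k := Nat.mod_lt _ hk0
    apply hkmin _ hr0 hrk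
    have e : f ^ (j % k) = f ^ j * ((f ^ k) ^ (j / k))⁻¹ := by
      rw [eq_mul_inv_iff_mul_eq, ← pow_mul, ← pow_add, Nat.mod_add_div]
    rw [e]
    exact K.mul_mem hj (K.inv_mem (K.pow_mem hk _))
  -- natural exponents
  have hcycN : ∀ x ∈ Q, ∃ r : ℕ, r < k ∧ (f ^ r)⁻¹ * x ∈ K := by
    intro x hx
    obtain ⟨j, hj⟩ := hcyc x hx
    have hkZ : (0 : ℤ) < (k : ℤ) := by exact_mod_cast hk0
    refine ⟨(j % (k : ℤ)).toNat, ?_, ?_⟩
    · have := Int.emod_lt_of_pos j hkZ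
      have h0 := Int.emod_nonneg j (ne_of_gt hkZ)
      omega
    · have h0 := Int.emod_nonneg j (ne_of_gt hkZ)
      have e1 : f ^ ((j % (k : ℤ)).toNat) = f ^ (j % (k : ℤ)) := by
        rw [← zpow_natCast, Int.toNat_of_nonneg h0]
      have e2 : f ^ j = f ^ (j % (k : ℤ)) * (f ^ k) ^ (j / (k : ℤ)) := by
        rw [← zpow_natCast f k, ← zpow_mul, ← zpow_add, Int.emod_add_mul_ediv]
      have e3 : (f ^ ((j % (k : ℤ)).toNat))⁻¹ * x = (f ^ k) ^ (j / (k : ℤ)) * ((f ^ j)⁻¹ * x) := by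
        rw [e1, e2, mul_inv_rev, ← mul_assoc, ← mul_assoc, mul_inv_cancel, one_mul]
      rw [e3]
      exact K.mul_mem (K.zpow_mem hk _) hj
  -- minimal `d`
  have hex : ∃ d : ℕ, 0 < d ∧ ∃ x ∈ Q, (f ^ d)⁻¹ * x ∈ K :=
    ⟨k, hk0, 1, Q.one_mem, by rw [mul_one]; exact K.inv_mem hk⟩
  obtain ⟨hd0, x₁, hx₁Q, hz⟩ := Nat.find_spec hex
  have hdmin : ∀ r : ℕ, 0 < r → r < Nat.find hex → ∀ x ∈ Q, (f ^ r)⁻¹ * x ∉ K := by
    intro r hr0 hr x hx hmem
    exact Nat.find_min hex hr ⟨hr0, x, hx, hmem⟩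
  set d := Nat.find hex with hd
  have hfx : x₁ * f = f * x₁ := hf x₁ hx₁Q
  have hzn : ∀ n : ℕ, (f ^ (d * n))⁻¹ * x₁ ^ n ∈ K := by
    intro n
    rw [← inv_pow_mul_pow_of_comm hfx]
    exact K.pow_mem hz n
  -- `d ∣ k`
  have hdk : d ∣ k := by
    by_contra hnd
    have hr0 : 0 < k % d := Nat.pos_of_ne_zero (fun h0 => hnd (Nat.dvd_of_mod_eq_zero h0))
    have hrd : k % d < d := Nat.mod_lt _ hd0
    apply hdmin _ hr0 hrd ((x₁ ^ (k / d))⁻¹) (Q.inv_mem (Q.pow_mem hx₁Q _))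
    have hc : Commute (f ^ (d * (k / d))) (x₁ ^ (k / d)) :=
      ((Commute.pow_right (show Commute x₁ f from hfx) _).symm).pow_right _
    have hcf : Commute (f ^ (d * (k / d))) ((f ^ (k % d))⁻¹) :=
      ((Commute.refl f).pow_pow _ _).inv_right
    have hcu : Commute (f ^ (d * (k / d))) ((f ^ (k % d))⁻¹ * (x₁ ^ (k / d))⁻¹) :=
      hcf.mul_right hc.inv_right
    have e : (f ^ (k % d))⁻¹ * (x₁ ^ (k / d))⁻¹ =
        (f ^ k)⁻¹ * ((f ^ (d * (k / d)))⁻¹ * x₁ ^ (k / d))⁻¹ := by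
      have e1 : f ^ k = f ^ (k % d) * f ^ (d * (k / d)) := by
        rw [← pow_add, Nat.mod_add_div]
      rw [mul_inv_rev, inv_inv, e1, mul_inv_rev, mul_assoc, ← mul_assoc _ _ (f ^ (d * (k / d))),
        ← hcu.eq, inv_mul_cancel_left]
    rw [e]
    exact K.mul_mem (K.inv_mem hk) (K.inv_mem (hzn _))
  obtain ⟨n, hn⟩ := hdk
  have hn0 : 0 < n := by
    rcases Nat.eq_zero_or_pos n with h0 | h0
    · rw [h0, mul_zero] at hn; omega
    · exact h0
  -- `x₁ ^ n ∈ K`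
  have hznK := hzn n
  rw [← hn] at hznK
  have hx₁n : x₁ ^ n ∈ K := by
    have := K.mul_mem hk hznK
    rwa [mul_inv_cancel_left] at this
  have hχ1 : χ ⟨x₁ ^ n, hx₁n⟩ = 1 := h1 _ (Q.pow_mem hx₁Q n) hx₁n
  -- `χ z ^ n = (χ (f ^ k))⁻¹`
  have hχz : χ ⟨(f ^ d)⁻¹ * x₁, hz⟩ ^ n = (χ ⟨f ^ k, hk⟩)⁻¹ := by
    rw [← map_pow]
    have e : (⟨(f ^ d)⁻¹ * x₁, hz⟩ : K) ^ n = (⟨f ^ k, hk⟩ : K)⁻¹ * ⟨x₁ ^ n, hx₁n⟩ := by
      apply Subtype.ext
      rw [Subgroup.coe_pow, Subgroup.coe_mul, Subgroup.coe_inv]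
      change ((f ^ d)⁻¹ * x₁) ^ n = (f ^ k)⁻¹ * x₁ ^ n
      rw [inv_pow_mul_pow_of_comm hfx, ← hn]
    rw [e, map_mul, map_inv, hχ1, mul_one]
  by_cases hpn : p ∣ n
  · obtain ⟨m, hm⟩ := hpn
    rw [hm, pow_mul, hA, one_pow] at hχz
    exact inv_eq_one.1 hχz.symm
  · -- `n = 1`
    obtain ⟨e, he⟩ := hQ ⟨x₁, hx₁Q⟩
    have he' : x₁ ^ p ^ e = 1 := by
      have := congrArg Subtype.val he
      simpa using this
    have h3 := hzn (p ^ e)
    rw [he', mul_one] at h3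
    have h4 : f ^ (d * p ^ e) ∈ K := by
      have := K.inv_mem h3
      rwa [inv_inv] at this
    have h5 := hdiv _ h4
    rw [hn] at h5
    have h6 : n ∣ p ^ e := Nat.dvd_of_mul_dvd_mul_left hd0 h5
    obtain ⟨i, -, hi⟩ := (Nat.dvd_prime_pow hp.out).1 h6
    have hi0 : i = 0 := by
      rcases Nat.eq_zero_or_pos i with h0 | h0
      · exact h0
      · exact absurd (hi ▸ dvd_pow_self p (Nat.pos_iff_ne_zero.1 h0)) hpn
    rw [hi0, pow_zero] at hi
    rw [hi, mul_one] at hn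
    -- `Q ≤ K`
    have hQK : Q ≤ K := by
      intro x hx
      obtain ⟨r, hrk, hr⟩ := hcycN x hx
      rcases Nat.eq_zero_or_pos r with h0 | h0
      · rw [h0, pow_zero, inv_one, one_mul] at hr
        exact hr
      · exact absurd hr (hdmin r h0 (hn ▸ hrk) x hx)
    exact h2 hQK _ (fun x hx => comm_pow_of_comm (hf x hx) k) hk

end FC

section Orbits

open MulAction

/-- Products of an invariant function over a set acted on by a `p`-group, with values of exponent `p`, only see the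
fixed points. -/
theorem prod_eq_one_of_pgroup_action {Q : Type*} [Group Q] {p : ℕ} [hp : Fact p.Prime] (hQ : IsPGroup p Q)
    {C : Type*} [Fintype C] [MulAction Q C] {A : Type*} [CommGroup A] (hA : ∀ a : A, a ^ p = 1)
    (Φ : C → A) (hinv : ∀ (x : Q) (q : C), Φ (x • q) = Φ q)
    (hfix : ∀ q : C, (∀ x : Q, x • q = q) → Φ q = 1) : ∏ q, Φ q = 1 := by
  classical
  have : Fintype (Quotient (orbitRel Q C)) := Fintype.ofFinite _
  have : ∀ ω : Quotient (orbitRel Q C), Fintype (orbit Q ω.out) := fun ω => Fintype.ofFinite _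
  have h1 : ∏ q, Φ q = ∏ x : (Σ ω : Quotient (orbitRel Q C), orbit Q ω.out), Φ (x.2 : C) := by
    refine (Fintype.prod_equiv (selfEquivSigmaOrbits Q C).symm _ _ (fun x => ?_)).symm
    rfl
  rw [h1, Fintype.prod_sigma]
  apply Finset.prod_eq_one
  intro ω _
  have h2 : ∀ y : orbit Q ω.out, Φ (y : C) = Φ ω.out := by
    rintro ⟨y, hy⟩
    obtain ⟨x, rfl⟩ := hy
    exact hinv x _
  rw [Finset.prod_congr rfl (fun y _ => h2 y), Finset.prod_const, Finset.card_univ]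
  obtain ⟨n, hn⟩ := hQ.card_orbit (ω.out : C)
  rw [← Nat.card_eq_fintype_card, hn]
  rcases Nat.eq_zero_or_pos n with h0 | h0
  · rw [h0, pow_zero, pow_one]
    apply hfix
    intro x
    have hsub : Subsingleton (orbit Q (ω.out : C)) := by
      rw [← Finite.card_le_one_iff_subsingleton, hn, h0, pow_zero]
    have := Subsingleton.elim (⟨x • ω.out, mem_orbit _ x⟩ : orbit Q (ω.out : C)) ⟨ω.out, mem_orbit_self _⟩
    exact congrArg Subtype.val this
  · obtain ⟨m, rfl⟩ : ∃ m, n = m + 1 := ⟨n - 1, by omega⟩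
    rw [pow_succ', pow_mul, hA, one_pow]

end Orbits

section Transfer

open MulAction Function

variable {G : Type*} [Group G] {H : Subgroup G} {A : Type*} [CommGroup A]

theorem conj_pow_minimalPeriod_mem (H : Subgroup G) (f g : G) :
    g⁻¹ * f ^ minimalPeriod (f • ·) (g : G ⧸ H) * g ∈ H := by
  have h1 : f ^ minimalPeriod (f • ·) (g : G ⧸ H) • (g : G ⧸ H) = (g : G ⧸ H) :=
    pow_smul_eq_iff_minimalPeriod_dvd.2 dvd_rfl
  have h2 : ((f ^ minimalPeriod (f • ·) (g : G ⧸ H) * g : G) : G ⧸ H) = (g : G ⧸ H) := h1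
  have h3 := QuotientGroup.eq.1 h2.symm
  rwa [← mul_assoc] at h3

/-- the value of the cycle through `g H` -/
noncomputable def cycVal (ϕ : H →* A) (f g : G) : A :=
  ϕ ⟨g⁻¹ * f ^ minimalPeriod (f • ·) (g : G ⧸ H) * g, conj_pow_minimalPeriod_mem H f g⟩

theorem cycVal_eq (ϕ : H →* A) (f g : G) (k : ℕ) (hk : k = minimalPeriod (f • ·) (g : G ⧸ H))
    (hmem : g⁻¹ * f ^ k * g ∈ H) : cycVal ϕ f g = ϕ ⟨g⁻¹ * f ^ k * g, hmem⟩ := by
  subst hk
  rfl

theorem cycVal_mul_right (ϕ : H →* A) (f g : G) {h : G} (hh : h ∈ H) :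
    cycVal ϕ f (g * h) = cycVal ϕ f g := by
  have hq : ((g * h : G) : G ⧸ H) = (g : G ⧸ H) := QuotientGroup.mk_mul_of_mem g hh
  have hk : minimalPeriod (f • ·) (g : G ⧸ H) = minimalPeriod (f • ·) ((g * h : G) : G ⧸ H) := by
    rw [hq]
  have hmem : (g * h)⁻¹ * f ^ minimalPeriod (f • ·) (g : G ⧸ H) * (g * h) ∈ H := by
    rw [hk]; exact conj_pow_minimalPeriod_mem H f (g * h)
  rw [cycVal_eq ϕ f (g * h) _ hk hmem]
  have e : (⟨(g * h)⁻¹ * f ^ minimalPeriod (f • ·) (g : G ⧸ H) * (g * h), hmem⟩ : H) =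
      (⟨h, hh⟩ : H)⁻¹ * ⟨g⁻¹ * f ^ minimalPeriod (f • ·) (g : G ⧸ H) * g,
        conj_pow_minimalPeriod_mem H f g⟩ * ⟨h, hh⟩ := by
    apply Subtype.ext
    simp only [Subgroup.coe_mul, Subgroup.coe_inv]
    group
  rw [e, map_mul, map_mul, map_inv, mul_comm, mul_inv_cancel_left]
  rfl

theorem cycVal_mul_left (ϕ : H →* A) {f x : G} (hx : x * f = f * x) (g : G) :
    cycVal ϕ f (x * g) = cycVal ϕ f g := by
  have hper : ∀ n : ℕ, f ^ n • ((x * g : G) : G ⧸ H) = ((x * g : G) : G ⧸ H) ↔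
      f ^ n • (g : G ⧸ H) = (g : G ⧸ H) := by
    intro n
    have e1 : f ^ n • ((x * g : G) : G ⧸ H) = x • (f ^ n • (g : G ⧸ H)) := by
      change (((f ^ n * (x * g) : G)) : G ⧸ H) = ((x * (f ^ n * g) : G) : G ⧸ H)
      rw [← mul_assoc, ← comm_pow_of_comm hx n, mul_assoc]
    have e2 : ((x * g : G) : G ⧸ H) = x • (g : G ⧸ H) := rfl
    rw [e1, e2]
    exact (MulAction.injective x).eq_iff
  have hk : minimalPeriod (f • ·) (g : G ⧸ H) = minimalPeriod (f • ·) ((x * g : G) : G ⧸ H) := by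
    apply Nat.dvd_antisymm
    · rw [← pow_smul_eq_iff_minimalPeriod_dvd, ← hper, pow_smul_eq_iff_minimalPeriod_dvd]
    · rw [← pow_smul_eq_iff_minimalPeriod_dvd, hper, pow_smul_eq_iff_minimalPeriod_dvd]
  have hmem : (x * g)⁻¹ * f ^ minimalPeriod (f • ·) (g : G ⧸ H) * (x * g) ∈ H := by
    rw [hk]; exact conj_pow_minimalPeriod_mem H f (x * g)
  rw [cycVal_eq ϕ f (x * g) _ hk hmem]
  unfold cycVal
  congr 1
  apply Subtype.ext
  change (x * g)⁻¹ * f ^ minimalPeriod (f • ·) (g : G ⧸ H) * (x * g) =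
    g⁻¹ * f ^ minimalPeriod (f • ·) (g : G ⧸ H) * g
  rw [mul_inv_rev, mul_assoc, mul_assoc, ← mul_assoc _ x g, ← comm_pow_of_comm hx, mul_assoc,
    inv_mul_cancel_left, mul_assoc]

/-- the factor of Mathlib's cycle formula for the transfer, computed from any representative of the cycle -/
theorem cycVal_of_mk_eq (ϕ : H →* A) (f : G) (q : Quotient (orbitRel (Subgroup.zpowers f) (G ⧸ H))) (g : G)
    (hg : (Quotient.mk'' (g : G ⧸ H) : Quotient (orbitRel (Subgroup.zpowers f) (G ⧸ H))) = q) :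
    ϕ ⟨q.out.out⁻¹ * f ^ minimalPeriod (f • ·) q.out * q.out.out,
      QuotientGroup.out_conj_pow_minimalPeriod_mem H f q.out⟩ = cycVal ϕ f g := by
  have hk : minimalPeriod (f • ·) q.out = minimalPeriod (f • ·) ((q.out.out : G) : G ⧸ H) := by
    rw [QuotientGroup.out_eq']
  rw [← cycVal_eq ϕ f q.out.out _ hk]
  -- relate `q.out.out` and `g`
  have h1 : (Quotient.mk'' q.out : Quotient (orbitRel (Subgroup.zpowers f) (G ⧸ H))) =
      Quotient.mk'' (g : G ⧸ H) := by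
    rw [hg]; exact Quotient.out_eq' q
  have h2 : q.out ∈ orbit (Subgroup.zpowers f) (g : G ⧸ H) := Quotient.exact' h1
  obtain ⟨⟨z, hz⟩, hzq⟩ := h2
  have h3 : ((z * g : G) : G ⧸ H) = ((q.out.out : G) : G ⧸ H) := by
    rw [QuotientGroup.out_eq']
    exact hzq
  have h4 := QuotientGroup.eq.1 h3
  have e : q.out.out = z * g * ((z * g)⁻¹ * q.out.out) := by
    rw [mul_inv_cancel_left]
  have hzf : z * f = f * z := by
    obtain ⟨j, rfl⟩ := Subgroup.mem_zpowers_iff.1 hz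
    exact ((Commute.refl f).zpow_left j).eq
  rw [e, cycVal_mul_right ϕ f (z * g) h4, cycVal_mul_left ϕ hzf]

/-- **The transfer on a centralizer.** -/
theorem transfer_eq_one_of_centralizes [H.FiniteIndex] (ϕ : H →* A) {p : ℕ} [hp : Fact p.Prime]
    (hA : ∀ a : A, a ^ p = 1) {Q : Subgroup G} (hQ : IsPGroup p Q) {f : G}
    (hf : ∀ x ∈ Q, x * f = f * x)
    (h1 : ∀ (g x : G), x ∈ Q → ∀ h : g⁻¹ * x * g ∈ H, ϕ ⟨_, h⟩ = 1)
    (h2 : ∀ g : G, (∀ x ∈ Q, g⁻¹ * x * g ∈ H) → ∀ c : G, (∀ x ∈ Q, x * c = c * x) →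
      ∀ h : g⁻¹ * c * g ∈ H, ϕ ⟨_, h⟩ = 1) :
    MonoidHom.transfer ϕ f = 1 := by
  classical
  let _ := H.fintypeQuotientOfFiniteIndex
  have : Fintype (Quotient (orbitRel (Subgroup.zpowers f) (G ⧸ H))) := Fintype.ofFinite _
  rw [MonoidHom.transfer_eq_prod_quotient_orbitRel_zpowers_quot]
  -- the action of `Q` on the cycles
  let act : MulAction Q (Quotient (orbitRel (Subgroup.zpowers f) (G ⧸ H))) :=
    { smul := fun x => Quotient.map' (fun y => (x : G) • y) (by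
        rintro y y' ⟨⟨z, hz⟩, rfl⟩
        refine ⟨⟨z, hz⟩, ?_⟩
        change z • ((x : G) • y') = (x : G) • (z • y')
        have hzf : (x : G) * z = z * (x : G) := by
          obtain ⟨j, rfl⟩ := Subgroup.mem_zpowers_iff.1 hz
          exact (Commute.zpow_right (show Commute (x : G) f from hf x x.2) j).eq
        rw [smul_smul, smul_smul, hzf])
      one_smul := by
        rintro ⟨y⟩
        change Quotient.mk'' (((1 : Q) : G) • y) = Quotient.mk'' y
        rw [Subgroup.coe_one, one_smul]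
      mul_smul := by
        rintro a b ⟨y⟩
        change Quotient.mk'' (((a * b : Q) : G) • y) = Quotient.mk'' ((a : G) • ((b : G) • y))
        rw [Subgroup.coe_mul, mul_smul] }
  have hsmul : ∀ (x : Q) (g : G),
      x • (Quotient.mk'' (g : G ⧸ H) : Quotient (orbitRel (Subgroup.zpowers f) (G ⧸ H))) =
        Quotient.mk'' (((x : G) * g : G) : G ⧸ H) := fun x g => rfl
  have hrep : ∀ q : Quotient (orbitRel (Subgroup.zpowers f) (G ⧸ H)),
      (Quotient.mk'' ((q.out.out : G) : G ⧸ H) : Quotient (orbitRel (Subgroup.zpowers f) (G ⧸ H))) = q := by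
    intro q
    rw [QuotientGroup.out_eq']
    exact Quotient.out_eq' q
  apply prod_eq_one_of_pgroup_action hQ hA
  · intro x q
    have e1 : x • q = Quotient.mk'' (((x : G) * q.out.out : G) : G ⧸ H) := by
      conv_lhs => rw [← hrep q]
      exact hsmul x _
    rw [cycVal_of_mk_eq ϕ f (x • q) ((x : G) * q.out.out) e1.symm, cycVal_of_mk_eq ϕ f q q.out.out (hrep q),
      cycVal_mul_left ϕ (hf x x.2)]
  · intro q hfixq
    rw [cycVal_of_mk_eq ϕ f q q.out.out (hrep q)]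
    set g := q.out.out with hgdef
    set k := minimalPeriod (f • ·) (g : G ⧸ H) with hkdef
    let θ : G →* G := (MulAut.conj g).symm.toMonoidHom
    have hθ : ∀ u : G, θ u = g⁻¹ * u * g := fun u => rfl
    let K : Subgroup G := H.comap θ
    let χ : K →* A := ϕ.comp (θ.subgroupComap H)
    have hχ : ∀ (u : G) (hu : u ∈ K), χ ⟨u, hu⟩ = ϕ ⟨g⁻¹ * u * g, hu⟩ := fun u hu => rfl
    have hkK : f ^ k ∈ K := conj_pow_minimalPeriod_mem H f g
    have hk0 : 0 < k := by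
      rw [hkdef, minimalPeriod_pos_iff_mem_periodicPts]
      have hfin : Finite (G ⧸ H) := Subgroup.finite_quotient_of_finiteIndex
      exact (MulAction.injective f).mem_periodicPts (g : G ⧸ H)
    have hmain : χ ⟨f ^ k, hkK⟩ = 1 := by
      apply hom_pow_eq_one_of_cycle χ hA hQ hf hk0 hkK
      · intro j hj0 hjk hjK
        have h3 : f ^ j • (g : G ⧸ H) = (g : G ⧸ H) := by
          change ((f ^ j * g : G) : G ⧸ H) = (g : G ⧸ H)
          rw [eq_comm, QuotientGroup.eq, ← mul_assoc]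
          exact hjK
        have := Nat.le_of_dvd hj0 (pow_smul_eq_iff_minimalPeriod_dvd.1 h3)
        omega
      · intro x hx
        have h3 := hfixq ⟨x, hx⟩
        rw [← hrep q, hsmul] at h3
        have h4 : ((x * g : G) : G ⧸ H) ∈ orbit (Subgroup.zpowers f) (g : G ⧸ H) := Quotient.exact' h3
        obtain ⟨⟨z, hz⟩, hzq⟩ := h4
        obtain ⟨j, rfl⟩ := Subgroup.mem_zpowers_iff.1 hz
        refine ⟨j, ?_⟩
        have h5 : ((f ^ j * g : G) : G ⧸ H) = ((x * g : G) : G ⧸ H) := hzq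
        have h6 := QuotientGroup.eq.1 h5
        change g⁻¹ * ((f ^ j)⁻¹ * x) * g ∈ H
        have e : g⁻¹ * ((f ^ j)⁻¹ * x) * g = (f ^ j * g)⁻¹ * (x * g) := by group
        rw [e]; exact h6
      · intro x hx hxK
        rw [hχ]
        exact h1 g x hx hxK
      · intro hQK c hc hcK
        rw [hχ]
        exact h2 g (fun x hx => hQK hx) c hc hcK
    rw [hχ] at hmain
    rw [cycVal_eq ϕ f g k hkdef hkK]
    exact hmain

end Transfer

end Cfsg.Agent.Lib.Helper32
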