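import Cfsg.Agent.Lib.Helper32.PPowBisetA
import Cfsg.Agent.Lib.Helper32.PPowTransferA
import Cfsg.Agent.Lib.Helper32.PPowSatF

/-!
# The realizing data from a characteristic biset (helper32, for S5113)
-/

set_option autoImplicit false

namespace Cfsg.Agent.Lib.Helper32

open Cfsg Cfsg.FusionSystem MulAction Cfsg.Agent.S5328 Cfsg.Agent.Lib Cfsg.Agent.Lib.Helper85

universe u

variable {Ω : Type u} [Group Ω] {S : Subgroup Ω}

theorem stronglyClosed_of_focal_le (F : FusionSystem S) {T : Subgroup Ω} (hTS : T ≤ S)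
    (hfoc : F.focalSubgroup ≤ T) : F.StronglyClosed T := by
  refine ⟨hTS, fun R hRT φ hφ x => ?_⟩
  have h1 : (x : Ω)⁻¹ * φ x ∈ F.focalSubgroup := Subgroup.subset_closure ⟨R, φ, x, hφ, rfl⟩
  have h2 := T.mul_mem (hRT x.2) (hfoc h1)
  rwa [mul_inv_cancel_left] at h2

theorem exists_pPowData [Finite S] (F : FusionSystem S) {p : ℕ} [hp : Fact p.Prime] (hS : IsPGroup p S)
    (hF : F.IsSaturated p) {T : Subgroup Ω} (hTS : T ≤ S) [hTn : (T.subgroupOf S).Normal]
    (hidx : (T.subgroupOf S).index = p) (hfoc : F.focalSubgroup ≤ T) :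
    ∃ (G : Type u) (_ : Group G) (ι : S →* G) (G₀ : Subgroup G), PPowData F T p ι G₀ := by
  classical
  obtain ⟨X, hXfin, hXact, hstab, hst, m, hm, hpm⟩ := exists_char_biset F hS hF
  have hcardR : Nat.card (Quotient (rightSetoid S X)) = m := by
    have := card_eq_card_rightQuotient_mul F hstab
    rw [hm] at this
    exact (Nat.eq_of_mul_eq_mul_right Nat.card_pos this).symm
  have hm0 : m ≠ 0 := by
    rintro rfl
    exact hpm (dvd_zero p)
  have hne : Nonempty X := by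
    have : 0 < Nat.card X := by
      rw [hm]
      exact Nat.mul_pos (Nat.pos_of_ne_zero hm0) Nat.card_pos
    exact (Nat.card_pos_iff.1 this).1
  obtain ⟨r₀, hr₀⟩ := exists_stabilizer_index_coprime (G := biG S X)
    (α := Quotient (rightSetoid S X)) p (by rw [hcardR]; exact hpm)
  obtain ⟨x₀, rfl⟩ := Quotient.exists_rep r₀
  obtain ⟨ϕ, hϕ⟩ := exists_orbit_hom F hstab x₀
  have hclosed : F.StronglyClosed T := stronglyClosed_of_focal_le F hTS hfoc
  -- the quotient of order `p`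
  have hcardA : Nat.card (S ⧸ T.subgroupOf S) = p := by
    rw [← Subgroup.index_eq_card, hidx]
  have hcyc : IsCyclic (S ⧸ T.subgroupOf S) := isCyclic_of_prime_card hcardA
  let _ : CommGroup (S ⧸ T.subgroupOf S) := IsCyclic.commGroup
  have hA : ∀ a : S ⧸ T.subgroupOf S, a ^ p = 1 := by
    intro a
    rw [← hcardA]
    exact pow_card_eq_one'
  let π : S →* S ⧸ T.subgroupOf S := QuotientGroup.mk' (T.subgroupOf S)
  have hπ1 : ∀ s : S, π s = 1 ↔ (s : Ω) ∈ T := by
    intro s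
    change (QuotientGroup.mk s : S ⧸ T.subgroupOf S) = 1 ↔ _
    rw [QuotientGroup.eq_one_iff, Subgroup.mem_subgroupOf]
  have hπeq : ∀ (R : Subgroup Ω) (ν : R →* Ω), ν ∈ F.Hom R → ∀ (t : S) (ht : (t : Ω) ∈ R)
      (hν : ν ⟨t, ht⟩ ∈ S), π ⟨ν ⟨t, ht⟩, hν⟩ = π t := by
    intro R ν hν t ht hνS
    change (QuotientGroup.mk _ : S ⧸ T.subgroupOf S) = QuotientGroup.mk _
    rw [eq_comm, QuotientGroup.eq, Subgroup.mem_subgroupOf]
    apply hfoc
    exact Subgroup.subset_closure ⟨R, ν, ⟨t, ht⟩, hν, rfl⟩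
  let ϕ' : stabilizer (biG S X) (Quotient.mk (rightSetoid S X) x₀) →* S ⧸ T.subgroupOf S :=
    (Abelianization.lift π).comp ϕ
  have hϕ'of : ∀ (g : stabilizer (biG S X) (Quotient.mk (rightSetoid S X) x₀)) (s : S),
      ϕ g = Abelianization.of s → ϕ' g = π s := by
    intro g s h
    change Abelianization.lift π (ϕ g) = π s
    rw [h, Abelianization.lift_apply_of]
  -- the value of `ϕ'` on conjugates of elements of `S`
  have hpark : ∀ (g₀ : biG S X) (t : S)
      (hk : g₀⁻¹ * biι S X t * g₀ ∈ stabilizer (biG S X) (Quotient.mk (rightSetoid S X) x₀)),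
      ϕ' ⟨_, hk⟩ = (π t)⁻¹ := by
    intro g₀ t hk
    obtain ⟨R, ν, hν, h⟩ := park_key F hstab x₀ ϕ hϕ g₀
    obtain ⟨ht, hνS, h1⟩ := h t hk
    have h2 : ϕ ⟨_, hk⟩ = Abelianization.of (⟨ν ⟨t, ht⟩, hνS⟩ : S)⁻¹ := by
      rw [map_inv, ← h1, inv_inv]
    rw [hϕ'of _ _ h2, map_inv, hπeq R ν hν t ht hνS]
  let μ : biG S X →* S ⧸ T.subgroupOf S := MonoidHom.transfer ϕ'
  have hμι : ∀ s : S, μ (biι S X s) =
      ((π s)⁻¹) ^ (stabilizer (biG S X) (Quotient.mk (rightSetoid S X) x₀)).index := by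
    intro s
    apply transfer_eq_pow_of_forall
    intro k g₀ hk
    have e : g₀⁻¹ * biι S X (s ^ k) * g₀ = g₀⁻¹ * (biι S X s) ^ k * g₀ := by rw [map_pow]
    have hk' : g₀⁻¹ * biι S X (s ^ k) * g₀ ∈
        stabilizer (biG S X) (Quotient.mk (rightSetoid S X) x₀) := by rw [e]; exact hk
    have h2 : ϕ' ⟨_, hk⟩ = ϕ' ⟨_, hk'⟩ := by
      congr 1
      exact Subtype.ext e.symm
    rw [h2, hpark g₀ (s ^ k) hk', map_pow, inv_pow]
  have hμ1 : ∀ s : S, μ (biι S X s) = 1 ↔ (s : Ω) ∈ T := by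
    intro s
    rw [hμι, ← hπ1]
    constructor
    · intro h
      have h1 : orderOf ((π s)⁻¹) ∣ (stabilizer (biG S X) (Quotient.mk (rightSetoid S X) x₀)).index :=
        orderOf_dvd_of_pow_eq_one h
      have h2 : orderOf ((π s)⁻¹) ∣ p := orderOf_dvd_of_pow_eq_one (hA _)
      have h3 : orderOf ((π s)⁻¹) = 1 := by
        rcases (Nat.dvd_prime hp.out).1 h2 with h4 | h4
        · exact h4
        · exact absurd (h4 ▸ h1) hr₀
      have := orderOf_eq_one_iff.1 h3
      exact inv_eq_one.1 this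
    · intro h
      rw [h, inv_one, one_pow]
  refine ⟨biG S X, inferInstance, biι S X, μ.ker, ?_⟩
  refine
    { le := hTS
      closed := hclosed
      inj := biι_injective F hstab
      normal := MonoidHom.normal_ker μ
      real := ?_
      mem_iff := fun s => by rw [MonoidHom.mem_ker]; exact hμ1 s
      pow_mem := fun g => by rw [MonoidHom.mem_ker, map_pow]; exact hA _
      adjust := ?_
      club := ?_ }
  · intro P φ hφ
    obtain ⟨g, hg⟩ := exists_conj_of_mem_stable F hstab hst (F.le_of_mem hφ).1 φ (F.le_of_mem hφ).2 hφ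
    exact ⟨g, fun x hx hφx => hg x⟩
  · intro g c hcT
    have hne1 : μ (biι S X c) ≠ 1 := fun h => hcT ((hμ1 c).1 h)
    have htop := zpowers_eq_top_of_prime_card hcardA hne1
    have hmem : (μ g)⁻¹ ∈ Subgroup.zpowers (μ (biι S X c)) := by rw [htop]; exact Subgroup.mem_top _
    have hfinA : Finite (S ⧸ T.subgroupOf S) := Nat.finite_of_card_ne_zero (by rw [hcardA]; exact hp.out.ne_zero)
    rw [← mem_powers_iff_mem_zpowers] at hmem
    obtain ⟨k, hk⟩ := hmem
    refine ⟨k, ?_⟩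
    rw [MonoidHom.mem_ker, map_mul, map_pow]
    change μ (biι S X c) ^ k = (μ g)⁻¹ at hk
    rw [hk, inv_mul_cancel]
  · intro Q hQT hgood f hf
    rw [MonoidHom.mem_ker]
    have hQS : Q ≤ S := hQT.trans hTS
    have hQp : IsPGroup p ((Q.subgroupOf S).map (biι S X)) := (hS.to_subgroup (Q.subgroupOf S)).map _
    apply transfer_eq_one_of_centralizes ϕ' hA hQp (f := f)
    · rintro _ ⟨t, ht, rfl⟩
      exact (hf t ht).symm
    · rintro g _ ⟨t, ht, rfl⟩ h
      rw [hpark g t h, inv_eq_one, hπ1]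
      exact hQT ht
    · intro g hg c hc h
      obtain ⟨ν, s, hν, hs, hϕs⟩ := cent_key F hstab x₀ ϕ hϕ hQS g
        (fun t ht => hg _ ⟨t, ht, rfl⟩) c (fun t ht => hc _ ⟨t, ht, rfl⟩) h
      rw [hϕ'of _ _ hϕs, hπ1]
      exact hgood ν hν hs

end Cfsg.Agent.Lib.Helper32
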