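import Cfsg.Agent.Lib.Helper85.FusionRS
import Cfsg.Agent.Lib.Helper87.FusionFully
import Cfsg.Agent.Lib.Helper86.SatCritPrep

/-!
# Subsystems cut out by a subgroup of a realizing group (helper32, for S5113)

`F` is a fusion system over `S` all of whose maps are conjugations in a group `G` (through `ι : S →* G`), `G₀ ≤ G` a
subgroup and `T ≤ S` with `ι⁻¹(G₀) = T`.  The maps of `F` between subgroups of `T` realized by elements of `G₀` form a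
fusion system over `T`.
-/

set_option autoImplicit false

namespace Cfsg.Agent.Lib.Helper32

open Cfsg Cfsg.FusionSystem Cfsg.Agent.Lib

variable {Ω : Type*} [Group Ω] {S : Subgroup Ω}

/-- `φ` is realized by conjugation by `g` -/
def RealizedBy {G : Type*} [Group G] (ι : S →* G) {P : Subgroup Ω} (φ : P →* Ω) (g : G) : Prop :=
  ∀ (x : P) (hx : (x : Ω) ∈ S) (hφx : φ x ∈ S), ι ⟨φ x, hφx⟩ = g * ι ⟨x, hx⟩ * g⁻¹

/-- the data of a realizing group with a distinguished subgroup -/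
structure PPowData (F : FusionSystem S) (T : Subgroup Ω) (p : ℕ) {G : Type*} [Group G] (ι : S →* G)
    (G₀ : Subgroup G) : Prop where
  le : T ≤ S
  closed : F.StronglyClosed T
  inj : Function.Injective ι
  normal : G₀.Normal
  real : ∀ (P : Subgroup Ω) (φ : P →* Ω), φ ∈ F.Hom P → ∃ g : G, RealizedBy ι φ g
  mem_iff : ∀ s : S, ι s ∈ G₀ ↔ (s : Ω) ∈ T
  pow_mem : ∀ g : G, g ^ p ∈ G₀
  adjust : ∀ (g : G) (c : S), (c : Ω) ∉ T → ∃ k : ℕ, ι c ^ k * g ∈ G₀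
  club : ∀ Q : Subgroup Ω, Q ≤ T → (∀ ψ ∈ F.Hom Q, centralizerIn S ψ.range ≤ T) →
    ∀ f : G, (∀ x : S, (x : Ω) ∈ Q → f * ι x = ι x * f) → f ∈ G₀

section Sys

variable {G : Type*} [Group G] {ι : S →* G} {G₀ : Subgroup G}

/-- the subsystem over `T` of the maps realized by elements of `G₀` -/
def subSys (F : FusionSystem S) (T : Subgroup Ω) (hTS : T ≤ S) (ι : S →* G) (G₀ : Subgroup G)
    (hT : ∀ s : S, (s : Ω) ∈ T → ι s ∈ G₀) : FusionSystem T where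
  Hom P := {φ | φ ∈ F.Hom P ∧ P ≤ T ∧ (∀ x : P, φ x ∈ T) ∧ ∃ g ∈ G₀, RealizedBy ι φ g}
  le_of_mem h := ⟨h.2.1, h.2.2.1⟩
  injective_of_mem h := F.injective_of_mem h.1
  conj_mem := by
    intro P g hP hg
    refine ⟨F.conj_mem (hP.trans hTS) (hTS hg), hP, fun x => ?_, ι ⟨g, hTS hg⟩, hT _ hg, ?_⟩
    · exact T.mul_mem (T.mul_mem hg (hP x.2)) (T.inv_mem hg)
    · intro x hx hφx
      rw [← map_inv, ← map_mul, ← map_mul]
      rfl
  comp_mem := by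
    rintro P Q φ ψ ⟨hφ, hP, hφT, g, hg, hgφ⟩ ⟨hψ, hQ, hψT, k, hk, hkψ⟩ h
    refine ⟨F.comp_mem hφ hψ h, hP, fun x => hψT _, k * g, G₀.mul_mem hk hg, ?_⟩
    intro x hx hφx
    have h1 := hkψ ⟨φ x, h x⟩ (hTS (hφT x)) hφx
    have h2 := hgφ x hx (hTS (hφT x))
    change ι ⟨ψ ⟨φ x, h x⟩, _⟩ = _
    rw [h1, h2, mul_inv_rev]
    simp only [mul_assoc]
  inv_mem := by
    rintro P φ ⟨hφ, hP, hφT, g, hg, hgφ⟩
    obtain ⟨ψ, hψ, hψx⟩ := F.inv_mem hφ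
    refine ⟨ψ, ⟨hψ, ?_, ?_, g⁻¹, G₀.inv_mem hg, ?_⟩, hψx⟩
    · rintro _ ⟨x, rfl⟩
      exact hφT x
    · rintro ⟨_, x, rfl⟩
      rw [hψx]
      exact hP x.2
    · rintro ⟨_, x, rfl⟩ hx hφx
      have h2 := hgφ x (hTS (hP x.2)) hx
      have e : (⟨ψ ⟨φ x, ⟨x, rfl⟩⟩, hφx⟩ : S) = ⟨x, hTS (hP x.2)⟩ := Subtype.ext (hψx x)
      rw [e, h2, inv_inv]
      simp only [mul_assoc, inv_mul_cancel, mul_one, inv_mul_cancel_left]

theorem mem_subSys_iff (F : FusionSystem S) (T : Subgroup Ω) (hTS : T ≤ S) (ι : S →* G) (G₀ : Subgroup G)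
    (hT : ∀ s : S, (s : Ω) ∈ T → ι s ∈ G₀) {P : Subgroup Ω} (φ : P →* Ω) :
    φ ∈ (subSys F T hTS ι G₀ hT).Hom P ↔
      φ ∈ F.Hom P ∧ P ≤ T ∧ (∀ x : P, φ x ∈ T) ∧ ∃ g ∈ G₀, RealizedBy ι φ g := Iff.rfl

theorem subSys_isSubsystemOf (F : FusionSystem S) (T : Subgroup Ω) (hTS : T ≤ S) (ι : S →* G) (G₀ : Subgroup G)
    (hT : ∀ s : S, (s : Ω) ∈ T → ι s ∈ G₀) : (subSys F T hTS ι G₀ hT).IsSubsystemOf F :=
  fun _ _ h => h.1

end Sys

end Cfsg.Agent.Lib.Helper32
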