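import Cfsg.Agent.Lib.Helper32.PPowSatA

/-!
# Strongly closed subgroups and the good/bad dichotomy (helper32, for S5113)
-/

set_option autoImplicit false

namespace Cfsg.Agent.Lib.Helper32

open Cfsg Cfsg.FusionSystem Cfsg.Agent.Lib

variable {Ω : Type*} [Group Ω] {S : Subgroup Ω}

theorem closed_apply_mem (F : FusionSystem S) {T : Subgroup Ω} (hT : F.StronglyClosed T) {R : Subgroup Ω}
    {φ : R →* Ω} (hφ : φ ∈ F.Hom R) (x : R) (hx : (x : Ω) ∈ T) : φ x ∈ T := by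
  have hle : R ⊓ T ≤ R := inf_le_left
  have h1 := hT.2 (R ⊓ T) inf_le_right _ (Helper85.restrict_mem F hφ hle) ⟨x, ⟨x.2, hx⟩⟩
  exact h1

theorem closed_mem_of_apply_mem (F : FusionSystem S) {T : Subgroup Ω} (hT : F.StronglyClosed T) {R : Subgroup Ω}
    {φ : R →* Ω} (hφ : φ ∈ F.Hom R) (x : R) (hx : φ x ∈ T) : (x : Ω) ∈ T := by
  obtain ⟨ψ, hψ, hψx, -⟩ := Helper85.exists_inv F hφ rfl
  have h1 := closed_apply_mem F hT hψ ⟨φ x, ⟨x, rfl⟩⟩ hx
  have h2 := hψx x ⟨x, rfl⟩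
  rwa [h2] at h1

/-- all centralizers of conjugates of `Q` lie in `T` -/
def Good (F : FusionSystem S) (T Q : Subgroup Ω) : Prop :=
  ∀ ψ ∈ F.Hom Q, centralizerIn S ψ.range ≤ T

theorem good_of_isConj (F : FusionSystem S) {T P Q : Subgroup Ω} (h : F.IsConj P Q) (hQ : Good F T Q) :
    Good F T P := by
  obtain ⟨φ, hφ, hr⟩ := h
  obtain ⟨φ', hφ', hφ'x, hφ'r⟩ := Helper85.exists_inv F hφ hr
  intro ψ hψ
  have hP : ∀ y : Q, φ' y ∈ P := fun y => hφ'r ▸ ⟨y, rfl⟩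
  have hχ := F.comp_mem hφ' hψ hP
  have hrange : (ψ.comp (φ'.codRestrict P hP)).range = ψ.range := by
    apply le_antisymm
    · rintro _ ⟨y, rfl⟩
      exact ⟨_, rfl⟩
    · rintro _ ⟨x, rfl⟩
      have hx : φ x ∈ Q := hr ▸ ⟨x, rfl⟩
      refine ⟨⟨φ x, hx⟩, ?_⟩
      change ψ ⟨φ' ⟨φ x, hx⟩, _⟩ = ψ x
      congr 1
      exact Subtype.ext (hφ'x x hx)
  have := hQ _ hχ
  rwa [hrange] at this

/-- if `Q` is fully normalized and not good, some element of `C_S(Q)` lies outside `T` -/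
theorem exists_cent_not_mem [Finite S] {p : ℕ} [Fact p.Prime] (hS : IsPGroup p S) (F : FusionSystem S)
    (hF : F.IsSaturated p) {T : Subgroup Ω} (hT : F.StronglyClosed T) {Q : Subgroup Ω}
    (hQ : F.IsFullyNormalized Q) (hbad : ¬ Good F T Q) : ∃ c ∈ centralizerIn S Q, c ∉ T := by
  have hbad' : ∃ ψ ∈ F.Hom Q, ¬ centralizerIn S ψ.range ≤ T := by
    by_contra hcon
    apply hbad
    intro ψ hψ
    by_contra hle
    exact hcon ⟨ψ, hψ, hle⟩
  obtain ⟨ψ, hψ, hnot⟩ := hbad'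
  obtain ⟨c', hc', hc'T⟩ := SetLike.not_le_iff_exists.1 hnot
  obtain ⟨hQa, hQr⟩ := Helper87.fullyAutomized_receptive_of_fullyNormalized F hS hF hQ
  have hconj : F.IsConj ψ.range Q := Helper85.isConj_symm F ⟨ψ, hψ, rfl⟩
  obtain ⟨ω, e, hω, he, hωe⟩ := Helper87.exists_extension F hS hQa hQr hconj
  have hRS : ψ.range ≤ S := Helper85.range_le_of_mem_Hom F hψ
  have hc'N : c' ∈ normalizerIn S ψ.range := Helper87.centralizerIn_le_normalizerIn S _ hc'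
  refine ⟨ω ⟨c', hc'N⟩, Helper87.map_mem_centralizerIn F hRS hω e hωe ⟨c', hc'N⟩ hc', fun h => hc'T ?_⟩
  exact closed_mem_of_apply_mem F hT hω ⟨c', hc'N⟩ h

end Cfsg.Agent.Lib.Helper32
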