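import Cfsg.Agent.Lib.Helper32.PPowSatB

/-!
# Fully automized subgroups of the subsystem (helper32, for S5113)
-/

set_option autoImplicit false

namespace Cfsg.Agent.Lib.Helper32

open Cfsg Cfsg.FusionSystem Cfsg.Agent.Lib

variable {Ω : Type*} [Group Ω] {S : Subgroup Ω} {G : Type*} [Group G] {ι : S →* G} {G₀ : Subgroup G}
  {F : FusionSystem S} {T : Subgroup Ω} {p : ℕ}

/-- the subsystem attached to the data -/
def PPowData.sys (D : PPowData F T p ι G₀) : FusionSystem T :=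
  subSys F T D.le ι G₀ (fun s hs => (D.mem_iff s).2 hs)

theorem PPowData.mem_sys_iff (D : PPowData F T p ι G₀) {P : Subgroup Ω} (φ : P →* Ω) :
    φ ∈ D.sys.Hom P ↔ φ ∈ F.Hom P ∧ P ≤ T ∧ (∀ x : P, φ x ∈ T) ∧ ∃ g ∈ G₀, RealizedBy ι φ g := Iff.rfl

theorem PPowData.mem_sys_of (D : PPowData F T p ι G₀) {P : Subgroup Ω} {φ : P →* Ω} (hφ : φ ∈ F.Hom P)
    (hP : P ≤ T) {g : G} (hg : g ∈ G₀) (hr : RealizedBy ι φ g) : φ ∈ D.sys.Hom P :=
  ⟨hφ, hP, fun x => closed_apply_mem F D.closed hφ x (hP x.2), g, hg, hr⟩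

/-- two realizers of the same map differ by an element centralizing the source -/
theorem comm_of_realizedBy {P : Subgroup Ω} {φ : P →* Ω} (hφS : ∀ x : P, φ x ∈ S) {g g' : G}
    (hg : RealizedBy ι φ g) (hg' : RealizedBy ι φ g') (x : S) (hx : (x : Ω) ∈ P) :
    (g⁻¹ * g') * ι x = ι x * (g⁻¹ * g') := by
  have h1 := hg ⟨x, hx⟩ x.2 (hφS _)
  have h2 := hg' ⟨x, hx⟩ x.2 (hφS _)
  have h3 : g * ι x * g⁻¹ = g' * ι x * g'⁻¹ := h1.symm.trans h2
  have h4 : ι x = g⁻¹ * (g' * ι x * g'⁻¹) * g := by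
    rw [← h3]; group
  calc g⁻¹ * g' * ι x = (g⁻¹ * (g' * ι x * g'⁻¹) * g) * (g⁻¹ * g') := by group
    _ = ι x * (g⁻¹ * g') := by rw [← h4]

/-- realization of an automorphism, in a form convenient for products -/
def AutReal (ι : S →* G) {Q : Subgroup Ω} (hQ : Q ≤ S) (α : MulAut Q) (g : G) : Prop :=
  ∀ x : Q, ι (Subgroup.inclusion hQ (α x)) = g * ι (Subgroup.inclusion hQ x) * g⁻¹

theorem autReal_iff {Q : Subgroup Ω} (hQ : Q ≤ S) (α : MulAut Q) (g : G) :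
    AutReal ι hQ α g ↔ RealizedBy ι (Q.subtype.comp α.toMonoidHom) g :=
  ⟨fun h x _ _ => h x, fun h x => h x (hQ x.2) (hQ (α x).2)⟩

theorem AutReal.mul {Q : Subgroup Ω} {hQ : Q ≤ S} {α β : MulAut Q} {a b : G} (ha : AutReal ι hQ α a)
    (hb : AutReal ι hQ β b) : AutReal ι hQ (α * β) (a * b) := by
  intro x
  rw [MulAut.mul_apply, ha (β x), hb x, mul_inv_rev]
  simp only [mul_assoc]

theorem AutReal.inv {Q : Subgroup Ω} {hQ : Q ≤ S} {α : MulAut Q} {a : G} (ha : AutReal ι hQ α a) :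
    AutReal ι hQ α⁻¹ a⁻¹ := by
  intro x
  have h := ha (α⁻¹ x)
  rw [MulAut.apply_inv_self] at h
  rw [h, inv_inv]
  simp only [mul_assoc, inv_mul_cancel, mul_one, inv_mul_cancel_left]

theorem AutReal.pow {Q : Subgroup Ω} {hQ : Q ≤ S} {α : MulAut Q} {a : G} (ha : AutReal ι hQ α a) (n : ℕ) :
    AutReal ι hQ (α ^ n) (a ^ n) := by
  induction n with
  | zero =>
    intro x
    simp
  | succ n ih =>
    rw [pow_succ, pow_succ]
    exact ih.mul ha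

theorem exists_autReal_of_mem (D : PPowData F T p ι G₀) {Q : Subgroup Ω} (hQ : Q ≤ S) {α : MulAut Q}
    (hα : α ∈ F.autGroup Q) : ∃ g : G, AutReal ι hQ α g := by
  obtain ⟨g, hg⟩ := D.real _ _ ((Helper85.mem_autGroup_iff F hQ α).1 hα)
  exact ⟨g, (autReal_iff hQ α g).2 hg⟩

theorem exists_autReal_of_mem_sys (D : PPowData F T p ι G₀) {Q : Subgroup Ω} (hQ : Q ≤ T) {α : MulAut Q}
    (hα : α ∈ D.sys.autGroup Q) : ∃ g ∈ G₀, AutReal ι (hQ.trans D.le) α g := by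
  obtain ⟨-, -, -, g, hg, hr⟩ := (D.mem_sys_iff _).1 ((Helper85.mem_autGroup_iff D.sys hQ α).1 hα)
  exact ⟨g, hg, (autReal_iff _ α g).2 hr⟩

theorem sys_autGroup_le (D : PPowData F T p ι G₀) {Q : Subgroup Ω} (hQ : Q ≤ T) :
    D.sys.autGroup Q ≤ F.autGroup Q := by
  intro α hα
  rw [Helper85.mem_autGroup_iff F (hQ.trans D.le)]
  exact ((D.mem_sys_iff _).1 ((Helper85.mem_autGroup_iff D.sys hQ α).1 hα)).1

/-- the key property: conjugates of `Aut_E(Q)` meeting `Aut_S(Q)` land in `Aut_T(Q)` -/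
theorem conj_mem_autInducedBy [Finite S] [Fact p.Prime] (hS : IsPGroup p S) (hF : F.IsSaturated p)
    (D : PPowData F T p ι G₀) {Q : Subgroup Ω} (hQT : Q ≤ T) (hQ : F.IsFullyNormalized Q)
    {α β : MulAut Q} (hα : α ∈ F.autGroup Q) (hβ : β ∈ D.sys.autGroup Q)
    (hS' : α * β * α⁻¹ ∈ autInducedBy S Q) : α * β * α⁻¹ ∈ autInducedBy T Q := by
  have hQS : Q ≤ S := hQT.trans D.le
  obtain ⟨s, hs, hsγ⟩ := (Helper85.mem_autInducedBy_iff S Q _).1 hS'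
  by_cases hgood : Good F T Q
  · obtain ⟨a, ha⟩ := exists_autReal_of_mem D hQS hα
    obtain ⟨b, hb, hbβ⟩ := exists_autReal_of_mem_sys D hQT hβ
    have hγ : AutReal ι hQS (α * β * α⁻¹) (a * b * a⁻¹) := (ha.mul hbβ).mul ha.inv
    have hγ' : AutReal ι hQS (α * β * α⁻¹) (ι ⟨s, hs⟩) := by
      intro x
      rw [← map_inv, ← map_mul, ← map_mul]
      congr 1
      exact Subtype.ext (hsγ x)
    have hcomm : ∀ x : S, (x : Ω) ∈ Q → ((ι ⟨s, hs⟩)⁻¹ * (a * b * a⁻¹)) * ι x = ι x * ((ι ⟨s, hs⟩)⁻¹ * (a * b * a⁻¹)) := by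
      intro x hx
      exact comm_of_realizedBy (φ := Q.subtype.comp (α * β * α⁻¹).toMonoidHom)
        (fun y => hQS ((α * β * α⁻¹) y).2) ((autReal_iff hQS _ _).1 hγ') ((autReal_iff hQS _ _).1 hγ) x hx
    have hu := D.club Q hQT hgood _ hcomm
    have hn : a * b * a⁻¹ ∈ G₀ := D.normal.conj_mem b hb a
    have hsG : ι ⟨s, hs⟩ ∈ G₀ := by
      have := G₀.mul_mem hn (G₀.inv_mem hu)
      rwa [mul_inv_rev, inv_inv, mul_inv_cancel_left] at this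
    exact (Helper85.mem_autInducedBy_iff T Q _).2 ⟨s, (D.mem_iff ⟨s, hs⟩).1 hsG, hsγ⟩
  · obtain ⟨c, hc, hcT⟩ := exists_cent_not_mem hS F hF D.closed hQ hgood
    obtain ⟨k, hk⟩ := D.adjust (ι ⟨s, hs⟩) ⟨c, hc.1⟩ hcT
    rw [← map_pow, ← map_mul] at hk
    have hkT := (D.mem_iff _).1 hk
    refine (Helper85.mem_autInducedBy_iff T Q _).2 ⟨c ^ k * s, hkT, fun x => ?_⟩
    rw [hsγ x]
    have hmem : s * (x : Ω) * s⁻¹ ∈ Q := by
      rw [← hsγ x]; exact ((α * β * α⁻¹) x).2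
    have hck : c ^ k ∈ Subgroup.centralizer (Q : Set Ω) := Subgroup.pow_mem _ hc.2 k
    have h1 := (Subgroup.mem_centralizer_iff.1 hck) _ hmem
    calc s * (x : Ω) * s⁻¹ = (s * (x : Ω) * s⁻¹) * c ^ k * (c ^ k)⁻¹ := by group
      _ = c ^ k * (s * (x : Ω) * s⁻¹) * (c ^ k)⁻¹ := by rw [h1]
      _ = c ^ k * s * (x : Ω) * (c ^ k * s)⁻¹ := by group

end Cfsg.Agent.Lib.Helper32
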