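import Cfsg.Agent.Lib.Helper32.PPowSatC

/-!
# Fully normalized subgroups are fully automized in the subsystem (helper32, for S5113)
-/

set_option autoImplicit false

namespace Cfsg.Agent.Lib.Helper32

open Cfsg Cfsg.FusionSystem Cfsg.Agent.Lib

variable {Ω : Type*} [Group Ω] {S : Subgroup Ω} {G : Type*} [Group G] {ι : S →* G} {G₀ : Subgroup G}
  {F : FusionSystem S} {T : Subgroup Ω} {p : ℕ}

theorem sys_isFullyAutomized [Finite S] [Fact p.Prime] (hS : IsPGroup p S) (hF : F.IsSaturated p)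
    (D : PPowData F T p ι G₀) {Q : Subgroup Ω} (hQT : Q ≤ T) (hQ : F.IsFullyNormalized Q) :
    D.sys.IsFullyAutomized p Q := by
  classical
  have hQS : Q ≤ S := hQT.trans D.le
  obtain ⟨⟨-, R, hR⟩, -⟩ := Helper87.fullyAutomized_receptive_of_fullyNormalized F hS hF hQ
  have hTE : autInducedBy T Q ≤ D.sys.autGroup Q := Helper87.autInducedBy_le_autGroup D.sys hQT
  have hEF : D.sys.autGroup Q ≤ F.autGroup Q := sys_autGroup_le D hQT
  have hfinQ : Finite Q := Helper87.finite_of_le hQS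
  have hfinA : Finite (MulAut Q) :=
    Finite.of_injective (fun α : MulAut Q => (α : Q → Q)) DFunLike.coe_injective
  have hKp : IsPGroup p ((autInducedBy T Q).subgroupOf (D.sys.autGroup Q)) :=
    (Helper87.autInducedBy_isPGroup (hS.to_le D.le) Q).comap_subtype
  refine ⟨hQT, ⟨(autInducedBy T Q).subgroupOf (D.sys.autGroup Q), hKp, fun {B} hB hKB => ?_⟩, rfl⟩
  -- a conjugate of `B` inside `Aut_S(Q)`
  have hB' : IsPGroup p ((B.map (D.sys.autGroup Q).subtype).subgroupOf (F.autGroup Q)) :=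
    (hB.map _).comap_subtype
  obtain ⟨c, hc⟩ := Helper87.exists_conj_mem_sylow R hB'
  have hkey : ∀ b : B, (c : MulAut Q) * ((b : D.sys.autGroup Q) : MulAut Q) * (c : MulAut Q)⁻¹ ∈
      autInducedBy T Q := by
    intro b
    have hbE : ((b : D.sys.autGroup Q) : MulAut Q) ∈ D.sys.autGroup Q := (b : D.sys.autGroup Q).2
    have hbF : ((b : D.sys.autGroup Q) : MulAut Q) ∈ F.autGroup Q := hEF hbE
    have h1 : (⟨((b : D.sys.autGroup Q) : MulAut Q), hbF⟩ : F.autGroup Q) ∈
        (B.map (D.sys.autGroup Q).subtype).subgroupOf (F.autGroup Q) := by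
      rw [Subgroup.mem_subgroupOf]
      exact ⟨b, b.2, rfl⟩
    have h2 := hc _ h1
    have h3 : (c * ⟨((b : D.sys.autGroup Q) : MulAut Q), hbF⟩ * c⁻¹ : F.autGroup Q) ∈
        (autInducedBy S Q).subgroupOf (F.autGroup Q) := by
      rw [← hR]; exact h2
    have h4 : (c : MulAut Q) * ((b : D.sys.autGroup Q) : MulAut Q) * (c : MulAut Q)⁻¹ ∈
        autInducedBy S Q := Subgroup.mem_subgroupOf.1 h3
    exact conj_mem_autInducedBy hS hF D hQT hQ c.2 hbE h4
  -- cardinality
  have hfinB : Finite B := inferInstance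
  have hcard1 : Nat.card B ≤ Nat.card (autInducedBy T Q) := by
    apply Nat.card_le_card_of_injective (fun b : B => (⟨_, hkey b⟩ : autInducedBy T Q))
    intro b b' hbb'
    have h1 : (c : MulAut Q) * ((b : D.sys.autGroup Q) : MulAut Q) * (c : MulAut Q)⁻¹ =
        (c : MulAut Q) * ((b' : D.sys.autGroup Q) : MulAut Q) * (c : MulAut Q)⁻¹ :=
      congrArg Subtype.val hbb'
    have h2 : ((b : D.sys.autGroup Q) : MulAut Q) = ((b' : D.sys.autGroup Q) : MulAut Q) :=
      mul_left_cancel (mul_right_cancel h1)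
    exact Subtype.ext (Subtype.ext h2)
  have hcard2 : Nat.card ((autInducedBy T Q).subgroupOf (D.sys.autGroup Q)) =
      Nat.card (autInducedBy T Q) :=
    Nat.card_congr (Subgroup.subgroupOfEquivOfLe hTE).toEquiv
  exact (Subgroup.eq_of_le_of_card_ge hKB (by rw [hcard2]; exact hcard1)).symm

end Cfsg.Agent.Lib.Helper32
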