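import Cfsg.Agent.Lib.Helper32.PPowSatD

/-!
# Fully normalized subgroups are receptive in the subsystem (helper32, for S5113)
-/

set_option autoImplicit false

namespace Cfsg.Agent.Lib.Helper32

open Cfsg Cfsg.FusionSystem Cfsg.Agent.Lib

variable {Ω : Type*} [Group Ω] {S : Subgroup Ω} {G : Type*} [Group G] {ι : S →* G} {G₀ : Subgroup G}
  {F : FusionSystem S} {T : Subgroup Ω} {p : ℕ}

theorem extender_mono {T S P : Subgroup Ω} (hTS : T ≤ S) (φ : P →* Ω) : extender T P φ ≤ extender S P φ := by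
  unfold extender
  apply Subgroup.closure_mono
  rintro g ⟨hgT, hgN, h, hh, hφ⟩
  exact ⟨hTS hgT, hgN, h, hTS hh, hφ⟩

theorem le_extender {T P : Subgroup Ω} (hP : P ≤ T) (φ : P →* Ω) (hφ : ∀ x : P, φ x ∈ T) :
    P ≤ extender T P φ := by
  intro g hg
  rw [Helper85.mem_extender_iff]
  refine ⟨hP hg, Subgroup.le_normalizer hg, φ ⟨g, hg⟩, hφ _, fun x hx => ?_⟩
  rw [← map_inv, ← map_mul, ← map_mul]
  rfl

theorem sys_isReceptive [Finite S] [Fact p.Prime] (hS : IsPGroup p S) (hF : F.IsSaturated p)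
    (D : PPowData F T p ι G₀) {Q : Subgroup Ω} (hQT : Q ≤ T) (hQ : F.IsFullyNormalized Q) :
    D.sys.IsReceptive Q := by
  have hQS : Q ≤ S := hQT.trans D.le
  obtain ⟨-, hQr⟩ := Helper87.fullyAutomized_receptive_of_fullyNormalized F hS hF hQ
  refine ⟨hQT, fun P φ hφ hr => ?_⟩
  obtain ⟨hφF, hPT, hφT, g, hg, hgφ⟩ := (D.mem_sys_iff φ).1 hφ
  have hPS : P ≤ S := hPT.trans D.le
  obtain ⟨ψF, hψF, hψFx⟩ := hQr.2 P φ hφF hr
  have hle : extender T P φ ≤ extender S P φ := extender_mono D.le φ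
  have hNT : extender T P φ ≤ T := (Helper87.extender_le T P φ).trans inf_le_left
  have hPN : P ≤ extender T P φ := le_extender hPT φ hφT
  have hψ : ψF.comp (Subgroup.inclusion hle) ∈ F.Hom (extender T P φ) := Helper85.restrict_mem F hψF hle
  have hψx : ∀ (x : Ω) (hP : x ∈ P) (hN : x ∈ extender T P φ),
      (ψF.comp (Subgroup.inclusion hle)) ⟨x, hN⟩ = φ ⟨x, hP⟩ := fun x hP hN => hψFx x hP (hle hN)
  obtain ⟨g', hg'⟩ := D.real _ _ hψ
  -- `g'` realizes `φ` on `P`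
  have hg'φ : RealizedBy ι φ g' := by
    intro x hx hφx
    have h1 := hg' ⟨x, hPN x.2⟩ hx (by rw [hψx x x.2 (hPN x.2)]; exact hφx)
    rw [← h1]
    congr 1
    exact Subtype.ext (hψx x x.2 (hPN x.2)).symm
  have hcomm : ∀ x : S, (x : Ω) ∈ P → (g⁻¹ * g') * ι x = ι x * (g⁻¹ * g') :=
    fun x hx => comm_of_realizedBy (fun y => D.le (hφT y)) hgφ hg'φ x hx
  by_cases hgood : Good F T Q
  · have hgoodP : Good F T P := good_of_isConj F ⟨φ, hφF, hr⟩ hgood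
    have hu := D.club P hPT hgoodP _ hcomm
    have hg'G : g' ∈ G₀ := by
      have := G₀.mul_mem hg hu
      rwa [mul_inv_cancel_left] at this
    exact ⟨_, D.mem_sys_of hψ hNT hg'G hg', hψx⟩
  · obtain ⟨c, hc, hcT⟩ := exists_cent_not_mem hS F hF D.closed hQ hgood
    obtain ⟨k, hk⟩ := D.adjust g' ⟨c, hc.1⟩ hcT
    have hckS : c ^ k ∈ S := S.pow_mem hc.1 k
    have hψS : ∀ x : extender T P φ, (ψF.comp (Subgroup.inclusion hle)) x ∈ S :=
      fun x => Helper85.apply_mem_of_mem_Hom F hψ x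
    let ψ' : extender T P φ →* Ω := (MulAut.conj (c ^ k)).toMonoidHom.comp (ψF.comp (Subgroup.inclusion hle))
    have hψ' : ψ' ∈ F.Hom (extender T P φ) :=
      Helper85.comp_mem' F hψ (F.conj_mem le_rfl hckS) hψS ψ' (fun x => rfl)
    have hψ'r : RealizedBy ι ψ' (ι ⟨c, hc.1⟩ ^ k * g') := by
      intro x hx hψ'x
      have h1 := hg' x hx (hψS x)
      rw [mul_inv_rev, ← map_pow]
      calc ι ⟨ψ' x, hψ'x⟩ = ι (⟨c, hc.1⟩ ^ k) * ι ⟨(ψF.comp (Subgroup.inclusion hle)) x, hψS x⟩ *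
            (ι (⟨c, hc.1⟩ ^ k))⁻¹ := by
            rw [← map_inv, ← map_mul, ← map_mul]
            congr 1
        _ = _ := by rw [h1]; simp only [mul_assoc]
    refine ⟨ψ', D.mem_sys_of hψ' hNT hk hψ'r, fun x hP hN => ?_⟩
    change c ^ k * (ψF.comp (Subgroup.inclusion hle)) ⟨x, hN⟩ * (c ^ k)⁻¹ = φ ⟨x, hP⟩
    rw [hψx x hP hN]
    have hmem : φ ⟨x, hP⟩ ∈ Q := hr ▸ ⟨⟨x, hP⟩, rfl⟩
    have hck : c ^ k ∈ Subgroup.centralizer (Q : Set Ω) := Subgroup.pow_mem _ hc.2 k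
    have h1 := (Subgroup.mem_centralizer_iff.1 hck) _ hmem
    rw [← h1, mul_inv_cancel_right]

end Cfsg.Agent.Lib.Helper32
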