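import Mathlib
import Cfsg.Agent.Lib.Helper11.QdSection
import Cfsg.Agent.Lib.Helper32.NormCtrlB
import Cfsg.Agent.Lib.Helper32.NormCtrlD

/-!
# A `Qd(p)`-section gives an `SL₂(p)`-section of a `p`-automizer (helper32)

If `Qd(p)` is involved in the finite group `G`, then some `p`-subgroup `Q` of `G` has subgroups
`C_G(Q) ≤ K ⊴ H ≤ N_G(Q)` with `H / K ≃ SL₂(p)`.  (Take `D ≤ G` of least order mapping onto `Qd(p)`; a
Sylow `p`-subgroup `R` of the preimage of the translation subgroup is normal in `D` by the Frattini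
argument and minimality, and `C_D(R)` acts trivially on the translations.)
-/

set_option autoImplicit false

namespace Cfsg.Agent.Lib.Helper32

open Cfsg Cfsg.Agent.Lib.Helper33 Cfsg.Agent.Lib.Helper11 Cfsg.Agent.Lib.Helper46

universe u v

/-- extending a homomorphism from `D` to `D C`, trivially on `C` -/
theorem exists_hom_sup_of_le_normalizer {G : Type u} [Group G] {T : Type v} [Group T]
    (D C : Subgroup G) (hDC : D ≤ Subgroup.normalizer (C : Set G)) (g : D →* T)
    (hg : ∀ d : D, (d : G) ∈ C → g d = 1) :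
    ∃ φ : ↥(D ⊔ C) →* T, ∀ (x : ↥(D ⊔ C)) (d : D) (c : G), c ∈ C → (x : G) = (d : G) * c →
      φ x = g d := by
  have hex : ∀ x : ↥(D ⊔ C), ∃ d : D, ∃ c ∈ C, (x : G) = (d : G) * c := by
    intro x
    obtain ⟨d, hd, c, hc, hx⟩ := exists_mul_of_mem_sup_of_le_normalizer hDC x.2
    exact ⟨⟨d, hd⟩, c, hc, hx⟩
  choose d₀ c₀ hc₀ hx₀ using hex
  have key : ∀ (x : ↥(D ⊔ C)) (d : D) (c : G), c ∈ C → (x : G) = (d : G) * c →
      g (d₀ x) = g d := by
    intro x d c hc hx
    have h1 : ((d⁻¹ * d₀ x : D) : G) ∈ C := by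
      have : ((d⁻¹ * d₀ x : D) : G) = c * (c₀ x)⁻¹ := by
        have h2 : (d : G) * c = (d₀ x : G) * c₀ x := by rw [← hx, ← hx₀ x]
        have h3 : (d₀ x : G) = (d : G) * c * (c₀ x)⁻¹ := by rw [h2]; group
        push_cast
        rw [h3]; group
      rw [this]
      exact C.mul_mem hc (C.inv_mem (hc₀ x))
    have h2 := hg _ h1
    rw [map_mul, map_inv] at h2
    exact (inv_mul_eq_one.mp h2).symm
  refine ⟨MonoidHom.mk' (fun x => g (d₀ x)) ?_, fun x d c hc hx => key x d c hc hx⟩
  intro x y
  rw [← map_mul]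
  apply key (x * y) (d₀ x * d₀ y) (((d₀ y : G)⁻¹ * c₀ x * (d₀ y : G)) * c₀ y)
  · apply C.mul_mem _ (hc₀ y)
    have hn : ((d₀ y : G))⁻¹ ∈ Subgroup.normalizer (C : Set G) :=
      Subgroup.inv_mem _ (hDC (d₀ y).2)
    have := (Subgroup.mem_normalizer_iff.mp hn (c₀ x)).mp (hc₀ x)
    simpa using this
  · push_cast
    rw [hx₀ x, hx₀ y]
    group

/-- a surjection `D → T` killing `C_D(R)`, `R ⊴ D`, gives a `T`-section of `N_G(R)/C_G(R)` -/
theorem exists_automizer_section {G : Type u} [Group G] {T : Type v} [Group T] (D : Subgroup G)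
    (g : D →* T) (hg : Function.Surjective g) (R : Subgroup ↥D) [hRn : R.Normal]
    (hC : Subgroup.centralizer (R : Set ↥D) ≤ g.ker) :
    ∃ (H K : Subgroup G) (_ : (K.subgroupOf H).Normal),
      Subgroup.centralizer ((R.map D.subtype : Subgroup G) : Set G) ≤ K ∧ K ≤ H ∧
      H ≤ Subgroup.normalizer ((R.map D.subtype : Subgroup G) : Set G) ∧
      Nonempty ((↥H ⧸ K.subgroupOf H) ≃* T) := by
  set Q := R.map D.subtype with hQ
  set C := Subgroup.centralizer (Q : Set G) with hCdef
  have hDN : D ≤ Subgroup.normalizer (Q : Set G) := by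
    intro d hd
    apply Subgroup.le_normalizer_map D.subtype
    refine ⟨⟨d, hd⟩, ?_, rfl⟩
    rw [Subgroup.normalizer_eq_top]; trivial
  have hDC : D ≤ Subgroup.normalizer (C : Set G) :=
    hDN.trans (normalizer_le_normalizer_centralizer Q)
  have hker : ∀ d : D, (d : G) ∈ C → g d = 1 := by
    intro d hd
    apply hC
    rw [Subgroup.mem_centralizer_iff]
    intro r hr
    apply Subtype.ext
    have := (Subgroup.mem_centralizer_iff.mp hd) (r : G) ⟨r, hr, rfl⟩
    simpa using this
  obtain ⟨φ, hφ⟩ := exists_hom_sup_of_le_normalizer D C hDC g hker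
  have hφs : Function.Surjective φ := by
    intro t
    obtain ⟨d, rfl⟩ := hg t
    refine ⟨⟨(d : G), le_sup_left (a := D) (b := C) d.2⟩, ?_⟩
    exact hφ _ d 1 C.one_mem (by simp)
  have heq : (φ.ker.map (D ⊔ C).subtype).subgroupOf (D ⊔ C) = φ.ker :=
    Subgroup.comap_map_eq_self_of_injective (D ⊔ C).subtype_injective φ.ker
  have hL : ((φ.ker.map (D ⊔ C).subtype).subgroupOf (D ⊔ C)).Normal := by rw [heq]; infer_instance
  refine ⟨D ⊔ C, φ.ker.map (D ⊔ C).subtype, hL, ?_, Subgroup.map_subtype_le _, ?_,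
    ⟨(QuotientGroup.quotientMulEquivOfEq heq).trans
      (QuotientGroup.quotientKerEquivOfSurjective φ hφs)⟩⟩
  · intro c hc
    refine ⟨⟨c, le_sup_right (a := D) (b := C) hc⟩, ?_, rfl⟩
    show (⟨c, le_sup_right (a := D) (b := C) hc⟩ : ↥(D ⊔ C)) ∈ φ.ker
    rw [MonoidHom.mem_ker]
    have := hφ ⟨c, le_sup_right (a := D) (b := C) hc⟩ 1 c hc (by simp)
    rw [this, map_one]
  · exact sup_le hDN (Subgroup.centralizer_le_normalizer _)

/-- an element of the affine group centralizing all translations is a translation -/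
theorem mem_affTransl_of_commute {R : Type*} [CommRing R]
    {Q : Subgroup (Matrix.SpecialLinearGroup (Fin 3) R)} (hQ : IsAff Q) (M : Q)
    (h : ∀ N ∈ affTransl hQ, N * M = M * N) : M ∈ affTransl hQ := by
  rw [mem_affTransl_iff]
  have h1 : ∀ w : Fin 2 → R,
      ((affLin hQ M : Matrix.SpecialLinearGroup (Fin 2) R) : Matrix (Fin 2) (Fin 2) R).mulVec w = w := by
    intro w
    have h2 := h (affMk hQ 1 w) (affMk_one_mem hQ w)
    have h3 : M * affMk hQ 1 w * M⁻¹ = affMk hQ 1 w := by rw [← h2]; group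
    have h4 := affMk_conj hQ (affLin hQ M) (affCol M) w
    rw [affMk_eta, h3] at h4
    have h5 := congrArg affCol h4
    rw [affCol_affMk, affCol_affMk] at h5
    exact h5.symm
  apply Subtype.ext
  apply Matrix.mulVec_injective
  funext w
  rw [h1 w, Matrix.SpecialLinearGroup.coe_one, Matrix.one_mulVec]

/-- in a minimal group mapping onto `Qd(p)` there is a normal `p`-subgroup whose centralizer acts
trivially on the translations -/
theorem exists_normal_pSubgroup_of_minimal {X : Type u} [Group X] [Finite X] {p : ℕ} [Fact p.Prime]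
    (f : X →* ↥(Cfsg.qd p)) (hf : Function.Surjective f)
    (hmin : ∀ E : Subgroup X, E.map f = ⊤ → E = ⊤) :
    ∃ R : Subgroup X, R.Normal ∧ IsPGroup p R ∧
      Subgroup.centralizer (R : Set X) ≤ ((affLin (isAff_qd p)).comp f).ker := by
  set hQ := isAff_qd p
  set Vh : Subgroup X := (affTransl hQ).comap f with hVh
  have hVhn : Vh.Normal := Subgroup.Normal.comap (affTransl_normal hQ) f
  have hVker : ((affLin hQ).comp f).ker = Vh := by
    rw [hVh, affTransl, MonoidHom.comap_ker]
  obtain ⟨S⟩ : Nonempty (Sylow p Vh) := inferInstance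
  set R := (S : Subgroup Vh).map Vh.subtype with hR
  have hRp : IsPGroup p R := S.isPGroup'.map _
  have hRV : R ≤ Vh := Subgroup.map_subtype_le _
  -- `f R` is the translation subgroup
  have hfR : R.map f = affTransl hQ := by
    have hsurj : Function.Surjective (f.subgroupComap (affTransl hQ)) :=
      f.subgroupComap_surjective_of_surjective _ hf
    have hT := (S.mapSurjective hsurj)
    have htop : (⊤ : Subgroup (affTransl hQ)) = (S.mapSurjective hsurj : Subgroup (affTransl hQ)) := by
      apply (S.mapSurjective hsurj).is_maximal' _ le_top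
      have : CharP (ZMod p) p := ZMod.charP p
      exact (affTransl_isPGroup hQ p).to_subgroup ⊤
    apply le_antisymm
    · rintro _ ⟨x, hx, rfl⟩
      exact hRV hx
    · intro t ht
      have h1 : (⟨t, ht⟩ : affTransl hQ) ∈ (S.mapSurjective hsurj : Subgroup (affTransl hQ)) := by
        rw [← htop]; trivial
      rw [Sylow.coe_mapSurjective] at h1
      obtain ⟨y, hy, hyt⟩ := h1
      refine ⟨(y : X), ⟨y, hy, rfl⟩, ?_⟩
      exact congrArg Subtype.val hyt
  -- `R` is normal by the Frattini argument and minimality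
  have hRn : R.Normal := by
    have h1 := Sylow.normalizer_sup_eq_top S
    rw [← hR] at h1
    have h2 : (Subgroup.normalizer (R : Set X)).map f = ⊤ := by
      have h3 : Vh.map f ≤ (Subgroup.normalizer (R : Set X)).map f := by
        have : Vh.map f ≤ affTransl hQ := by
          rw [hVh]; exact Subgroup.map_comap_le _ _
        rw [← hfR] at this
        exact this.trans (Subgroup.map_mono Subgroup.le_normalizer)
      have h4 : (Subgroup.normalizer (R : Set X) ⊔ Vh).map f = ⊤ := by
        rw [h1, ← MonoidHom.range_eq_map, MonoidHom.range_eq_top.mpr hf]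
      rw [Subgroup.map_sup, sup_eq_left.mpr h3] at h4
      exact h4
    exact Subgroup.normalizer_eq_top_iff.mp (hmin _ h2)
  refine ⟨R, hRn, hRp, ?_⟩
  rw [hVker]
  intro c hc
  rw [hVh, Subgroup.mem_comap]
  apply mem_affTransl_of_commute hQ
  intro N hN
  rw [← hfR] at hN
  obtain ⟨r, hr, rfl⟩ := hN
  rw [← map_mul, ← map_mul, (Subgroup.mem_centralizer_iff.mp hc) r hr]

/-- **`SL₂(p)`-free automizers imply `Qd(p)`-free.** -/
theorem not_involves_qd_of_free {G : Type u} [Group G] [Finite G] {p : ℕ} [Fact p.Prime]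
    (hfree : ∀ Q : Subgroup G, IsPGroup p ↥Q →
      ¬ ∃ (H K : Subgroup G) (_ : (K.subgroupOf H).Normal),
        Subgroup.centralizer (Q : Set G) ≤ K ∧ K ≤ H ∧ H ≤ Subgroup.normalizer (Q : Set G) ∧
        Nonempty ((↥H ⧸ K.subgroupOf H) ≃* Matrix.SpecialLinearGroup (Fin 2) (ZMod p))) :
    ¬ Cfsg.Involves ↥(Cfsg.qd p) G := by
  intro hinv
  rw [← involvesGrp_iff_involves] at hinv
  -- a subgroup of least order mapping onto `Qd(p)`
  have hex : ∃ n : ℕ, ∃ (D : Subgroup G) (f : D →* ↥(Cfsg.qd p)),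
      Function.Surjective f ∧ Nat.card D = n := by
    obtain ⟨D, f, hf⟩ := hinv
    exact ⟨_, D, f, hf, rfl⟩
  classical
  obtain ⟨D, f, hf, hn⟩ := Nat.find_spec hex
  have hmin : ∀ E : Subgroup ↥D, E.map f = ⊤ → E = ⊤ := by
    intro E hE
    by_contra hne
    have hlt : Nat.card E < Nat.card D := by
      rw [← Subgroup.card_top (G := ↥D)]
      exact card_lt_card_of_lt (lt_top_iff_ne_top.mpr hne)
    have hcard : Nat.card (E.map D.subtype) = Nat.card E :=
      Subgroup.card_map_of_injective D.subtype_injective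
    apply Nat.find_min hex (m := Nat.card E) (by rw [← hn] at *; exact hlt)
    refine ⟨E.map D.subtype, (f.comp E.subtype).comp
      (E.equivMapOfInjective D.subtype D.subtype_injective).symm.toMonoidHom, ?_, hcard⟩
    intro t
    have ht : t ∈ E.map f := by rw [hE]; trivial
    obtain ⟨e, he, rfl⟩ := ht
    refine ⟨E.equivMapOfInjective D.subtype D.subtype_injective ⟨e, he⟩, ?_⟩
    simp
  obtain ⟨R, hRn, hRp, hRC⟩ := exists_normal_pSubgroup_of_minimal f hf hmin
  have hgs : Function.Surjective ((affLin (isAff_qd p)).comp f) :=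
    (affLin_surjective (isAff_qd p)).comp hf
  obtain ⟨H, K, hKn, h1, h2, h3, h4⟩ :=
    exists_automizer_section D ((affLin (isAff_qd p)).comp f) hgs R hRC
  exact hfree (R.map D.subtype) (hRp.map _) ⟨H, K, hKn, h1, h2, h3, h4⟩

end Cfsg.Agent.Lib.Helper32
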