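import Mathlib
import Cfsg.Agent.Lib.Helper32.HHQStable
import Cfsg.Agent.Lib.Helper24.FittingStructure2
import Cfsg.Agent.Lib.Helper49.CharP
import Cfsg.Agent.Lib.Helper1.MinimalNormal
import Cfsg.Agent.S0044
import Cfsg.Agent.S4145

/-!
# Elements acting quadratically on the Fitting subgroup (helper32)

* `isPSolvable_of_isSolvable'`: a finite solvable group is `p`-solvable (light-import copy of
  helper77's `isPSolvable_of_isSolvable`).
* `mem_fittingSubgroup_of_quadratic`: let `Γ` be a finite solvable group such that every prime divisor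
  of `|F(Γ)|` is at least `5`. If `[F(Γ), x, x] = 1` then `x ∈ F(Γ)`.
-/

set_option autoImplicit false
open scoped commutatorElement
open Cfsg

namespace Cfsg.Agent.Lib.Helper32

open Cfsg.Agent.Lib.Helper97 Cfsg.Agent.Lib.Helper24

universe u

/-- A finite solvable group is `p`-solvable (proof of helper77, `Lib/Helper77/FongPrincipal.lean`). -/
theorem isPSolvable_of_isSolvable' (p : ℕ) [Fact p.Prime] :
    ∀ (n : ℕ) (G : Type u) [Group G] [Finite G] [Group.IsSolvable G], Nat.card G = n →
      IsPSolvable p G := by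
  intro n
  induction n using Nat.strong_induction_on with
  | _ n ih =>
    intro G _ _ _ hn
    by_cases hG : Subsingleton G
    · exact Cfsg.Agent.S4145.isPSolvable_of_subsingleton p
    · rw [not_subsingleton_iff_nontrivial] at hG
      obtain ⟨q, R, hq, hRn, hR1, hRq, -, -, -⟩ :=
        Cfsg.Agent.Lib.Helper1.exists_normal_pSubgroup_of_isSolvable (G := G)
      have hcard : Nat.card (G ⧸ R) < n := by
        rw [← hn, ← Subgroup.index_eq_card]
        have h1 : Nat.card R * R.index = Nat.card G := Subgroup.card_mul_index R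
        have h2 : 1 < Nat.card R := by
          rw [Finite.one_lt_card_iff_nontrivial]
          exact (Subgroup.nontrivial_iff_ne_bot R).mpr hR1
        have h3 : 0 < R.index := Nat.pos_of_ne_zero Subgroup.index_ne_zero_of_finite
        nlinarith
      have hquot : IsPSolvable p (G ⧸ R) := ih _ hcard (G ⧸ R) rfl
      apply Cfsg.Agent.S4145.isPSolvable_of_quotient p R _ hquot
      have : Fact q.Prime := ⟨hq⟩
      obtain ⟨k, hk⟩ := hRq.exists_card_eq
      by_cases hpq : q = p
      · left
        exact ⟨k, by rw [hk, hpq]⟩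
      · right
        rw [hk]
        apply Nat.Coprime.pow_left
        exact (Nat.coprime_primes hq (Fact.out : p.Prime)).mpr hpq

/-- The case of an element of prime power order. -/
theorem mem_fittingSubgroup_of_quadratic_of_pow {Γ : Type u} [Group Γ] [Finite Γ]
    [Group.IsSolvable Γ]
    (h5 : ∀ q : ℕ, q.Prime → q ∣ Nat.card (fittingSubgroup Γ) → 5 ≤ q)
    (r : ℕ) [hr : Fact r.Prime] (y : Γ) (j : ℕ) (hyr : y ^ r ^ j = 1)
    (hy : ⁅⁅fittingSubgroup Γ, Subgroup.zpowers y⁆, Subgroup.zpowers y⁆ = ⊥) :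
    y ∈ fittingSubgroup Γ := by
  have hord : orderOf y ∣ r ^ j := orderOf_dvd_of_pow_eq_one hyr
  -- `y` centralizes `O_q(Γ)` for `q ≠ r`
  have hcomm : y ∈ Subgroup.centralizer (pCoreCompl r Γ : Set Γ) := by
    have hle : pCoreCompl r Γ ≤ Subgroup.centralizer ({y} : Set Γ) := by
      unfold pCoreCompl
      apply iSup₂_le
      intro q hq a ha
      have : Fact (q : ℕ).Prime := ⟨q.2⟩
      rw [Subgroup.mem_centralizer_singleton_iff]
      have haF : a ∈ fittingSubgroup Γ := pCore_le_fittingSubgroup (q : ℕ) ha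
      have hcop : (orderOf y).Coprime (q : ℕ) := by
        apply Nat.Coprime.coprime_dvd_left hord
        apply Nat.Coprime.pow_left
        exact (Nat.coprime_primes hr.out q.2).mpr (fun h => hq h.symm)
      have hq1 := (quad_iff (fittingSubgroup Γ) y).mp hy a haF y (Subgroup.mem_zpowers y) y
        (Subgroup.mem_zpowers y)
      -- `⁅⁅a, y⁆, y⁆ = 1`
      rw [commutatorElement_eq_one_iff_commute] at hq1
      have hz : Commute y (y * a * y⁻¹ * a⁻¹) := by
        have e : y * a * y⁻¹ * a⁻¹ = ⁅a, y⁆⁻¹ := by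
          rw [commutatorElement_def]; group
        rw [e]
        exact (hq1.symm).inv_right
      have hzmem : y * a * y⁻¹ * a⁻¹ ∈ pCore (q : ℕ) Γ := by
        have hn : (pCore (q : ℕ) Γ).Normal := inferInstance
        exact mul_mem (hn.conj_mem a ha y) (inv_mem ha)
      obtain ⟨k, hk⟩ := (Cfsg.Agent.Lib.Helper55.isPGroup_pCore (G := Γ) (q : ℕ)) ⟨_, hzmem⟩
      have hk' : (y * a * y⁻¹ * a⁻¹) ^ (q : ℕ) ^ k = 1 := by
        have := congrArg Subtype.val hk
        rwa [Subgroup.coe_pow, Subgroup.coe_one] at this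
      exact (Cfsg.Agent.Lib.Helper49.commute_of_coprime_of_commute_comm hcop hz hk').eq.symm
    rw [Subgroup.mem_centralizer_iff]
    intro a ha
    have := hle ha
    rw [Subgroup.mem_centralizer_singleton_iff] at this
    exact this
  -- the normal subgroup `D` from `r`-stability
  have hD : ∃ D : Subgroup Γ, D.Normal ∧ y ∈ D ∧
      ∀ d ∈ D, ∃ k : ℕ, d ^ (r ^ k) ∈ Subgroup.centralizer (pCore r Γ : Set Γ) := by
    by_cases hbot : pCore r Γ = ⊥
    · refine ⟨⊤, inferInstance, Subgroup.mem_top _, fun d _ => ⟨0, ?_⟩⟩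
      rw [hbot, Subgroup.mem_centralizer_iff]
      intro a ha
      rw [Subgroup.coe_bot, Set.mem_singleton_iff] at ha
      rw [ha, one_mul, mul_one]
    · have hr5 : 5 ≤ r := by
        apply h5 r hr.out
        have h1 : r ∣ Nat.card (pCore r Γ) := by
          obtain ⟨k, hk⟩ := IsPGroup.iff_card.mp (Cfsg.Agent.Lib.Helper55.isPGroup_pCore (G := Γ) r)
          rw [hk]
          have hk0 : k ≠ 0 := by
            rintro rfl
            rw [pow_zero] at hk
            exact hbot (Subgroup.card_eq_one.mp hk)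
          exact dvd_pow_self _ hk0
        exact h1.trans (Subgroup.card_dvd_of_le (pCore_le_fittingSubgroup r))
      have hsolv : IsPSolvable r Γ := isPSolvable_of_isSolvable' r _ Γ rfl
      have hquad : ⁅⁅pCore r Γ, Subgroup.zpowers y⁆, Subgroup.zpowers y⁆ = ⊥ :=
        quad_of_subgroup_le (pCore_le_fittingSubgroup r) hy
      exact exists_normal_of_quadratic_pgroup_psolv hr5 hsolv (pCore r Γ)
        (Cfsg.Agent.Lib.Helper55.isPGroup_pCore r) y hquad
  obtain ⟨D, hDn, hyD, hDpow⟩ := hD
  -- `N = D ∩ C(pCoreCompl)`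
  have hCn : (Subgroup.centralizer (pCoreCompl r Γ : Set Γ)).Normal := Subgroup.normal_centralizer
  obtain ⟨N, hN⟩ : ∃ N : Subgroup Γ, N = D ⊓ Subgroup.centralizer (pCoreCompl r Γ : Set Γ) :=
    ⟨_, rfl⟩
  have hNn : N.Normal := by rw [hN]; infer_instance
  have hyN : y ∈ N := by rw [hN]; exact ⟨hyD, hcomm⟩
  have hnil : Group.IsNilpotent N := by
    apply isNilpotent_of_coprime_central r
    intro n hcop
    rw [← Subgroup.orderOf_coe] at hcop
    have hnN : (n : Γ) ∈ D ⊓ Subgroup.centralizer (pCoreCompl r Γ : Set Γ) := by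
      rw [← hN]; exact n.2
    obtain ⟨k, hk⟩ := hDpow _ hnN.1
    -- `n` is a power of `n ^ r ^ k`
    have hnC : (n : Γ) ∈ Subgroup.centralizer (pCore r Γ : Set Γ) := by
      have hc2 : (r ^ k).Coprime (orderOf (n : Γ)) := (Nat.Coprime.pow_right k hcop).symm
      obtain ⟨m, hm⟩ := exists_pow_eq_self_of_coprime hc2
      rw [← hm]
      exact pow_mem hk m
    -- `n` centralizes `F`, so lies in `F`
    have hnF : (n : Γ) ∈ Subgroup.centralizer (fittingSubgroup Γ : Set Γ) := by
      rw [Subgroup.mem_centralizer_iff]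
      intro f hf
      have h1 := fittingSubgroup_le_sup r hf
      have h2 : pCore r Γ ⊔ pCoreCompl r Γ ≤ Subgroup.centralizer ({(n : Γ)} : Set Γ) := by
        apply sup_le
        · intro a ha
          rw [Subgroup.mem_centralizer_singleton_iff]
          exact Subgroup.mem_centralizer_iff.mp hnC a ha
        · intro a ha
          rw [Subgroup.mem_centralizer_singleton_iff]
          exact Subgroup.mem_centralizer_iff.mp hnN.2 a ha
      have h3 := h2 h1
      rw [Subgroup.mem_centralizer_singleton_iff] at h3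
      exact h3
    have hnF' : (n : Γ) ∈ fittingSubgroup Γ := Cfsg.Agent.S0044.result hnF
    have hnc : (n : Γ) ∈ pCoreCompl r Γ := mem_pCoreCompl_of_coprime r _ hnF' hcop
    rw [Subgroup.mem_center_iff]
    intro z
    apply Subtype.ext
    have hzC : (z : Γ) ∈ Subgroup.centralizer (pCoreCompl r Γ : Set Γ) := by
      have : (z : Γ) ∈ D ⊓ Subgroup.centralizer (pCoreCompl r Γ : Set Γ) := by
        rw [← hN]; exact z.2
      exact this.2
    rw [Subgroup.coe_mul, Subgroup.coe_mul]
    exact ((Subgroup.mem_centralizer_iff.mp hzC) _ hnc).symm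
  have hmem : N ∈ {N : Subgroup Γ | N.Normal ∧ Group.IsNilpotent N} := ⟨hNn, hnil⟩
  exact (le_sSup hmem : N ≤ fittingSubgroup Γ) hyN

/-- **Quadratic elements on the Fitting subgroup lie in it**: `Γ` finite solvable, all prime divisors
of `|F(Γ)|` at least `5`, `[F(Γ), x, x] = 1` ⇒ `x ∈ F(Γ)`. -/
theorem mem_fittingSubgroup_of_quadratic {Γ : Type u} [Group Γ] [Finite Γ] [Group.IsSolvable Γ]
    (h5 : ∀ q : ℕ, q.Prime → q ∣ Nat.card (fittingSubgroup Γ) → 5 ≤ q) (x : Γ)
    (hx : ⁅⁅fittingSubgroup Γ, Subgroup.zpowers x⁆, Subgroup.zpowers x⁆ = ⊥) :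
    x ∈ fittingSubgroup Γ := by
  let P : ∀ p : Nat.Primes, Sylow (p : ℕ) (Subgroup.zpowers x) := fun p => Classical.arbitrary _
  have htop := Cfsg.Agent.Lib.Helper1.iSup_sylow_eq_top P
  have h1 : Subgroup.zpowers x = (⨆ p : Nat.Primes, (P p : Subgroup (Subgroup.zpowers x))).map
      (Subgroup.zpowers x).subtype := by
    rw [htop, ← MonoidHom.range_eq_map, Subgroup.range_subtype]
  have hle : Subgroup.zpowers x ≤ fittingSubgroup Γ := by
    rw [h1, Subgroup.map_iSup]
    apply iSup_le
    intro r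
    have : Fact (r : ℕ).Prime := ⟨r.2⟩
    rintro _ ⟨y, hy, rfl⟩
    obtain ⟨j, hj⟩ := (P r).isPGroup' ⟨y, hy⟩
    have hj' : (y : Γ) ^ (r : ℕ) ^ j = 1 := by
      have := congrArg (fun z : (P r : Subgroup (Subgroup.zpowers x)) =>
        ((z : Subgroup.zpowers x) : Γ)) hj
      simpa using this
    have hzle : Subgroup.zpowers (y : Γ) ≤ Subgroup.zpowers x := by
      rw [Subgroup.zpowers_le]
      exact y.2
    have hquad : ⁅⁅fittingSubgroup Γ, Subgroup.zpowers (y : Γ)⁆, Subgroup.zpowers (y : Γ)⁆ = ⊥ := by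
      rw [eq_bot_iff, ← hx]
      exact Subgroup.commutator_mono (Subgroup.commutator_mono le_rfl hzle) hzle
    exact mem_fittingSubgroup_of_quadratic_of_pow h5 (r : ℕ) (y : Γ) j hj' hquad
  exact hle (Subgroup.mem_zpowers x)

end Cfsg.Agent.Lib.Helper32
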